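import Cfsg.Agent.Lib.InvChar.HSRec.Data

/-!
Six involutions of the permutation model of the Higman–Sims group, and words for its two generators.
-/

set_option autoImplicit false

namespace CfsgLib.InvChar.HSRec

/-- The six permutations, as codes. -/
def hsCodes : List ℕ := [0x3f04d12887509e065a63770d2693668814084b2ad928ac5bf40b885f1b3f150901d8a64855957b0bc2d6a6e5ea56d180ce944449b0cf183b094aec7c772f0e518440c1f69d4ba9815452e7219892014997c9daa3b74568a, 0x998b0c88d76f3b7a2d883642aaa2a66848c1d3806397160e0897e54787024c27efadb7b8d1cb878d5b3a675ec823ea56871a3d728081431d41510a35e792182748b1c2464a94365c881553d5d0b55a8885895327b0c084d, 0x9b0dfe0bed5b5bb82c29f0e76a92a64d1981d3b1809716248831a549c5023c2c2f9db47addcb87576f3c66b131606404324ea809156c528aa25d089b07ab0c346c15044c0a94a55142e1f3c21cb49102dae1ac8d5e654cc, 0xa38b0d4ad6ae5dab78058af7ede09f4b1d0a6c949018c24aa041a24506510c034f9eab1611c874055aa6313974a5ac57ac79226a80ad051d1a3e0b73e6521c22fcf332459b42265cdcc44391cb769408871193ba871c4d9,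 0x8b4e0f40c0699536acafae5524f2948328a8fa0969729ec86c245b4868a692313a4ab4e05cb8051c84466b18deb00313278aadd076151d54b08edf3e290e1366ae3f1d32b532700635c05ee918a7a3080f4536306ddd2e, 0xb419e35ad148bfb38eda4597ccc99c406b90f4d52818eea3a3622f235ec8a8eb8707e19522814169b0313109a0986841d7273494c3cd855888597013a9cfbe8e0aab3088a0b856a6ed27b028cb6e958469f880175a69005]

/-- Words for the two generators. -/
def hsWords : List (List ℕ) := [[5, 4, 0, 2, 5, 2, 4, 3, 5, 3, 4, 5, 0, 4, 3], [1, 5, 4, 2, 5, 2, 0, 4, 5, 4, 5, 1, 0, 2]]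

end CfsgLib.InvChar.HSRec
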