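import Cfsg.Agent.Lib.InvChar.HSRec.CertK
import Cfsg.Agent.Lib.InvChar.HSRec.CertM
import Cfsg.Agent.Lib.InvChar.HSRec.CertG
import Cfsg.Agent.Lib.InvChar.HSRec.PermData
import Cfsg.Agent.Lib.InvChar.CosetGroup
import Cfsg.Agent.Lib.Golay.Co0HSSimple
import Cfsg.Agent.Lib.KnownA.HSModel.Group

/-!
Six involutions satisfying the relators generate a quotient of the Higman–Sims group.
-/

set_option autoImplicit false
set_option maxRecDepth 100000

namespace CfsgLib.InvChar.HSRec

open CfsgLib.InvChar.Coset CfsgLib.KnownA.HSModel CfsgLib.KnownA.PermCert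

/-- Whether a word is a rotation, reversed or not, of a member of a list. -/
noncomputable def rotIn (L : List (List ℕ)) (r : List ℕ) : Bool :=
  L.any fun s => (List.range s.length).any fun k =>
    leq r (s.drop k ++ s.take k) || leq r (s.drop k ++ s.take k).reverse

/-- Whether a word is trivial by the given relators. -/
noncomputable def relOK (r : List ℕ) : Bool :=
  leq r [] || (r.all (fun x => Nat.blt x 5) && Nat.beq (wval r) 0) || rotIn relsH r || rotIn relsN r ||
    (List.range 6).any fun x => leq r [x, x]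

theorem relsK_ok : CertK.rels.all (fun r => relOK r && r.all fun x => Nat.blt x 4) = true := by
  decide +kernel

theorem relsM_ok : CertM.rels.all (fun r => relOK r && r.all fun x => Nat.blt x 5) = true := by
  decide +kernel

theorem relsG_ok : CertG.rels.all (fun r => relOK r && r.all fun x => Nat.blt x 6) = true := by
  decide +kernel

theorem rotIn_sound {K : Type*} [Group K] {f : ℕ → K} (hf : ∀ x, f x * f x = 1)
    {L : List (List ℕ)} (hL : ∀ r ∈ L, wprod f r = 1) {r : List ℕ} (h : rotIn L r = true) :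
    wprod f r = 1 := by
  simp only [rotIn, List.any_eq_true, Bool.or_eq_true] at h
  obtain ⟨s, hs, k, -, e | e⟩ := h
  · rw [eq_of_leq _ _ e, wprod_rotate f _ _ (hL s hs)]
  · rw [eq_of_leq _ _ e, wprod_reverse f hf, wprod_rotate f _ _ (hL s hs), inv_one]

theorem relOK_sound {K : Type*} [Group K] {f : ℕ → K} (hf : ∀ x, f x * f x = 1)
    (hM : ∀ r : List ℕ, (∀ x ∈ r, x < 5) → wval r = 0 → wprod f r = 1)
    (hH : ∀ r ∈ relsH, wprod f r = 1) (hN : ∀ r ∈ relsN, wprod f r = 1)
    {r : List ℕ} (h : relOK r = true) : wprod f r = 1 := by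
  simp only [relOK, Bool.or_eq_true, Bool.and_eq_true, List.all_eq_true, List.any_eq_true] at h
  rcases h with (((h | h) | h) | h) | ⟨x, -, h⟩
  · rw [eq_of_leq _ _ h]; rfl
  · exact hM r (fun x hx => Nat.le_of_ble_eq_true (h.1 x hx)) (Nat.eq_of_beq_eq_true h.2)
  · exact rotIn_sound hf hH h
  · exact rotIn_sound hf hN h
  · rw [eq_of_leq _ _ h]
    simp [wprod, hf]

/-- All the relators used. -/
def allRels : List (List ℕ) := CertK.rels ++ CertM.rels ++ CertG.rels

/-- The code of a letter. -/
def pc (x : ℕ) : ℕ := hsCodes.getD x 0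

theorem perm_ok : ((List.range 6).all fun x => valid 100 (pc x) && eqW 100 [pc x, pc x] []) = true ∧
    (allRels.all fun r => r.all (fun x => Nat.blt x 6) && eqW 100 (r.map pc) []) = true ∧
    (hsWords.all fun w => w.all fun x => Nat.blt x 6) = true ∧
    ((List.range 2).all fun k => valid 100 (hsGens.getD k 0) &&
      eqW 100 ((hsWords.getD k []).map pc) [hsGens.getD k 0]) = true ∧
    hsWords.length = 2 ∧ hsGens.length = 2 := by
  decide +kernel

theorem subs_ok : CertK.subs = [] ∧ CertM.subs = (List.range 4).map (fun x => [x]) ∧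
    CertG.subs = (List.range 5).map (fun x => [x]) := by
  decide +kernel

/-- The permutation of a letter. -/
noncomputable def pf (x : ℕ) : Equiv.Perm (Fin 100) := if x < 6 then permOf 100 (pc x) else 1

theorem wprod_pf {r : List ℕ} (h : ∀ x ∈ r, x < 6) : wprod pf r = prodW 100 (r.map pc) := by
  simp only [wprod, prodW, List.map_map]
  exact congrArg List.prod (List.map_congr_left fun x hx => by simp [pf, h x hx])

theorem valid_pc {x : ℕ} (hx : x < 6) : valid 100 (pc x) = true := by
  have := List.all_eq_true.1 perm_ok.1 x (List.mem_range.2 hx)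
  exact (Bool.and_eq_true _ _ ▸ this : _ ∧ _).1

theorem pf_sq (x : ℕ) : pf x * pf x = 1 := by
  by_cases hx : x < 6
  · have := List.all_eq_true.1 perm_ok.1 x (List.mem_range.2 hx)
    rw [Bool.and_eq_true] at this
    have h := (eqW_iff (by simp [this.1]) (by simp)).1 this.2
    simpa [prodW, pf, hx] using h
  · simp [pf, hx]

theorem pf_rel {r : List ℕ} (hr : r ∈ allRels) : wprod pf r = 1 := by
  have h := List.all_eq_true.1 perm_ok.2.1 r hr
  simp only [Bool.and_eq_true, List.all_eq_true] at h
  have hlt : ∀ x ∈ r, x < 6 := fun x hx => Nat.le_of_ble_eq_true (h.1 x hx)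
  rw [wprod_pf hlt]
  refine (eqW_iff (fun c hc => ?_) (by simp)).1 h.2
  obtain ⟨x, hx, rfl⟩ := List.mem_map.1 hc
  exact valid_pc (hlt x hx)

/-- One step of the chain. -/
theorem step {D : Cert} {T : Table} {live fin : Tr} (hC : Covered D T live fin) {K : Type*} [Group K]
    (f : ℕ → K) (hf : ∀ x, f x * f x = 1) (n m : ℕ) (hmn : m ≤ n) (hn : T.g = n)
    (hlt : ∀ r ∈ D.rels, ∀ x ∈ r, x < n) (hR : ∀ r ∈ D.rels, wprod f r = 1)
    (hS : D.subs = (List.range m).map fun x => [x]) {N : ℕ}
    (hfin : Finite (lettersClosure f (List.range m)))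
    (hN : Nat.card (lettersClosure f (List.range m)) ≤ N) :
    Finite (lettersClosure f (List.range n)) ∧
      Nat.card (lettersClosure f (List.range n)) ≤ T.n * N := by
  have hmap : ∀ r : List ℕ, (∀ x ∈ r, x < n) →
      r.map (fun x => (List.range n).getD x 0) = r := fun r hr =>
    (List.map_congr_left fun x hx => by
      rw [List.getD_eq_getElem _ _ (by simpa using hr x hx), List.getElem_range]; rfl).trans (List.map_id r)
  refine hC.chain_step f hf (List.range n) (List.range m) (by simpa using hn) (fun r hr => ?_)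
    (fun x hx => List.mem_range.2 ((List.mem_range.1 hx).trans_le hmn)) (fun r hr => ?_) hfin hN
  · rw [wprod_subGen f _ r (by simpa using hlt r hr), hmap r (hlt r hr)]
    exact hR r hr
  · rw [hS] at hr
    obtain ⟨x, hx, rfl⟩ := List.mem_map.1 hr
    have hxn : x < n := (List.mem_range.1 hx).trans_le hmn
    refine ⟨?_, by simpa using hxn⟩
    rw [hmap [x] (by simpa using hxn)]
    exact List.mem_map.2 ⟨x, hx, rfl⟩

/-- The order bound. -/
theorem card_le {K : Type*} [Group K] (f : ℕ → K) (hf : ∀ x, f x * f x = 1)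
    (hR : ∀ r ∈ allRels, wprod f r = 1) :
    Finite (lettersClosure f (List.range 6)) ∧
      Nat.card (lettersClosure f (List.range 6)) ≤ 44352000 := by
  have hK := relsK_ok
  have hM := relsM_ok
  have hG := relsG_ok
  simp only [List.all_eq_true, Bool.and_eq_true] at hK hM hG
  have h0 : lettersClosure f (List.range 0) = ⊥ := by
    rw [lettersClosure, Subgroup.closure_eq_bot_iff]
    rintro _ ⟨x, hx, rfl⟩
    simp at hx
  have f0 : Finite (lettersClosure f (List.range 0)) := by rw [h0]; infer_instance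
  have c0 : Nat.card (lettersClosure f (List.range 0)) ≤ 1 := by rw [h0]; simp
  obtain ⟨f4, c4⟩ := step CertK.covered f hf 4 0 (by norm_num) rfl
    (fun r hr x hx => Nat.le_of_ble_eq_true ((hK r hr).2 x hx))
    (fun r hr => hR r (List.mem_append.2 (Or.inl (List.mem_append.2 (Or.inl hr)))))
    (subs_ok.1.trans rfl) f0 c0
  obtain ⟨f5, c5⟩ := step CertM.covered f hf 5 4 (by norm_num) rfl
    (fun r hr x hx => Nat.le_of_ble_eq_true ((hM r hr).2 x hx))
    (fun r hr => hR r (List.mem_append.2 (Or.inl (List.mem_append.2 (Or.inr hr)))))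
    subs_ok.2.1 f4 c4
  obtain ⟨f6, c6⟩ := step CertG.covered f hf 6 5 (by norm_num) rfl
    (fun r hr x hx => Nat.le_of_ble_eq_true ((hG r hr).2 x hx))
    (fun r hr => hR r (List.mem_append.2 (Or.inr hr)))
    subs_ok.2.2 f5 c5
  refine ⟨f6, c6.trans ?_⟩
  show 4125 * (7 * (1536 * 1)) ≤ 44352000
  norm_num

theorem rels_sound {K : Type*} [Group K] {f : ℕ → K} (hf : ∀ x, f x * f x = 1)
    (hM : ∀ r : List ℕ, (∀ x ∈ r, x < 5) → wval r = 0 → wprod f r = 1)
    (hH : ∀ r ∈ relsH, wprod f r = 1) (hN : ∀ r ∈ relsN, wprod f r = 1) :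
    ∀ r ∈ allRels, wprod f r = 1 := by
  intro r hr
  refine relOK_sound hf hM hH hN ?_
  have hK := relsK_ok
  have hM := relsM_ok
  have hG := relsG_ok
  simp only [List.all_eq_true, Bool.and_eq_true] at hK hM hG
  rcases List.mem_append.1 hr with hr | hr
  · rcases List.mem_append.1 hr with hr | hr
    · exact (hK r hr).1
    · exact (hM r hr).1
  · exact (hG r hr).1

/-- **Completion.** Six involutions satisfying the relators lie in an embedded copy of the
Higman–Sims group. -/
theorem exists_embedding {G : Type*} [Group G] (f : ℕ → G) (hf : ∀ x, f x * f x = 1)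
    (hM : ∀ r : List ℕ, (∀ x ∈ r, x < 5) → wval r = 0 → wprod f r = 1)
    (hH : ∀ r ∈ relsH, wprod f r = 1) (hN : ∀ r ∈ relsN, wprod f r = 1) (hne : f 0 ≠ 1) :
    ∃ ψ : CfsgLib.KnownA.HSModel.hsPermGroup →* G,
      Function.Injective ψ ∧ ∀ x < 6, f x ∈ ψ.range := by
  let F : ℕ → Equiv.Perm (Fin 100) × G := fun x => (pf x, f x)
  have hF : ∀ x, F x * F x = 1 := fun x => Prod.ext (pf_sq x) (hf x)
  have hw : ∀ L, wprod F L = (wprod pf L, wprod f L) := fun L => by
    induction L with
    | nil => rfl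
    | cons a L ih =>
      show F a * wprod F L = (pf a * wprod pf L, f a * wprod f L)
      rw [ih]; rfl
  obtain ⟨hfin, hcard⟩ := card_le F hF fun r hr => by
    rw [hw, pf_rel hr, rels_sound hf hM hH hN r hr]; rfl
  set Δ := lettersClosure F (List.range 6) with hΔ
  have hmem : ∀ x < 6, F x ∈ Δ := fun x hx => Subgroup.subset_closure
    ⟨x, by simpa using hx, by simp [subGen, hx]⟩
  let π : Δ →* Equiv.Perm (Fin 100) := (MonoidHom.fst _ _).comp Δ.subtype
  let q : Δ →* G := (MonoidHom.snd _ _).comp Δ.subtype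
  have hwmem : ∀ L : List ℕ, (∀ x ∈ L, x < 6) → wprod F L ∈ Δ := fun L hL => by
    refine list_prod_mem fun y hy => ?_
    obtain ⟨x, hx, rfl⟩ := List.mem_map.1 hy
    exact hmem x (hL x hx)
  have hle : hsPermGroup ≤ π.range := by
    refine genGroup_le fun c hc => ?_
    obtain ⟨k, hk, rfl⟩ := List.getElem_of_mem hc
    have hk2 : k < 2 := perm_ok.2.2.2.2.2 ▸ hk
    have h := List.all_eq_true.1 perm_ok.2.2.2.1 k (List.mem_range.2 hk2)
    rw [Bool.and_eq_true, List.getD_eq_getElem _ _ hk] at h
    have hkw : k < hsWords.length := perm_ok.2.2.2.2.1.symm ▸ hk2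
    have hlt : ∀ x ∈ hsWords.getD k [], x < 6 := fun x hx => by
      have h' := List.all_eq_true.1 perm_ok.2.2.1 (hsWords.getD k [])
        (by rw [List.getD_eq_getElem _ _ hkw]; exact List.getElem_mem hkw)
      exact Nat.le_of_ble_eq_true (List.all_eq_true.1 h' x hx)
    refine ⟨⟨_, hwmem _ hlt⟩, ?_⟩
    show (wprod F _).1 = _
    rw [hw, wprod_pf hlt]
    refine ((eqW_iff (fun d hd => ?_) (by simp [h.1])).1 h.2).trans (by simp [prodW])
    obtain ⟨x, hx, rfl⟩ := List.mem_map.1 hd
    exact valid_pc (hlt x hx)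
  have hrange : Nat.card π.range ≤ Nat.card Δ :=
    Nat.card_le_card_of_surjective π.rangeRestrict π.rangeRestrict_surjective
  have hge : Nat.card hsPermGroup ≤ Nat.card π.range := Subgroup.card_le_of_le hle
  rw [card_hsPermGroup] at hge
  have heq : hsPermGroup = π.range :=
    Subgroup.eq_of_le_of_card_ge hle (by rw [card_hsPermGroup]; omega)
  have hbij : Function.Bijective π.rangeRestrict :=
    (Nat.bijective_iff_surjective_and_card _).2 ⟨π.rangeRestrict_surjective, by omega⟩
  let e : Δ ≃* hsPermGroup :=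
    (MulEquiv.ofBijective π.rangeRestrict hbij).trans (MulEquiv.subgroupCongr heq.symm)
  refine ⟨q.comp e.symm.toMonoidHom, ?_, fun x hx => ⟨e ⟨F x, hmem x hx⟩, ?_⟩⟩
  · have := CfsgLib.Golay.isSimple_hsGroup
    have hs : IsSimpleGroup hsPermGroup := hsGroupEquiv.symm.isSimpleGroup
    rcases hs.eq_bot_or_eq_top_of_normal (q.comp e.symm.toMonoidHom).ker inferInstance with h | h
    · exact (MonoidHom.ker_eq_bot_iff _).1 h
    · refine absurd ?_ hne
      have h1 := MonoidHom.mem_ker.1 (h.ge (Subgroup.mem_top (e ⟨F 0, hmem 0 (by norm_num)⟩)))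
      simpa [q, F] using h1
  · simp [q, F]

end CfsgLib.InvChar.HSRec
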