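import Cfsg.Agent.Lib.Recog.HSTop.Model
import Cfsg.Agent.S2072

/-!
A group with an involution whose centraliser, of order 7680, lies in an embedded copy of the Higman–Sims group is
the Higman–Sims group.
-/

set_option autoImplicit false

open CfsgLib.KnownA.HSModel

namespace CfsgLib.InvChar.HSRec

/-- The copy is the whole group. -/
theorem iso_of_embedding {G : Type*} [Group G] [Finite G] (t : G) (ht : orderOf t = 2)
    (hcard : Nat.card (Subgroup.centralizer ({t} : Set G)) = 7680) (psi : hsPermGroup →* G)
    (hinj : Function.Injective psi) (hle : Subgroup.centralizer ({t} : Set G) ≤ psi.range) :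
    Cfsg.Spor.IsoHS G := by
  have htop := CfsgLib.Recog.HSTop.eq_top_of_hsPermGroup (MonoidHom.ofInjective hinj).symm
    (hle (Subgroup.mem_centralizer_singleton_iff.2 rfl)) ht hle hcard
  exact ⟨((Subgroup.topEquiv.symm.trans (MulEquiv.subgroupCongr htop.symm)).trans
    (MonoidHom.ofInjective hinj).symm).trans (hsGroupEquiv.symm.trans Cfsg.Agent.S2072.hsEquiv)⟩

end CfsgLib.InvChar.HSRec
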