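import Cfsg.Agent.Lib.InvChar.HSRec.RConfig

/-!
The six involutions and the relators coming from the centraliser of the involution.
-/

set_option autoImplicit false
set_option maxRecDepth 100000

namespace CfsgLib.InvChar.HSRec

open CfsgLib.InvChar.Coset Subgroup

variable {G : Type*} [Group G] [Finite G] {ψ : ℕ → G} {t : G} {M R Cy : Subgroup G} {f : G}

/-- The image of a code of `R` under the element of order five. -/
noncomputable def alpha (a : ℕ) : ℕ :=
  (List.rec 0 (fun p _ ih => bif Nat.beq p.1 a then p.2 else ih) alphaL : ℕ)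

/-- Check that `alpha` is multiplicative along the spanning tree. -/
noncomputable def chain : List (ℕ × ℕ × ℕ) → List ℕ → Bool := fun rows => List.rec (fun _ => true)
  (fun p _ ih acc => memb acc p.2.1 && memb acc p.2.2 && Nat.beq (wmul p.2.1 p.2.2) p.1 &&
    Nat.beq (wmul (alpha p.2.1) (alpha p.2.2)) (alpha p.1) && ih (p.1 :: acc)) rows

/-- The candidates for the second factor in `e f = f^k m`. -/
def ekL : List (List ℕ) := [[122, 5144, 5130, 98, 16, 58], [5176, 50, 5128, 4538, 4482, 58],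
  [18, 5178, 4528, 4520, 5162, 58], [5146, 74, 48, 114, 5160, 58], [106, 90, 4514, 56, 4496, 58]]

/-- Iterates of `alpha`. -/
noncomputable def alphaPow (k a : ℕ) : ℕ := Nat.rec a (fun _ ih => alpha ih) k

/-- The generators of `R`. -/
def gensR : List ℕ := [24, 82, 4488, 4506, 66, 26]

theorem chk_chain : chain parR [0, 24, 82, 4488, 4506, 66, 26] = true := by decide +kernel

theorem chk_cover_R : allL (fun r => memb (0 :: gensR ++ parR.map Prod.fst) r && Nat.blt (alpha r) 10752 &&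
    memb r2L (alpha r)) r2L = true := by decide +kernel

theorem chk_par : allL (fun p : ℕ × ℕ × ℕ => memb r2L p.1 && memb r2L p.2.1 && memb r2L p.2.2) parR = true := by
  decide +kernel

theorem chk_ek : allL (fun k => allL (fun i => force ((ekL.getD k []).getD i 0) fun w => memb r2L w &&
      Nat.beq (alphaPow k w) (wmul (wmul 4756 (alpha (gensR.getD i 0))) 4756))
    [0, 1, 2, 3, 4, 5]) [0, 1, 2, 3, 4] = true := by decide +kernel

theorem chk_m : allL (fun k => allB (fun x => !com x 32 ||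
    !allL (fun i => Nat.beq (wmul x (gensR.getD i 0)) (wmul ((ekL.getD k []).getD i 0) x)) [0, 1, 2, 3, 4, 5] ||
    (Nat.beq k 2 && (Nat.beq x 8241 || force (wmul 1061 x) fun q => !Nat.beq (wmul (wmul q q) q) 58))) 10752)
    [0, 1, 2, 3, 4] = true := by decide +kernel

/-- The six involutions. -/
def letters (ψ : ℕ → G) (f : G) (x : ℕ) : G :=
  if x < 5 then ψ (wLetters.getD x 0) else if x = 5 then f * ψ 5131 else 1

namespace Config

variable (K : Config ψ t M R f) (S : CSetup t R Cy M) (ht : orderOf t = 2)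
include K

theorem gpow : f ^ 5 = 1 := K.ord ▸ pow_orderOf_eq_one f

theorem pow_s (j : ℕ) : ψ 1220 * f ^ j * (ψ 1220)⁻¹ = f ^ (2 * j) := by rw [← conj_pow, K.sconj, pow_mul]

include S ht

theorem zmem {z : ℕ} (hz : z ∈ zL) : ψ z ∈ Cy := (K.rep.centre S ht (Or.inr rfl) K.R_iff).1 z hz

theorem fu : f * ψ 26 = ψ 26 * f :=
  S.five_centre K.fmem K.ord _ (K.zmem S ht (by decide))

theorem y_inv : ψ 5131 * f * ψ 5131 = f⁻¹ ∧ ψ 5131 * ψ 5131 = 1 := by
  have hy : ψ 5131 = ψ 1220 * ψ 1220 * ψ 26 := by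
    rw [← K.rep.mul 1220 (by decide) 1220 (by decide), ← K.rep.mul _ (wmul_lt (by decide) (by decide)) 26 (by decide),
      show wmul (wmul 1220 1220) 26 = 5131 by decide +kernel]
  have hyy : ψ 5131 * ψ 5131 = 1 := by
    rw [← K.rep.mul 5131 (by decide) 5131 (by decide), show wmul 5131 5131 = 0 by decide +kernel, K.rep.one]
  refine ⟨?_, hyy⟩
  calc ψ 5131 * f * ψ 5131 = ψ 5131 * f * (ψ 5131)⁻¹ := by rw [inv_eq_of_mul_eq_one_right hyy]
    _ = ψ 1220 * (ψ 1220 * f * (ψ 1220)⁻¹) * (ψ 1220)⁻¹ := by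
        rw [hy]
        simp only [mul_inv_rev, mul_assoc]
        rw [← mul_assoc (ψ 26), ← K.fu S ht, mul_assoc, mul_inv_cancel_left]
    _ = f ^ 4 := by rw [K.sconj, K.pow_s 2]
    _ = f⁻¹ := eq_inv_of_mul_eq_one_left (by rw [← pow_succ, K.gpow])

theorem letters_sq (x : ℕ) : letters ψ f x * letters ψ f x = 1 := by
  obtain ⟨h1, h2⟩ := K.y_inv S ht
  unfold letters
  split
  · rename_i hx
    rw [← K.rep.mul _ (by interval_cases x <;> decide) _ (by interval_cases x <;> decide)]
    have : wmul (wLetters.getD x 0) (wLetters.getD x 0) = 0 := by interval_cases x <;> decide +kernel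
    rw [this, K.rep.one]
  · split
    · rw [mul_assoc, ← mul_assoc (ψ 5131), h1, mul_inv_cancel]
    · rw [one_mul]

omit S ht in
theorem wprod_M {L : List ℕ} (hL : ∀ x ∈ L, x < 5) : wprod (letters ψ f) L = ψ (wval L) := by
  rw [← (K.rep.wval_lt L hL).2]
  simp only [wprod]
  congr 1
  exact List.map_congr_left fun x hx => if_pos (hL x hx)

/-- `f` acts on the codes of `R` by `alpha`. -/
theorem alpha_eq : ∀ r ∈ r2L, f * ψ r * f⁻¹ = ψ (alpha r) := by
  have hm := K.rep
  let P : ℕ → Prop := fun r => f * ψ r * f⁻¹ = ψ (alpha r)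
  let F : ℕ → G := fun k => f ^ k * ψ 24 * (f ^ k)⁻¹
  have hs24 : ψ 1220 * ψ 24 * (ψ 1220)⁻¹ = ψ 24 := by
    rw [mul_inv_eq_iff_eq_mul, ← hm.com_iff (by decide) (by decide)]; decide +kernel
  have hsF : ∀ k, ψ 1220 * F k * (ψ 1220)⁻¹ = F (2 * k) := fun k => by
    calc ψ 1220 * F k * (ψ 1220)⁻¹ = (ψ 1220 * f ^ k * (ψ 1220)⁻¹) * (ψ 1220 * ψ 24 * (ψ 1220)⁻¹) *
          (ψ 1220 * f ^ k * (ψ 1220)⁻¹)⁻¹ := by simp only [F]; group
      _ = F (2 * k) := by rw [K.pow_s, hs24]
  have h5 : ∀ k, F (k + 5) = F k := fun k => by simp only [F, pow_add, K.gpow, mul_one]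
  have hi : wmul 1220 1061 = 0 := by decide +kernel
  have g1 : ψ 82 = F 1 := by rw [← K.vconj]; simp [F]
  have g2 : ψ 4488 = F 2 := by
    rw [show (4488 : ℕ) = wmul (wmul 1220 82) 1061 by decide +kernel,
      hm.conj_eq (by decide) (by decide) (by decide) hi, g1, hsF]
  have g4 : ψ 66 = F 4 := by
    rw [show (66 : ℕ) = wmul (wmul 1220 4488) 1061 by decide +kernel,
      hm.conj_eq (by decide) (by decide) (by decide) hi, g2, hsF]
  have g3 : ψ 4506 = F 3 := by
    rw [show (4506 : ℕ) = wmul (wmul 1220 66) 1061 by decide +kernel,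
      hm.conj_eq (by decide) (by decide) (by decide) hi, g4, hsF]
    exact h5 3
  have g0 : ψ 24 = F 0 := by simp [F]
  have hFs : ∀ k, f * F k * f⁻¹ = F (k + 1) := fun k => by simp only [F, pow_succ']; group
  have hbase : ∀ a ∈ [0, 24, 82, 4488, 4506, 66, 26], P a := by
    intro a ha
    simp only [List.mem_cons, List.not_mem_nil, or_false] at ha
    rcases ha with rfl | rfl | rfl | rfl | rfl | rfl | rfl <;> simp only [P]
    · rw [show alpha 0 = 0 by decide +kernel, hm.one, mul_one, mul_inv_cancel]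
    · rw [show alpha 24 = 82 by decide +kernel, g0, hFs, g1]
    · rw [show alpha 82 = 4488 by decide +kernel, g1, hFs, g2]
    · rw [show alpha 4488 = 4506 by decide +kernel, g2, hFs, g3]
    · rw [show alpha 4506 = 66 by decide +kernel, g3, hFs, g4]
    · rw [show alpha 66 = 24 by decide +kernel, g4, hFs, g0]; exact h5 0
    · rw [show alpha 26 = 26 by decide +kernel, K.fu S ht, mul_inv_cancel_right]
  have key : ∀ rows acc, chain rows acc = true → (∀ p ∈ rows, p ∈ parR) → (∀ a ∈ acc, P a) →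
      ∀ a, (a ∈ acc ∨ a ∈ rows.map Prod.fst) → P a := by
    intro rows
    induction rows with
    | nil => intro acc _ _ hacc a ha; exact hacc a (by simpa using ha)
    | cons p rows ih =>
      intro acc hc hsub hacc a ha
      have hc' : (memb acc p.2.1 && memb acc p.2.2 && Nat.beq (wmul p.2.1 p.2.2) p.1 &&
          Nat.beq (wmul (alpha p.2.1) (alpha p.2.2)) (alpha p.1) && chain rows (p.1 :: acc)) = true := hc
      simp only [Bool.and_eq_true, memb_iff, Nat.beq_eq] at hc'
      obtain ⟨⟨⟨⟨h1, h2⟩, h3⟩, h4⟩, h5'⟩ := hc'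
      have hp := allL_spec chk_par p (hsub p List.mem_cons_self)
      simp only [Bool.and_eq_true, memb_iff] at hp
      have hlt : ∀ y ∈ r2L, alpha y < wcard := fun y hy => by
        have := allL_spec chk_cover_R y hy
        simp only [Bool.and_eq_true, Nat.blt_eq] at this
        exact this.1.2
      have e1 : P p.1 := by
        show f * ψ p.1 * f⁻¹ = ψ (alpha p.1)
        rw [← h4, hm.mul _ (hlt _ hp.1.2) _ (hlt _ hp.2), ← hacc _ h1, ← hacc _ h2, ← h3,
          hm.mul _ (lists_lt.2.1 _ hp.1.2) _ (lists_lt.2.1 _ hp.2)]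
        group
      refine ih (p.1 :: acc) h5' (fun q hq => hsub q (List.mem_cons_of_mem p hq))
        (fun b hb => (List.mem_cons.1 hb).elim (fun e => e ▸ e1) (hacc b)) a ?_
      rcases ha with ha | ha
      · exact Or.inl (List.mem_cons_of_mem _ ha)
      · rcases List.mem_cons.1 ha with rfl | ha
        · exact Or.inl List.mem_cons_self
        · exact Or.inr ha
  intro r hr
  have := allL_spec chk_cover_R r hr
  simp only [Bool.and_eq_true, memb_iff] at this
  have hm' := this.1.1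
  refine key parR _ chk_chain (fun p hp => hp) hbase r ?_
  rw [List.mem_append] at hm'
  exact hm'

/-- The decomposition `e f = f² m`. -/
theorem ef : ψ 4756 * f = f ^ 2 * ψ 8241 := by
  have hm := K.rep
  set H := centralizer ({t} : Set G)
  have he : ψ 4756 ∈ H := (hm.cent_iff (by decide)).1 (by decide +kernel)
  have hee : wmul 4756 4756 = 0 := by decide +kernel
  have hcov : ∀ g ∈ H, ∃ k < 5, ∃ m ∈ M, m ∈ H ∧ g = f ^ k * m := by
    intro g hg
    let L : Subgroup G := M ⊓ H
    let F : Fin 5 × L → H := fun p => ⟨f ^ p.1.val * p.2.1, H.mul_mem (H.pow_mem K.fmem _) p.2.2.2⟩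
    have hF : Function.Injective F := by
      rintro ⟨a, x⟩ ⟨b, y⟩ e
      have e : f ^ a.val * x.1 = f ^ b.val * y.1 := congrArg Subtype.val e
      have hmem : f ^ ((a : ℤ) - b) ∈ L := by
        have : f ^ ((a : ℤ) - b) = y.1 * x.1⁻¹ := by
          rw [sub_eq_neg_add, zpow_add, zpow_neg, zpow_natCast, zpow_natCast, inv_mul_eq_iff_eq_mul,
            ← mul_assoc, ← e]
          group
        rw [this]; exact L.mul_mem y.2 (L.inv_mem x.2)
      have hd5 : orderOf (f ^ ((a : ℤ) - b)) ∣ 5 := by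
        apply orderOf_dvd_of_pow_eq_one
        rw [← zpow_natCast, ← zpow_mul, mul_comm, zpow_mul, zpow_natCast, K.gpow, one_zpow]
      have hd : orderOf (f ^ ((a : ℤ) - b)) ∣ 1536 := by
        have h := orderOf_mk _ hmem ▸ orderOf_dvd_natCard (⟨_, hmem⟩ : L)
        rwa [show Nat.card L = 1536 from hm.card_MC] at h
      have h1 := Nat.eq_one_of_dvd_coprimes (by norm_num) hd5 hd
      rw [orderOf_eq_one_iff, ← orderOf_dvd_iff_zpow_eq_one, K.ord] at h1
      have hab : a = b := Fin.ext (by omega)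
      subst hab
      exact Prod.ext rfl (Subtype.ext (mul_left_cancel e))
    obtain ⟨⟨k, m⟩, e⟩ := (hF.bijective_of_nat_card_le (by
      rw [Nat.card_prod, Nat.card_fin, show Nat.card L = 1536 from hm.card_MC, S.card])).2 ⟨g, hg⟩
    exact ⟨k.val, k.2, m.1, m.2.1, m.2.2, (congrArg Subtype.val e).symm⟩
  obtain ⟨k, hk, m, hmM, hmH, hek⟩ := hcov _ (H.mul_mem he K.fmem)
  obtain ⟨x, hx, hxc, rfl⟩ := hm.code hmM hmH
  have hk' : k ∈ [0, 1, 2, 3, 4] := by interval_cases k <;> simp
  have halpha : ∀ j w, w ∈ r2L → alphaPow j w ∈ r2L ∧ f ^ j * ψ w * (f ^ j)⁻¹ = ψ (alphaPow j w) := by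
    intro j w hw
    induction j with
    | zero => exact ⟨hw, by simp [alphaPow]⟩
    | succ j ih =>
      have h := allL_spec chk_cover_R _ ih.1
      simp only [Bool.and_eq_true, memb_iff] at h
      refine ⟨h.2, ?_⟩
      show f ^ (j + 1) * ψ w * (f ^ (j + 1))⁻¹ = ψ (alpha (alphaPow j w))
      rw [← K.alpha_eq S ht _ ih.1, ← ih.2, pow_succ']
      group
  have hrow : allL (fun i => Nat.beq (wmul x (gensR.getD i 0)) (wmul ((ekL.getD k []).getD i 0) x))
      [0, 1, 2, 3, 4, 5] = true := by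
    have hall : ∀ L : List ℕ, (∀ i ∈ L, i ∈ [0, 1, 2, 3, 4, 5]) →
        allL (fun i => Nat.beq (wmul x (gensR.getD i 0)) (wmul ((ekL.getD k []).getD i 0) x)) L = true := by
      intro L
      induction L with
      | nil => intro _; rfl
      | cons i L ih =>
        intro hL
        show (Nat.beq _ _ && allL _ L) = true
        rw [Bool.and_eq_true, Nat.beq_eq]
        refine ⟨?_, ih fun y hy => hL y (List.mem_cons_of_mem i hy)⟩
        have hi := hL i List.mem_cons_self
        have hg : gensR.getD i 0 ∈ r2L := by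
          simp only [List.mem_cons, List.not_mem_nil, or_false] at hi
          rcases hi with rfl | rfl | rfl | rfl | rfl | rfl <;> decide +kernel
        have hc := allL_spec (allL_spec chk_ek k hk') i hi
        simp only [force_eq, Bool.and_eq_true, memb_iff, Nat.beq_eq] at hc
        obtain ⟨hw, hc⟩ := hc
        set g := gensR.getD i 0
        set w := (ekL.getD k []).getD i 0
        have hglt := lists_lt.2.1 g hg
        have hwlt := lists_lt.2.1 w hw
        have hag := allL_spec chk_cover_R g hg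
        simp only [Bool.and_eq_true, Nat.blt_eq] at hag
        rw [← hm.eq_iff (wmul_lt hx hglt) (wmul_lt hwlt hx), hm.mul x hx g hglt, hm.mul w hwlt x hx,
          ← mul_inv_eq_iff_eq_mul]
        have h1 := (halpha k w hw).2
        rw [hc, hm.conj_eq (by decide) (by decide) hag.1.2 hee, ← K.alpha_eq S ht g hg] at h1
        calc ψ x * ψ g * (ψ x)⁻¹ = ((f ^ k)⁻¹ * (f ^ k * ψ x)) * ψ g * ((f ^ k)⁻¹ * (f ^ k * ψ x))⁻¹ := by group
          _ = (f ^ k)⁻¹ * (ψ 4756 * (f * ψ g * f⁻¹) * (ψ 4756)⁻¹) * f ^ k := by rw [← hek]; group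
          _ = ψ w := by rw [← h1]; group
    exact hall _ fun i hi => hi
  have hcase := allB_spec (allL_spec chk_m k hk') x hx
  simp only [hxc, hrow, Bool.not_true, Bool.false_or, Bool.and_eq_true, Bool.or_eq_true, Nat.beq_eq, force_eq,
    Bool.not_eq_true'] at hcase
  obtain ⟨rfl, hcase⟩ := hcase
  rcases hcase with rfl | hq
  · exact hek
  exfalso
  have hi : wmul 1061 1220 = 0 := by decide +kernel
  have hsi : ψ 1061 = (ψ 1220)⁻¹ := eq_inv_of_mul_eq_one_left (by
    rw [← hm.mul 1061 (by decide) 1220 (by decide), hi, hm.one])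
  set q := wmul 1061 x with hqdef
  have hqlt : q < wcard := wmul_lt (by decide) hx
  set g0 := wmul 1061 4756 with hg0
  have hg0lt : g0 < wcard := wmul_lt (by decide) (by decide)
  have hgf : ψ g0 * f = f * ψ q := by
    rw [hg0, hm.mul 1061 (by decide) 4756 (by decide), mul_assoc, hek, hqdef, hm.mul 1061 (by decide) x hx,
      ← mul_assoc, ← mul_assoc]
    congr 1
    rw [hsi]
    calc (ψ 1220)⁻¹ * f ^ 2 = (ψ 1220)⁻¹ * (ψ 1220 * f * (ψ 1220)⁻¹) := by rw [K.sconj]
      _ = f * (ψ 1220)⁻¹ := by group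
  have h58 : ψ (wmul (wmul q q) q) = ψ 58 := by
    rw [hm.mul _ (wmul_lt hqlt hqlt) q hqlt, hm.mul q hqlt q hqlt]
    have hg : ψ g0 * ψ g0 * ψ g0 = ψ 58 := by
      rw [← hm.mul g0 hg0lt g0 hg0lt, ← hm.mul _ (wmul_lt hg0lt hg0lt) g0 hg0lt]
      exact congrArg ψ (by decide +kernel)
    have hq' : ψ q = f⁻¹ * ψ g0 * f := by rw [mul_assoc, hgf, inv_mul_cancel_left]
    rw [hq', show f⁻¹ * ψ g0 * f * (f⁻¹ * ψ g0 * f) * (f⁻¹ * ψ g0 * f) = f⁻¹ * (ψ g0 * ψ g0 * ψ g0) * f by group,
      hg, mul_assoc, ← S.five_centre K.fmem K.ord _ (K.zmem S ht (by decide)), inv_mul_cancel_left]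
  rw [hm.eq_iff (wmul_lt (wmul_lt hqlt hqlt) hqlt) (by decide)] at h58
  rw [h58] at hq
  exact absurd hq (by decide)

/-- **The relators of the centraliser.** -/
theorem relH : ∀ r ∈ relsH, wprod (letters ψ f) r = 1 := by
  obtain ⟨hy, hyy⟩ := K.y_inv S ht
  have hm := K.rep
  set F := letters ψ f with hF
  have app : ∀ A B, wprod F (A ++ B) = wprod F A * wprod F B := wprod_append F
  have wM : ∀ L : List ℕ, (∀ x ∈ L, x < 5) → wprod F L = ψ (wval L) := fun L hL => K.wprod_M hL
  have h50 : wprod F [5, 0] = f := by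
    simp only [wprod, List.map_cons, List.map_nil, List.prod_cons, List.prod_nil, mul_one]
    show f * ψ 5131 * ψ 5131 = f
    rw [mul_assoc, hyy, mul_one]
  have h05 : wprod F [0, 5] = f⁻¹ := by
    simp only [wprod, List.map_cons, List.map_nil, List.prod_cons, List.prod_nil, mul_one]
    show ψ 5131 * (f * ψ 5131) = f⁻¹
    rw [← mul_assoc, hy]
  have conjRel : ∀ (A B : List ℕ) (a b c : ℕ), (∀ x ∈ A, x < 5) → (∀ x ∈ B, x < 5) → wval A = a → wval B = c →
      b < wcard → c < wcard → wmul b c = 0 → f * ψ a * f⁻¹ = ψ b →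
      wprod F ([5, 0] ++ A ++ [0, 5] ++ B) = 1 := by
    intro A B a b c hA hB ea ec hb hc hbc e
    rw [app, app, app, h50, h05, wM A hA, wM B hB, ea, ec, e, ← hm.mul b hb c hc, hbc, hm.one]
  intro r hr
  simp only [relsH, List.mem_cons, List.not_mem_nil, or_false] at hr
  rcases hr with rfl | rfl | rfl | rfl | rfl | rfl | rfl
  · simp [wprod, hF, K.letters_sq S ht]
  · rw [show ([5, 0, 5, 0, 5, 0, 5, 0, 5, 0] : List ℕ) = [5, 0] ++ [5, 0] ++ [5, 0] ++ [5, 0] ++ [5, 0] from rfl,
      app, app, app, app, h50]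
    simpa [pow_succ, mul_assoc] using K.gpow
  · exact conjRel [1, 0, 1, 2, 0, 2] [3, 0, 3, 1, 0, 2, 0] 24 82 (wval [3, 0, 3, 1, 0, 2, 0]) (by decide)
      (by decide) (by decide +kernel) rfl (by decide) (hm.wval_lt _ (by decide)).1 (by decide +kernel) K.vconj
  · refine conjRel [0, 2, 0, 1, 3, 0, 3] [2, 1, 0, 3, 2, 1, 3, 0] 82 4488 (wval [2, 1, 0, 3, 2, 1, 3, 0])
      (by decide) (by decide) (by decide +kernel) rfl (by decide) (hm.wval_lt _ (by decide)).1
      (by decide +kernel) ?_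
    rw [K.alpha_eq S ht 82 (by decide), show alpha 82 = 4488 by decide +kernel]
  · refine conjRel [0, 1, 0, 1, 3, 0, 3] [3, 0, 3, 1, 0, 1, 0] 26 26 (wval [3, 0, 3, 1, 0, 1, 0])
      (by decide) (by decide) (by decide +kernel) rfl (by decide) (hm.wval_lt _ (by decide)).1
      (by decide +kernel) ?_
    rw [K.fu S ht, mul_inv_cancel_right]
  · rw [show ([1, 3, 1, 2, 0, 2, 0, 5, 0, 0, 2, 0, 2, 1, 3, 1, 0, 5, 0, 5] : List ℕ) =
      [1, 3, 1, 2, 0, 2, 0] ++ [5, 0] ++ [0, 2, 0, 2, 1, 3, 1] ++ [0, 5] ++ [0, 5] from rfl,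
      app, app, app, app, h50, h05, wM [1, 3, 1, 2, 0, 2, 0] (by decide), wM [0, 2, 0, 2, 1, 3, 1] (by decide),
      show wval [1, 3, 1, 2, 0, 2, 0] = 1220 by decide +kernel,
      show wval [0, 2, 0, 2, 1, 3, 1] = 1061 by decide +kernel]
    have hsi : ψ 1061 = (ψ 1220)⁻¹ := eq_inv_of_mul_eq_one_left (by
      rw [← hm.mul 1061 (by decide) 1220 (by decide), show wmul 1061 1220 = 0 by decide +kernel, hm.one])
    rw [hsi, K.sconj]
    group
  · rw [show ([1, 5, 0, 3, 2, 1, 0, 2, 1, 0, 5, 0, 5] : List ℕ) =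
      [1] ++ [5, 0] ++ [3, 2, 1, 0, 2, 1] ++ [0, 5] ++ [0, 5] from rfl,
      app, app, app, app, h50, h05, wM [1] (by decide), wM [3, 2, 1, 0, 2, 1] (by decide),
      show wval [1] = 4756 by decide +kernel, K.ef S ht, mul_assoc (f ^ 2),
      ← hm.mul 8241 (by decide) _ (hm.wval_lt _ (by decide)).1,
      show wmul 8241 (wval [3, 2, 1, 0, 2, 1]) = 0 by decide +kernel, hm.one, mul_one]
    group

end Config

end CfsgLib.InvChar.HSRec
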