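import Cfsg.Agent.Lib.InvChar.J3Table
import Cfsg.Agent.Lib.InvChar.HSRec.CertH
import Cfsg.Agent.Lib.InvChar.HSRec.HData
import Cfsg.Agent.Lib.InvChar.HSRec.RHRels

/-!
Computing in `C(t)` and the relators coming from the normaliser of an elementary group of order sixteen.
-/

set_option autoImplicit false
set_option maxRecDepth 100000
set_option Elab.async false

namespace CfsgLib.InvChar.HSRec

open CfsgLib.InvChar.Coset Subgroup

/-- The letters of the centraliser. -/
def letH : List ℕ := [0, 1, 2, 3, 5]

/-- The word of an element of the centraliser. -/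
noncomputable def wdH (i : ℕ) : List ℕ := parWord parH 10 i

/-- The word of an element of `C_M(t)`. -/
noncomputable def wdC (x : ℕ) : List ℕ := parWord parC 10 x

/-- The number of an element of `C_M(t)`. -/
noncomputable def hC (x : ℕ) : ℕ := CertH.table.val (wdC x)

/-- Position of a letter of the centraliser. -/
noncomputable def posH (x : ℕ) : ℕ := bif Nat.beq x 5 then 4 else x

/-- One conjugation. -/
noncomputable def stepH (x h : ℕ) (k : ℕ → Bool) : Bool :=
  bif Nat.beq x 4 then
    force (field codeH 128 20 h) fun y => Nat.blt y 10752 && com y 32 && Nat.beq (hC y) h &&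
      force (wmul (wmul 896 y) 896) fun y' => Nat.blt y' 10752 && com y' 32 && force (hC y') k
  else Nat.blt x 6 && force (CertH.table.val (posH x :: wdH h ++ [posH x])) k

/-- Conjugation by the product of a word. -/
noncomputable def segRun (L : List ℕ) : ℕ → (ℕ → Bool) → Bool :=
  List.rec (fun h k => k h) (fun x _ ih h k => ih h fun h' => stepH x h' k) L

theorem wdH_ok : ∀ i < 7680, CertH.table.val (wdH i) = i ∧ ∀ x ∈ wdH i, x < CertH.table.g := by decide +kernel

theorem wdC_ok : allB (fun x => !com x 32 ||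
    (Nat.beq (wval (wdC x)) x && allL (fun a => Nat.blt a 4) (wdC x))) 10752 = true := by decide +kernel

theorem chk_E : allL (fun e => Nat.blt e 10752 && com e 32) wE = true := by decide +kernel

/-- Check a segment. -/
noncomputable def segRow (p : ℕ × List ℕ × List ℕ) : Bool :=
  allB (fun i => segRun p.2.1 (hC (wE.getD i 0)) (fun h => Nat.beq h (hC (wE.getD (p.2.2.getD i 0) 0))) &&
    Nat.beq (Nat.rec i (fun _ j => p.2.2.getD j 0) p.1) i && Nat.blt (p.2.2.getD i 0) 16 &&
    (Nat.beq i 0 || !Nat.beq (p.2.2.getD i 0) i)) 16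

theorem chk_seg : allL segRow segL = true := by decide +kernel

theorem chk_centE : allB (fun i =>
    !allL (fun e => Nat.beq (CertH.table.val (wdH i ++ wdC e)) (CertH.table.val (wdC e ++ wdH i))) wE ||
    memb (wE.map hC) i) 7680 = true := by decide +kernel

/-- A relator of the certificate follows from those of the centraliser. -/
noncomputable def relOKH (r : List ℕ) : Bool :=
  force (r.length) fun n =>
  (allL (fun x => Nat.blt x 4) r && Nat.beq (wval r) 0) || (leq r [4, 4]) ||
    (allL (fun x => Nat.blt x 5) r && (List.rec false (fun r0 _ ih => ih ||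
      (allB (fun k => !(leq (r.map fun x => bif Nat.beq x 4 then 5 else x) (r0.drop k ++ r0.take k) ||
        leq (r.map fun x => bif Nat.beq x 4 then 5 else x) (r0.drop k ++ r0.take k).reverse)) (n + 1) == false)) relsH : Bool))

theorem chk_relsH : allL relOKH CertH.cert.rels = true := by decide +kernel

namespace Config

variable {G : Type*} [Group G] [Finite G] {ψ : ℕ → G} {t : G} {M R Cy : Subgroup G} {f : G}
  (K : Config ψ t M R f) (S : CSetup t R Cy M) (ht : orderOf t = 2)
include K S ht

theorem gens_sq : ∀ x, subGen (letters ψ f) letH x * subGen (letters ψ f) letH x = 1 := by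
  intro x
  unfold subGen
  split <;> simp [K.letters_sq S ht]

theorem wprod_sub (L : List ℕ) (hL : ∀ x ∈ L, x < 5) :
    wprod (subGen (letters ψ f) letH) L = wprod (letters ψ f) (L.map fun x => letH.getD x 0) :=
  wprod_subGen (letters ψ f) letH L hL

theorem gens_rels : ∀ r ∈ CertH.cert.rels, wprod (subGen (letters ψ f) letH) r = 1 := by
  intro r hr
  have h := allL_spec chk_relsH r hr
  simp only [relOKH, force_eq, Bool.or_eq_true, Bool.and_eq_true] at h
  rcases h with (⟨h4, h0⟩ | h) | ⟨h5, h⟩
  · have hlt : ∀ x ∈ r, x < 4 := fun x hx => by simpa [Nat.blt] using allL_spec h4 x hx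
    rw [K.wprod_sub S ht r (fun x hx => (hlt x hx).trans (by norm_num))]
    have : (r.map fun x => letH.getD x 0) = r := by
      conv_rhs => rw [← List.map_id r]
      exact List.map_congr_left fun x hx => by have := hlt x hx; interval_cases x <;> rfl
    rw [this, K.wprod_M (fun x hx => (hlt x hx).trans (by norm_num)), Nat.eq_of_beq_eq_true h0, K.rep.one]
  · rw [eq_of_leq _ _ h]
    simp [wprod, K.gens_sq S ht]
  · have hlt : ∀ x ∈ r, x < 5 := fun x hx => by simpa [Nat.blt] using allL_spec h5 x hx
    rw [K.wprod_sub S ht r hlt]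
    have hmap : (r.map fun x => letH.getD x 0) = r.map fun x => bif Nat.beq x 4 then 5 else x :=
      List.map_congr_left fun x hx => by have := hlt x hx; interval_cases x <;> rfl
    rw [hmap]
    generalize (r.map fun x => bif Nat.beq x 4 then 5 else x) = w at h ⊢
    have key : ∀ L : List (List ℕ), (∀ r0 ∈ L, r0 ∈ relsH) →
        (List.rec false (fun r0 _ ih => ih ||
          (allB (fun k => !(leq w (r0.drop k ++ r0.take k) || leq w (r0.drop k ++ r0.take k).reverse))
            (r.length + 1) == false)) L : Bool) = true → wprod (letters ψ f) w = 1 := by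
      intro L
      induction L with
      | nil => intro _ h; exact Bool.noConfusion h
      | cons r0 L ih =>
        intro hL h
        change (_ || _) = true at h
        rw [Bool.or_eq_true] at h
        rcases h with h | h
        · exact ih (fun y hy => hL y (List.mem_cons_of_mem r0 hy)) h
        · rw [beq_iff_eq] at h
          by_contra hne
          apply Bool.eq_false_iff.1 h
          have h1 := K.relH S ht r0 (hL r0 List.mem_cons_self)
          have hk : ∀ n, allB (fun k => !(leq w (r0.drop k ++ r0.take k) ||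
              leq w (r0.drop k ++ r0.take k).reverse)) n = true := by
            intro n
            induction n with
            | zero => rfl
            | succ n ihn =>
              show (!(_ || _) && allB _ n) = true
              rw [ihn, Bool.and_true, Bool.not_eq_true', Bool.or_eq_false_iff]
              constructor <;> rw [Bool.eq_false_iff] <;> intro e <;> apply hne <;> rw [eq_of_leq _ _ e]
              · exact wprod_rotate _ _ _ h1
              · rw [wprod_reverse _ (K.letters_sq S ht), wprod_rotate _ _ _ h1, inv_one]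
          exact hk _
    exact key relsH (fun _ h => h) h

theorem letters_mem : ∀ x ∈ letH, letters ψ f x ∈ centralizer ({t} : Set G) := by
  intro x hx
  simp only [letH, List.mem_cons, List.not_mem_nil, or_false] at hx
  rcases hx with rfl | rfl | rfl | rfl | rfl
  all_goals first
    | exact (centralizer ({t} : Set G)).mul_mem K.fmem ((K.rep.cent_iff (by decide)).1 (by decide +kernel))
    | exact (K.rep.cent_iff (by decide)).1 (by decide +kernel)

/-- A word for an element of `C_M(t)`. -/
theorem wdC_spec {x : ℕ} (hx : x < wcard) (hc : com x 32 = true) :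
    (∀ a ∈ wdC x, a < 4) ∧ wprod (subGen (letters ψ f) letH) (wdC x) = ψ x := by
  have h := allB_spec wdC_ok x hx
  simp only [hc, Bool.not_true, Bool.false_or, Bool.and_eq_true] at h
  have hlt : ∀ a ∈ wdC x, a < 4 := fun a ha => by simpa [Nat.blt] using allL_spec h.2 a ha
  refine ⟨hlt, ?_⟩
  rw [K.wprod_sub S ht _ (fun a ha => (hlt a ha).trans (by norm_num))]
  have : ((wdC x).map fun a => letH.getD a 0) = wdC x := by
    conv_rhs => rw [← List.map_id (wdC x)]
    exact List.map_congr_left fun a ha => by have := hlt a ha; interval_cases a <;> rfl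
  rw [this, K.wprod_M (fun a ha => (hlt a ha).trans (by norm_num)), Nat.eq_of_beq_eq_true h.1]

/-- The five letters generate the centraliser. -/
theorem centralizer_le : centralizer ({t} : Set G) ≤ closure (subGen (letters ψ f) letH '' Set.Iio 5) := by
  intro g hg
  set s := subGen (letters ψ f) letH with hs
  set C := closure (s '' Set.Iio 5) with hC
  have hmem : ∀ i < 5, s i ∈ C := fun i hi => subset_closure ⟨i, hi, rfl⟩
  have hw : ∀ L : List ℕ, (∀ a ∈ L, a < 5) → wprod s L ∈ C := by
    intro L
    induction L with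
    | nil => intro _; exact C.one_mem
    | cons a L ih =>
      intro h
      rw [show wprod s (a :: L) = s a * wprod s L by simp [wprod]]
      exact C.mul_mem (hmem a (h a List.mem_cons_self)) (ih fun y hy => h y (List.mem_cons_of_mem a hy))
  have hM : ∀ m ∈ M, m ∈ centralizer ({t} : Set G) → m ∈ C := by
    intro m hm hc
    obtain ⟨x, hx, hxc, rfl⟩ := K.rep.code hm hc
    obtain ⟨h1, h2⟩ := K.wdC_spec S ht hx hxc
    exact h2 ▸ hw _ fun a ha => (h1 a ha).trans (by norm_num)
  have hf : f ∈ C := by
    have h4 : s 4 = f * ψ 5131 := rfl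
    have h0 : s 0 = ψ 5131 := rfl
    have := C.mul_mem (hmem 4 (by norm_num)) (hmem 0 (by norm_num))
    rwa [h4, h0, mul_assoc, (K.y_inv S ht).2, mul_one] at this
  set H := centralizer ({t} : Set G)
  let L : Subgroup G := M ⊓ H
  have hle : L ≤ C ⊓ H := fun m hm => ⟨hM m hm.1 hm.2, hm.2⟩
  -- the subgroup contains `f` and `C_M(t)`, so its index is one
  have hcard : Nat.card ↥(C ⊓ H) = 7680 := by
    have hd : Nat.card ↥(C ⊓ H) ∣ 7680 := S.card ▸ card_dvd_of_le inf_le_right
    have h1 : 1536 ∣ Nat.card ↥(C ⊓ H) := by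
      have := card_dvd_of_le hle
      rwa [show Nat.card L = 1536 from K.rep.card_MC] at this
    have h5 : 5 ∣ Nat.card ↥(C ⊓ H) := by
      have h := orderOf_mk f (show f ∈ C ⊓ H from ⟨hf, K.fmem⟩) ▸ orderOf_dvd_natCard (⟨f, hf, K.fmem⟩ : ↥(C ⊓ H))
      rwa [K.ord] at h
    have : 7680 ∣ Nat.card ↥(C ⊓ H) := Nat.Coprime.mul_dvd_of_dvd_of_dvd (by norm_num) h5 h1
    exact Nat.dvd_antisymm hd this
  have := eq_of_le_of_card_ge (inf_le_right : C ⊓ H ≤ H) (by rw [hcard, S.card])
  exact (this.symm.le hg).1

theorem elem_eq {L W : List ℕ} (hL : ∀ a ∈ L, a < 5) (hW : ∀ a ∈ W, a < 5)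
    (h : CertH.table.val L = CertH.table.val W) :
    wprod (subGen (letters ψ f) letH) L = wprod (subGen (letters ψ f) letH) W :=
  CertH.covered.eq_of_val _ (K.gens_sq S ht) (K.gens_rels S ht) rfl hL hW h

omit K S ht in
theorem wdH_lt {i : ℕ} (hi : i < 7680) : ∀ a ∈ wdH i, a < 5 := (wdH_ok i hi).2

theorem elem_hC {x : ℕ} (hx : x < wcard) (hc : com x 32 = true) :
    hC x < 7680 ∧ wprod (subGen (letters ψ f) letH) (wdH (hC x)) = ψ x := by
  obtain ⟨h1, h2⟩ := K.wdC_spec S ht hx hc
  have h5 : ∀ a ∈ wdC x, a < 5 := fun a ha => (h1 a ha).trans (by norm_num)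
  have hlt : hC x < 7680 := CertH.covered.val_lt _ h5
  exact ⟨hlt, (K.elem_eq S ht (wdH_lt hlt) h5 (wdH_ok _ hlt).1).trans h2⟩

/-- Soundness of the conjugation by a word. -/
theorem segRun_sound : ∀ (L : List ℕ) (h : ℕ) (k : ℕ → Bool), h < 7680 → segRun L h k = true →
    ∃ h' < 7680, k h' = true ∧ wprod (letters ψ f) L * wprod (subGen (letters ψ f) letH) (wdH h) *
      (wprod (letters ψ f) L)⁻¹ = wprod (subGen (letters ψ f) letH) (wdH h') := by
  intro L
  set s := subGen (letters ψ f) letH with hs
  induction L with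
  | nil => intro h k hh hk; exact ⟨h, hh, hk, by simp [wprod]⟩
  | cons x L ih =>
    intro h k hh hk
    obtain ⟨h₁, hh₁, hstep, e₁⟩ := ih h _ hh (show segRun L h (fun h' => stepH x h' k) = true from hk)
    have hsq := K.letters_sq S ht x
    have econs : wprod (letters ψ f) (x :: L) = letters ψ f x * wprod (letters ψ f) L := by simp [wprod]
    suffices ∃ h' < 7680, k h' = true ∧
        letters ψ f x * wprod s (wdH h₁) * letters ψ f x = wprod s (wdH h') by
      obtain ⟨h', hlt, hk', e'⟩ := this
      refine ⟨h', hlt, hk', ?_⟩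
      rw [econs, ← e', ← e₁, mul_inv_rev, inv_eq_of_mul_eq_one_right hsq]
      simp only [mul_assoc]
    rw [stepH] at hstep
    cases hb : Nat.beq x 4 with
    | true =>
      rw [hb] at hstep
      simp only [cond_true, force_eq, Bool.and_eq_true, Nat.blt_eq] at hstep
      obtain ⟨⟨⟨hy, hyc⟩, hyh⟩, ⟨hy', hyc'⟩, hk'⟩ := hstep
      set y := field codeH 128 20 h₁
      obtain ⟨hl', e'⟩ := K.elem_hC S ht hy' hyc'
      refine ⟨_, hl', hk', ?_⟩
      obtain ⟨-, e⟩ := K.elem_hC S ht hy hyc
      rw [Nat.eq_of_beq_eq_true hyh] at e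
      rw [e, e', Nat.eq_of_beq_eq_true hb, show letters ψ f 4 = ψ 896 from rfl,
        K.rep.mul _ (wmul_lt (by decide) hy) 896 (by decide), K.rep.mul 896 (by decide) y hy]
    | false =>
      rw [hb] at hstep
      simp only [cond_false, force_eq, Bool.and_eq_true, Nat.blt_eq] at hstep
      obtain ⟨hx, hk'⟩ := hstep
      have hx4 : x ≠ 4 := by rintro rfl; simp at hb
      have hp : posH x < 5 ∧ letH.getD (posH x) 0 = x := by
        interval_cases x <;> first | exact absurd rfl hx4 | decide +kernel
      set W := posH x :: wdH h₁ ++ [posH x]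
      have hW : ∀ a ∈ W, a < 5 := by
        intro a ha
        simp only [W, List.cons_append, List.mem_cons, List.mem_append, List.not_mem_nil, or_false] at ha
        rcases ha with rfl | ha | rfl
        exacts [hp.1, wdH_lt hh₁ a ha, hp.1]
      have hlt := CertH.covered.val_lt W hW
      refine ⟨_, hlt, hk', ?_⟩
      have hpos : s (posH x) = letters ψ f x := by
        rw [hs, subGen, if_pos (show posH x < letH.length from hp.1), hp.2]
      rw [K.elem_eq S ht (wdH_lt hlt) hW (wdH_ok _ hlt).1, ← hpos]
      simp [W, wprod, hs, mul_assoc]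

/-- The centraliser of `E` is `E`. -/
theorem cent_E {g : G} (hg : ∀ e ∈ wE, g * ψ e = ψ e * g) : ∃ e ∈ wE, ψ e = g := by
  set s := subGen (letters ψ f) letH with hs
  set H := centralizer ({t} : Set G) with hH
  have hgH : g ∈ H := by
    have h := hg 32 (by decide)
    rw [show ψ 32 = t from K.rep.tval] at h
    exact mem_centralizer_singleton_iff.2 h
  let s' : ℕ → H := fun x => if hx : x < 5 then ⟨s x, by
    rw [hs, subGen, if_pos (show x < letH.length from hx)]
    exact K.letters_mem S ht _ (by interval_cases x <;> decide)⟩ else 1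
  have hval : ∀ x, ((s' x : H) : G) = s x := by
    intro x
    by_cases hx : x < 5
    · simp only [s', dif_pos hx]
    · simp only [s', dif_neg hx, hs]
      rw [subGen, if_neg (show ¬ x < letH.length from hx)]
      rfl
  have hwp : ∀ W : List ℕ, ((wprod s' W : H) : G) = wprod s W := fun W =>
    map_wprod H.subtype s' _ W fun x _ => hval x
  have hgen : closure (s' '' Set.Iio CertH.table.g) = ⊤ := by
    refine map_injective H.subtype_injective ?_
    rw [← MonoidHom.range_eq_map, range_subtype, MonoidHom.map_closure]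
    refine le_antisymm ((closure_le _).2 ?_) ((K.centralizer_le S ht).trans (closure_mono ?_))
    · rintro _ ⟨u, -, rfl⟩
      exact u.2
    · rintro _ ⟨x, hx, rfl⟩
      exact ⟨s' x, ⟨x, hx, rfl⟩, hval x⟩
  have hsq' : ∀ x, s' x * s' x = 1 := fun x => Subtype.ext (by simpa [hval] using K.gens_sq S ht x)
  have hrel' : ∀ r ∈ CertH.cert.rels, wprod s' r = 1 := fun r hr =>
    Subtype.ext (by rw [hwp, K.gens_rels S ht r hr]; rfl)
  obtain ⟨i, hi, e⟩ := CertH.covered.exists_word s' hsq' hrel' rfl hgen wdH_ok ⟨g, hgH⟩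
  have hi' : i < 7680 := hi
  have eg : wprod s (wdH i) = g := by rw [← hwp]; exact congrArg Subtype.val e
  have hall : ∀ L : List ℕ, (∀ e ∈ L, e ∈ wE) → allL (fun e =>
      Nat.beq (CertH.table.val (wdH i ++ wdC e)) (CertH.table.val (wdC e ++ wdH i))) L = true := by
    intro L
    induction L with
    | nil => intro _; rfl
    | cons a L ih =>
      intro hL
      show (Nat.beq _ _ && allL _ L) = true
      rw [Bool.and_eq_true, Nat.beq_eq]
      refine ⟨?_, ih fun y hy => hL y (List.mem_cons_of_mem a hy)⟩
      have ha := hL a List.mem_cons_self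
      have hae := allL_spec chk_E a ha
      simp only [Bool.and_eq_true, Nat.blt_eq] at hae
      obtain ⟨h1, h2⟩ := K.wdC_spec S ht hae.1 hae.2
      have h5 : ∀ b ∈ wdC a, b < CertH.table.g := fun b hb => (h1 b hb).trans (show 4 < 5 by norm_num)
      refine (CertH.covered.val_eq_iff s' hsq' hrel' rfl hgen (by rw [S.card]; decide +kernel) ?_ ?_).1
        (Subtype.ext ?_)
      · exact fun b hb => (List.mem_append.1 hb).elim (wdH_lt hi' b) (h5 b)
      · exact fun b hb => (List.mem_append.1 hb).elim (h5 b) (wdH_lt hi' b)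
      · rw [hwp, hwp, wprod_append, wprod_append, eg, h2]
        exact hg a ha
  have h := allB_spec chk_centE i hi'
  simp only [hall wE (fun _ h => h), Bool.not_true, Bool.false_or, memb_iff, List.mem_map] at h
  obtain ⟨a, ha, rfl⟩ := h
  have hae := allL_spec chk_E a ha
  simp only [Bool.and_eq_true, Nat.blt_eq] at hae
  exact ⟨a, ha, ((K.elem_hC S ht hae.1 hae.2).2).symm.trans eg⟩

/-- **The relators of the normaliser of `E`.** -/
theorem relN : ∀ r ∈ relsN, wprod (letters ψ f) r = 1 := by
  have key : ∀ q ∈ segL, wprod (letters ψ f) q.2.1 ^ q.1 = 1 := by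
    rintro ⟨p, seg, π⟩ hq
    set w := wprod (letters ψ f) seg with hw
    have hrow : ∀ i < 16, π.getD i 0 < 16 ∧ (i = 0 ∨ π.getD i 0 ≠ i) ∧
        (Nat.rec i (fun _ j => π.getD j 0) p : ℕ) = i ∧
        w * ψ (wE.getD i 0) * w⁻¹ = ψ (wE.getD (π.getD i 0) 0) := by
      intro i hi
      have h := allB_spec (allL_spec chk_seg _ hq) i hi
      simp only [Bool.and_eq_true, Bool.or_eq_true, Nat.blt_eq, Nat.beq_eq, Bool.not_eq_true'] at h
      obtain ⟨⟨⟨h1, h2⟩, h3⟩, h4⟩ := h
      refine ⟨h3, h4.imp_right (fun h e => by rw [e, Nat.beq_refl] at h; exact Bool.noConfusion h), h2, ?_⟩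
      have hE : ∀ j < 16, wE.getD j 0 < wcard ∧ com (wE.getD j 0) 32 = true := by
        intro j hj
        have := allL_spec chk_E (wE.getD j 0) (by interval_cases j <;> decide)
        simpa [Bool.and_eq_true, Nat.blt_eq, wcard] using this
      obtain ⟨hl, e⟩ := K.elem_hC S ht (hE i hi).1 (hE i hi).2
      obtain ⟨h', -, hk, e'⟩ := K.segRun_sound S ht seg _ _ hl h1
      rw [Nat.eq_of_beq_eq_true hk, e, (K.elem_hC S ht (hE _ h3).1 (hE _ h3).2).2] at e'
      exact e'
    have hiter : ∀ k i, i < 16 → (Nat.rec i (fun _ j => π.getD j 0) k : ℕ) < 16 ∧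
        w ^ k * ψ (wE.getD i 0) * (w ^ k)⁻¹ = ψ (wE.getD (Nat.rec i (fun _ j => π.getD j 0) k) 0) := by
      intro k i hi
      induction k with
      | zero => exact ⟨hi, by simp⟩
      | succ k ih =>
        refine ⟨(hrow _ ih.1).1, ?_⟩
        rw [pow_succ', mul_inv_rev, ← (hrow _ ih.1).2.2.2, ← ih.2]
        group
    have hcent : ∀ e ∈ wE, w ^ p * ψ e = ψ e * w ^ p := by
      intro e he
      obtain ⟨i, hi, rfl⟩ := List.getElem_of_mem he
      have hi' : i < 16 := hi
      have h := (hiter p i hi').2
      rw [(hrow i hi').2.2.1, List.getD_eq_getElem _ _ hi] at h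
      exact mul_inv_eq_iff_eq_mul.1 h
    obtain ⟨e, he, hge⟩ := K.cent_E S ht hcent
    obtain ⟨i, hi, rfl⟩ := List.getElem_of_mem he
    have hi' : i < 16 := hi
    obtain ⟨h1, h2, -, h4⟩ := hrow i hi'
    rw [List.getD_eq_getElem _ _ hi, hge] at h4
    have hfix : w * w ^ p * w⁻¹ = w ^ p := by rw [← pow_succ', pow_succ, mul_inv_cancel_right]
    rw [hfix] at h4
    rcases h2 with rfl | h2
    · rw [← hge]; exact (show ψ wE[0] = 1 from K.rep.one)
    · exfalso
      apply h2
      have e' := hge.trans h4
      rw [← List.getD_eq_getElem wE 0 hi] at e'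
      have hb : ∀ j < 16, wE.getD j 0 < wcard := by decide +kernel
      have := (K.rep.eq_iff (hb i hi') (hb _ h1)).1 e'
      exact ((by decide +kernel : ∀ a < 16, ∀ b < 16, wE.getD a 0 = wE.getD b 0 → a = b) i hi' _ h1 this).symm
  intro r hr
  have hpow : ∀ (n : ℕ) (seg : List ℕ), wprod (letters ψ f) (List.flatten (List.replicate n seg)) =
      wprod (letters ψ f) seg ^ n := by
    intro n seg
    induction n with
    | zero => simp [wprod]
    | succ n ih => rw [List.replicate_succ, List.flatten_cons, wprod_append, ih, pow_succ']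
  have hcases : (∀ x ∈ r, x < 5) ∧ wval r = 0 ∨ ∃ q ∈ segL, r = List.flatten (List.replicate q.1 q.2.1) := by
    have : ∀ r ∈ relsN, (∀ x ∈ r, x < 5) ∧ wval r = 0 ∨
        ∃ q ∈ segL, r = List.flatten (List.replicate q.1 q.2.1) := by decide +kernel
    exact this r hr
  rcases hcases with ⟨h1, h2⟩ | ⟨q, hq, rfl⟩
  · rw [K.wprod_M h1, h2, K.rep.one]
  · rw [hpow]; exact key q hq

end Config

end CfsgLib.InvChar.HSRec
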