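import Cfsg.Agent.Lib.InvChar.HSRec.MChecks
import Cfsg.Agent.Lib.StructC.AltEightOrders
import Cfsg.Agent.Lib.Amalgam.PCore
import Cfsg.Prelude.Def_CaseTheorems

/-!
The normaliser of the elementary group of order eight: a basis of its 2-core in which two elements of `M`
act by the two model matrices.
-/

set_option autoImplicit false
set_option maxRecDepth 100000

namespace CfsgLib.InvChar.HSRec

open CfsgLib.InvChar.Coset Subgroup

variable {G : Type*} [Group G]

theorem beq_eq {a b : ℕ} (h : Nat.beq a b = true) : a = b := Nat.eq_of_beq_eq_true h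

theorem blt_lt {a b : ℕ} (h : Nat.blt a b = true) : a < b := by simpa [Nat.blt] using h

theorem vadd_lt (v w : ℕ) : vadd v w < 64 := by unfold vadd; omega

theorem vadd_digits (v w : ℕ) : vadd v w % 4 = (v % 4 + w % 4) % 4 ∧
    vadd v w / 4 % 4 = (v / 4 % 4 + w / 4 % 4) % 4 ∧ vadd v w / 16 = (v / 16 + w / 16) % 4 := by
  have key : ∀ a b c : ℕ, a < 4 → b < 4 → c < 4 →
      (a + 4 * b + 16 * c) % 4 = a ∧ (a + 4 * b + 16 * c) / 4 % 4 = b ∧ (a + 4 * b + 16 * c) / 16 = c := by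
    intro a b c ha hb hc; omega
  exact key _ _ _ (Nat.mod_lt _ (by norm_num)) (Nat.mod_lt _ (by norm_num)) (Nat.mod_lt _ (by norm_num))

theorem smul_lt {c v : ℕ} (hv : v < 64) : smul c v < 64 := by
  unfold smul
  cases Nat.beq c 0 <;> cases Nat.beq c 1 <;> cases Nat.beq c 2 <;> simp [vadd_lt, hv]

theorem lmap_lt (i j k v : ℕ) : lmap i j k v < 64 := vadd_lt _ _

theorem lift2_lt (s n : ℕ) : lift2 s n < 64 := vadd_lt _ _

theorem lact_lt {l v : ℕ} (hl : l < 168) (hv : v < 64) : lact l v < 64 :=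
  blt_lt (allLt_get (allLt_get lact_chk hl) hv)

/-- Coordinates on a group isomorphic to `4³`. -/
structure Coord (Q : Subgroup G) (q : ℕ → G) : Prop where
  mul : ∀ v w, v < 64 → w < 64 → q (vadd v w) = q v * q w
  inj : Set.InjOn q (Set.Iio 64)
  mem : ∀ g, g ∈ Q ↔ ∃ v < 64, q v = g

/-- `g` acts as `f`. -/
def Acts (q : ℕ → G) (g : G) (f : ℕ → ℕ) : Prop := ∀ v < 64, g * q v * g⁻¹ = q (f v)

theorem Coord.zero {Q : Subgroup G} {q : ℕ → G} (h : Coord Q q) : q 0 = 1 := by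
  have := h.mul 0 0 (by norm_num) (by norm_num)
  rw [show vadd 0 0 = 0 from rfl] at this
  exact mul_eq_left.1 this.symm

theorem Coord.mem_q {Q : Subgroup G} {q : ℕ → G} (h : Coord Q q) {v : ℕ} (hv : v < 64) : q v ∈ Q :=
  (h.mem _).2 ⟨v, hv, rfl⟩

theorem Coord.comm {Q : Subgroup G} {q : ℕ → G} (h : Coord Q q) {v w : ℕ} (hv : v < 64) (hw : w < 64) :
    q v * q w = q w * q v := by
  rw [← h.mul v w hv hw, ← h.mul w v hw hv]
  congr 1
  unfold vadd
  rw [add_comm (v % 4), add_comm (v / 4 % 4), add_comm (v / 16)]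

theorem Coord.smul {Q : Subgroup G} {q : ℕ → G} (h : Coord Q q) {c v : ℕ} (hc : c < 4) (hv : v < 64) :
    q (smul c v) = q v ^ c := by
  interval_cases c <;> simp only [HSRec.smul, show Nat.beq 0 0 = true from rfl,
    show Nat.beq 1 0 = false from rfl, show Nat.beq 1 1 = true from rfl,
    show Nat.beq 2 0 = false from rfl, show Nat.beq 2 1 = false from rfl,
    show Nat.beq 2 2 = true from rfl, show Nat.beq 3 0 = false from rfl,
    show Nat.beq 3 1 = false from rfl, show Nat.beq 3 2 = false from rfl, cond_true, cond_false]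
  · rw [h.zero, pow_zero]
  · rw [pow_one]
  · rw [h.mul v v hv hv, pow_two]
  · rw [h.mul v _ hv (vadd_lt _ _), h.mul v v hv hv, pow_succ', pow_two]

theorem digits (v : ℕ) (hv : v < 64) :
    lmap 1 4 16 v = v := by
  interval_cases v <;> rfl

/-- An automorphism is given by the images of the three basis vectors. -/
theorem Coord.acts_lmap {Q : Subgroup G} {q : ℕ → G} (h : Coord Q q) {g : G} {i j k : ℕ}
    (hi : i < 64) (hj : j < 64) (hk : k < 64) (e1 : g * q 1 * g⁻¹ = q i)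
    (e2 : g * q 4 * g⁻¹ = q j) (e3 : g * q 16 * g⁻¹ = q k) : Acts q g (lmap i j k) := by
  intro v hv
  conv_lhs => rw [← digits v hv]
  simp only [lmap]
  have a := Nat.mod_lt v (show 4 > 0 by norm_num)
  have b := Nat.mod_lt (v / 4) (show 4 > 0 by norm_num)
  have c : v / 16 < 4 := by omega
  rw [h.mul _ _ (smul_lt (by norm_num)) (vadd_lt _ _),
    h.mul _ _ (smul_lt (by norm_num)) (smul_lt (by norm_num)), h.smul a (by norm_num),
    h.smul b (by norm_num), h.smul c (by norm_num), h.mul _ _ (smul_lt hi) (vadd_lt _ _),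
    h.mul _ _ (smul_lt hj) (smul_lt hk), h.smul a hi, h.smul b hj, h.smul c hk, ← e1, ← e2, ← e3,
    conj_pow, conj_pow, conj_pow]
  group

theorem Acts.comp {q : ℕ → G} {g g' : G} {f f' : ℕ → ℕ} (h : Acts q g f) (h' : Acts q g' f')
    (hf' : ∀ v < 64, f' v < 64) : Acts q (g * g') (fun v => f (f' v)) := fun v hv => by
  rw [show g * g' * q v * (g * g')⁻¹ = g * (g' * q v * g'⁻¹) * g⁻¹ by group, h' v hv, h _ (hf' v hv)]

theorem Acts.pow {q : ℕ → G} {g : G} {f : ℕ → ℕ} (h : Acts q g f) (hf : ∀ v < 64, f v < 64) :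
    ∀ n, Acts q (g ^ n) (iter f n) ∧ ∀ v < 64, iter f n v < 64 := by
  intro n
  induction n with
  | zero => exact ⟨fun v _ => by simp [iter], fun v hv => hv⟩
  | succ n ih =>
    have e : iter f (n + 1) = fun v => f (iter f n v) := funext fun v => force_eq _ _
    rw [e, pow_succ']
    exact ⟨h.comp ih.1 ih.2, fun v hv => hf _ (ih.2 v hv)⟩

variable [Finite G]

/-- Three generators with independent squares give coordinates. -/
theorem exists_coord {Q : Subgroup G} (hc : ∀ x ∈ Q, ∀ y ∈ Q, x * y = y * x) (h4 : ∀ x ∈ Q, x ^ 4 = 1)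
    (h64 : Nat.card Q = 64) {a b c : G} (ha : a ∈ Q) (hb : b ∈ Q) (hc' : c ∈ Q)
    (hind : ∀ i j k : ℕ, i < 2 → j < 2 → k < 2 → (a ^ 2) ^ i * (b ^ 2) ^ j * (c ^ 2) ^ k = 1 →
      i = 0 ∧ j = 0 ∧ k = 0) :
    ∃ q : ℕ → G, Coord Q q ∧ q 1 = a ∧ q 4 = b ∧ q 16 = c := by
  classical
  let q : ℕ → G := fun v => a ^ (v % 4) * b ^ (v / 4 % 4) * c ^ (v / 16)
  have hmem : ∀ v, q v ∈ Q := fun v => mul_mem (mul_mem (pow_mem ha _) (pow_mem hb _)) (pow_mem hc' _)
  have hp : ∀ {x : G}, x ∈ Q → ∀ {m n : ℕ}, m % 4 = n % 4 → x ^ m = x ^ n := fun {x} hx {m n} e => by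
    rw [← Nat.mod_add_div m 4, ← Nat.mod_add_div n 4, pow_add, pow_add, pow_mul, pow_mul, h4 x hx,
      one_pow, one_pow, e]
  have hgen : ∀ i j k i' j' k', a ^ i * b ^ j * c ^ k * (a ^ i' * b ^ j' * c ^ k') =
      a ^ (i + i') * b ^ (j + j') * c ^ (k + k') := fun i j k i' j' k' => by
    have c1 : Commute (c ^ k) (a ^ i') := hc _ (pow_mem hc' _) _ (pow_mem ha _)
    have c2 : Commute (b ^ j) (a ^ i') := hc _ (pow_mem hb _) _ (pow_mem ha _)
    have c3 : Commute (c ^ k) (b ^ j') := hc _ (pow_mem hc' _) _ (pow_mem hb _)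
    calc a ^ i * b ^ j * c ^ k * (a ^ i' * b ^ j' * c ^ k')
        = a ^ i * b ^ j * (c ^ k * a ^ i') * b ^ j' * c ^ k' := by group
      _ = a ^ i * (b ^ j * a ^ i') * (c ^ k * b ^ j') * c ^ k' := by rw [c1.eq]; group
      _ = a ^ i * a ^ i' * (b ^ j * b ^ j') * (c ^ k * c ^ k') := by rw [c2.eq, c3.eq]; group
      _ = _ := by rw [← pow_add, ← pow_add, ← pow_add]
  have hmul : ∀ v w, v < 64 → w < 64 → q (vadd v w) = q v * q w := by
    intro v w hv hw
    simp only [q]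
    rw [hgen]
    congr 1
    · congr 1
      · exact hp ha (by rw [(vadd_digits v w).1]; omega)
      · exact hp hb (by rw [(vadd_digits v w).2.1]; omega)
    · exact hp hc' (by rw [(vadd_digits v w).2.2]; omega)
  have hinj : Set.InjOn q (Set.Iio 64) := by
    intro v hv w hw e
    simp only [Set.mem_Iio] at hv hw
    let u := (4 - w % 4) % 4 + 4 * ((4 - w / 4 % 4) % 4) + 16 * ((4 - w / 16) % 4)
    have hu : u < 64 := by simp only [u]; omega
    have e0 : q (vadd v u) = 1 := by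
      rw [hmul v u hv hu, e, ← hmul w u hw hu]
      have : vadd w u = 0 := by simp only [vadd, u]; omega
      rw [this]; simp [q]
    set d := vadd v u with hd
    have hd64 : d < 64 := vadd_lt _ _
    suffices d = 0 by simp only [d, vadd, u] at this; omega
    have sq : ∀ n, n < 64 → q n ^ 2 = 1 → n % 2 = 0 ∧ n / 4 % 2 = 0 ∧ n / 16 % 2 = 0 := by
      intro n hn h2
      refine hind _ _ _ (Nat.mod_lt _ (by norm_num)) (Nat.mod_lt _ (by norm_num))
        (Nat.mod_lt _ (by norm_num)) ?_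
      rw [← pow_mul, ← pow_mul, ← pow_mul, ← h2, pow_two]
      simp only [q]
      rw [hgen]
      congr 1
      · congr 1
        · exact hp ha (by omega)
        · exact hp hb (by omega)
      · exact hp hc' (by omega)
    obtain ⟨s1, s2, s3⟩ := sq d hd64 (by rw [e0, one_pow])
    have h := hind (d % 4 / 2) (d / 4 % 4 / 2) (d / 16 / 2) (by omega) (by omega) (by omega) (by
      rw [← pow_mul, ← pow_mul, ← pow_mul, ← e0]
      simp only [q]
      congr 1
      · congr 1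
        · exact hp ha (by omega)
        · exact hp hb (by omega)
      · exact hp hc' (by omega))
    omega
  refine ⟨q, ⟨hmul, hinj, fun g => ⟨fun hg => ?_, ?_⟩⟩, by simp [q], by simp [q], by simp [q]⟩
  · have hsub : (Finset.range 64).image q = (Q : Set G).toFinite.toFinset := by
      refine Finset.eq_of_subset_of_card_le (fun x hx => ?_) ?_
      · obtain ⟨v, -, rfl⟩ := Finset.mem_image.1 hx
        exact (Set.Finite.mem_toFinset _).2 (hmem v)
      · rw [Finset.card_image_of_injOn (by simpa using hinj), Finset.card_range,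
          ← Set.ncard_eq_toFinset_card, ← Nat.card_coe_set_eq]
        exact le_of_eq h64
    have := (Set.Finite.mem_toFinset (Q : Set G).toFinite).2 hg
    rw [← hsub] at this
    obtain ⟨v, hv, e⟩ := Finset.mem_image.1 this
    exact ⟨v, Finset.mem_range.1 hv, e⟩
  · rintro ⟨v, -, rfl⟩
    exact hmem v

/-- The data of piece `M`. -/
structure MData (M Q : Subgroup G) (q : ℕ → G) (a b t : G) (R : Subgroup G) : Prop where
  coord : Coord Q q
  qt : q 32 = t
  Q_le : Q ≤ M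
  norm : ∀ g ∈ M, ∀ x ∈ Q, g * x * g⁻¹ ∈ Q
  card : Nat.card M = 168 * 64
  aR : a ∈ R
  aM : a ∈ M
  bM : b ∈ M
  a2 : a * a = 1
  b3 : b ^ 3 = 1
  actA : Acts q a (lact 1)
  actB : Acts q b (lact 2)
  faith : ∀ g ∈ M, (∀ v < 64, g * q v * g⁻¹ = q v) → g ∈ Q

theorem sq_exists : ∀ x : ZMod 4 × ZMod 4 × ZMod 4, x + x = 0 → ∃ y, y + y = x := by decide +kernel

theorem sq_count : (Finset.univ.filter fun x : ZMod 4 × ZMod 4 × ZMod 4 => x + x = 0).card = 8 := by
  decide +kernel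

theorem four_zero : ∀ x : ZMod 4 × ZMod 4 × ZMod 4, x + x + x + x = 0 := by decide +kernel

theorem indep_count : ((Finset.range 8 ×ˢ Finset.range 8 ×ˢ Finset.range 8).filter fun p =>
    p.1 ≠ 0 ∧ p.2.1 ≠ 0 ∧ p.2.1 ≠ p.1 ∧ p.2.2 ≠ 0 ∧ p.2.2 ≠ p.1 ∧ p.2.2 ≠ p.2.1 ∧
      p.2.2 ≠ p.1 ^^^ p.2.1).card = 168 := by
  decide +kernel

theorem exists_mdata (t : G) (ht : orderOf t = 2)
    (V : Subgroup G) (hVcomm : IsMulCommutative V) (hVexp : ∀ v ∈ V, v ^ 2 = 1) (hVcard : Nat.card V = 8)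
    (htV : t ∈ V) (M : Subgroup G) (hM : M = normalizer (V : Set G))
    (eOM : Cfsg.pCore 2 M ≃* Multiplicative (ZMod 4 × ZMod 4 × ZMod 4))
    (eM : M ⧸ Cfsg.pCore 2 M ≃* GL (Fin 3) (ZMod 2))
    (R : Subgroup G) (hRM : R ≤ M) (hR : R ≤ centralizer ({t} : Set G))
    (hRn : ∀ g ∈ M, g * t = t * g → ∀ r ∈ R, g * r * g⁻¹ ∈ R) (hR64 : Nat.card R = 64)
    (hcomm : ∀ a ∈ R, ∀ b ∈ R, a * b * a⁻¹ * b⁻¹ ∈ zpowers t)
    (hinv : Nat.card {r : R // r * r = 1} = 32) :
    ∃ (q : ℕ → G) (a b : G), MData M ((Cfsg.pCore 2 M).map M.subtype) q a b t R := by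
  classical
  haveI : Fact (Nat.Prime 2) := ⟨Nat.prime_two⟩
  obtain ⟨hsimp, h168⟩ := CfsgLib.StructC.AltEight.gl_three_two
  haveI hn : (Cfsg.pCore 2 M).Normal := CfsgLib.Amalgam.normal_pCore
  set Q := (Cfsg.pCore 2 M).map M.subtype with hQ
  have hQM : Q ≤ M := map_subtype_le _
  have hQn : ∀ g ∈ M, ∀ x ∈ Q, g * x * g⁻¹ ∈ Q := by
    rintro g hg _ ⟨x, hx, rfl⟩
    exact ⟨⟨g, hg⟩ * x * ⟨g, hg⟩⁻¹, hn.conj_mem x hx _, by simp⟩
  have hQ64 : Nat.card Q = 64 := by
    rw [Nat.card_congr ((equivMapOfInjective _ _ M.subtype_injective).symm.toEquiv),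
      Nat.card_congr eOM.toEquiv, Nat.card_eq_fintype_card, Fintype.card_multiplicative,
      Fintype.card_prod, Fintype.card_prod, ZMod.card]
  have hMcard : Nat.card M = 168 * 64 := by
    rw [card_eq_card_quotient_mul_card_subgroup (Cfsg.pCore 2 M), Nat.card_congr eM.toEquiv, h168,
      Nat.card_congr eOM.toEquiv, Nat.card_eq_fintype_card, Fintype.card_multiplicative,
      Fintype.card_prod, Fintype.card_prod, ZMod.card]
  -- transport to `4³`
  let θ : ∀ x ∈ Q, ZMod 4 × ZMod 4 × ZMod 4 := fun x hx =>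
    Multiplicative.toAdd (eOM ((equivMapOfInjective _ _ M.subtype_injective).symm ⟨x, hx⟩))
  have θmul : ∀ x hx y hy, θ (x * y) (mul_mem hx hy) = θ x hx + θ y hy := fun x hx y hy => by
    simp only [θ]
    rw [show (⟨x * y, mul_mem hx hy⟩ : ↥Q) = ⟨x, hx⟩ * ⟨y, hy⟩ from rfl, map_mul, map_mul, toAdd_mul]
  have θinj : ∀ x hx y hy, θ x hx = θ y hy → x = y := fun x hx y hy e =>
    congrArg Subtype.val ((MulEquiv.injective _) (eOM.injective (Multiplicative.toAdd.injective e)))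
  have θsurj : ∀ z, ∃ x hx, θ x hx = z := fun z => by
    refine ⟨((equivMapOfInjective _ _ M.subtype_injective) (eOM.symm (Multiplicative.ofAdd z)) :), Subtype.coe_prop _, ?_⟩
    simp only [θ, Subtype.coe_eta, MulEquiv.symm_apply_apply, MulEquiv.apply_symm_apply, toAdd_ofAdd]
  have θone : θ 1 (one_mem _) = 0 := by
    have := θmul 1 (one_mem _) 1 (one_mem _)
    simpa using this
  have hQc : ∀ x ∈ Q, ∀ y ∈ Q, x * y = y * x := fun x hx y hy =>
    θinj _ (mul_mem hx hy) _ (mul_mem hy hx) (by rw [θmul x hx y hy, θmul y hy x hx, add_comm])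
  have hQ4 : ∀ x ∈ Q, x ^ 4 = 1 := fun x hx => by
    have h2 := mul_mem hx hx
    have h3 := mul_mem h2 hx
    rw [show (4 : ℕ) = 1 + 1 + 1 + 1 from rfl, pow_add, pow_add, pow_add, pow_one]
    exact θinj _ (mul_mem h3 hx) _ (one_mem _) (by rw [θmul _ h3 _ hx, θmul _ h2 _ hx, θmul x hx x hx,
      four_zero, θone])
  -- `V`
  have hVM : V ≤ M := hM ▸ le_normalizer
  have hVn : ∀ g ∈ M, ∀ v ∈ V, g * v * g⁻¹ ∈ V := fun g hg v hv => by
    rw [hM] at hg; exact (mem_normalizer_iff.1 hg v).1 hv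
  have hVQ : V ≤ Q := by
    intro v hv
    refine ⟨⟨v, hVM hv⟩, CfsgLib.Amalgam.le_pCore (N := V.subgroupOf M)
      ⟨fun x hx g => hVn g g.2 x hx⟩ ?_ hv, rfl⟩
    refine IsPGroup.of_card (n := 3) ?_
    rw [Nat.card_congr (subgroupOfEquivOfLe hVM).toEquiv, hVcard]; norm_num
  have hQV : ∀ x ∈ Q, x * x = 1 → x ∈ V := by
    have hsub : (V : Set G) ⊆ {x | x ∈ Q ∧ x * x = 1} := fun v hv =>
      ⟨hVQ hv, by rw [← pow_two]; exact hVexp v hv⟩
    have hcard : ({x | x ∈ Q ∧ x * x = 1} : Set G).ncard ≤ 8 := by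
      rw [← sq_count, ← Set.ncard_coe_finset]
      refine Set.ncard_le_ncard_of_injOn (fun x => if hx : x ∈ Q then θ x hx else 0) (fun x hx => ?_)
        (fun x hx y hy e => ?_) (Set.toFinite _)
      · simp only [hx.1, dite_true, Finset.coe_filter, Finset.mem_univ, true_and, Set.mem_setOf_eq,
          ← θmul x hx.1 x hx.1]
        simpa [hx.2] using θone
      · simp only [dif_pos hx.1, dif_pos hy.1] at e
        exact θinj _ hx.1 _ hy.1 e
    have e := Set.eq_of_subset_of_ncard_le hsub (hcard.trans (by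
      rw [← Nat.card_coe_set_eq]; exact le_of_eq hVcard.symm)) (Set.toFinite _)
    exact fun x h1 h2 => (e.ge ⟨h1, h2⟩ :)
  have hsqrt : ∀ v ∈ V, ∃ x ∈ Q, x ^ 2 = v := fun v hv => by
    obtain ⟨z, hz⟩ := sq_exists (θ v (hVQ hv)) (by
      rw [← θmul v (hVQ hv) v (hVQ hv)]
      simpa [show v * v = 1 by rw [← pow_two]; exact hVexp v hv] using θone)
    obtain ⟨x, hx, rfl⟩ := θsurj z
    refine ⟨x, hx, ?_⟩
    rw [pow_two]
    exact θinj _ (mul_mem hx hx) _ (hVQ hv) (by rw [θmul x hx x hx, hz])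
  -- the kernel of the action on `V`
  have ht1 : t ≠ 1 := fun h => by rw [h, orderOf_one] at ht; norm_num at ht
  have hinvQ : ¬ R ≤ Q := fun h => by
    have : Nat.card {r : R // r * r = 1} ≤ Nat.card V :=
      Nat.card_le_card_of_injective (fun r => (⟨(r.1 : G), hQV _ (h r.1.2) (congrArg Subtype.val r.2)⟩ : V))
        fun r r' e => Subtype.ext (Subtype.ext (congrArg (fun z : V => (z : G)) e))
    omega
  have hK : ∀ g ∈ M, (∀ v ∈ V, g * v = v * g) → g ∈ Q := by
    set K : Subgroup M := (centralizer (V : Set G)).subgroupOf M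
    have hKn : K.Normal := ⟨fun x hx g => by
      rw [mem_subgroupOf, mem_centralizer_iff] at hx ⊢
      intro v hv
      have hv' : (g : G)⁻¹ * v * g ∈ V := by simpa using hVn _ (inv_mem g.2) v hv
      have e := hx _ hv'
      simp only [Subgroup.coe_mul, Subgroup.coe_inv]
      calc v * (g * x * (g : G)⁻¹) = g * ((g : G)⁻¹ * v * g * x) * (g : G)⁻¹ := by group
        _ = _ := by rw [e]; group⟩
    haveI := hsimp
    haveI : IsSimpleGroup (M ⧸ Cfsg.pCore 2 M) := MulEquiv.isSimpleGroup eM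
    have hle : Cfsg.pCore 2 M ≤ K := fun x hx => mem_subgroupOf.2 (mem_centralizer_iff.2 fun v hv =>
      hQc _ (hVQ hv) _ ⟨x, hx, rfl⟩)
    intro g hg hgv
    rcases (hKn.map (QuotientGroup.mk' (Cfsg.pCore 2 M))
      (QuotientGroup.mk'_surjective _)).eq_bot_or_eq_top with h | h
    · rw [Subgroup.map_eq_bot_iff, QuotientGroup.ker_mk'] at h
      exact ⟨⟨g, hg⟩, h (mem_subgroupOf.2 (mem_centralizer_iff.2 fun v hv => (hgv v hv).symm)), rfl⟩
    · exfalso
      have hKtop : K = ⊤ := by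
        have := congrArg (Subgroup.comap (QuotientGroup.mk' (Cfsg.pCore 2 M))) h
        rwa [comap_map_eq, QuotientGroup.ker_mk', sup_eq_left.2 hle, comap_top] at this
      have htc : ∀ m ∈ M, m * t = t * m := fun m hm =>
        (mem_centralizer_iff.1 (mem_subgroupOf.1 (hKtop.ge (mem_top ⟨m, hm⟩))) t htV).symm
      refine hinvQ fun r hr => ⟨⟨r, hRM hr⟩, CfsgLib.Amalgam.le_pCore (N := R.subgroupOf M)
        ⟨fun x hx g => hRn g g.2 (htc g g.2) x hx⟩ ?_ hr, rfl⟩
      exact IsPGroup.of_card (n := 6) (by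
        rw [Nat.card_congr (subgroupOfEquivOfLe hRM).toEquiv, hR64]; norm_num)
  -- the involution
  obtain ⟨a, haR, ha2, haQ⟩ : ∃ a ∈ R, a * a = 1 ∧ a ∉ Q := by
    by_contra hcon
    push Not at hcon
    have : Nat.card {r : R // r * r = 1} ≤ Nat.card V :=
      Nat.card_le_card_of_injective
        (fun r => (⟨(r.1 : G), hQV _ (hcon _ r.1.2 (congrArg Subtype.val r.2)) (congrArg Subtype.val r.2)⟩ : V))
        fun r r' e => Subtype.ext (Subtype.ext (congrArg (fun z : V => (z : G)) e))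
    omega
  have haM := hRM haR
  have hai : a⁻¹ = a := inv_eq_of_mul_eq_one_right ha2
  have hat : a * t * a⁻¹ = t := by
    rw [mem_centralizer_singleton_iff.1 (hR haR), mul_inv_cancel_right]
  have hconjT : ∀ v ∈ V, a * v * a⁻¹ = v ∨ a * v * a⁻¹ = v * t := by
    intro v hv
    obtain ⟨x, hx, rfl⟩ := hsqrt v hv
    set y := a * x * a⁻¹ with hy
    have hyQ : y ∈ Q := hQn a haM x hx
    set r := x * a * x⁻¹ * a⁻¹ with hr
    have hrR : r ∈ R := mul_mem (hRn x (hQM hx) (hQc x hx t (hVQ htV)) a haR) (inv_mem haR)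
    have hry : r = x * y⁻¹ := by rw [hr, hy]; group
    have hay : a * y * a⁻¹ = x := by
      rw [hy, hai, ← mul_assoc, ← mul_assoc, ha2, one_mul, mul_assoc, ha2, mul_one]
    have e : a * r * a⁻¹ * r⁻¹ = y ^ 2 * (x ^ 2)⁻¹ := by
      rw [hry, show a * (x * y⁻¹) * a⁻¹ = a * x * a⁻¹ * (a * y * a⁻¹)⁻¹ by group, hay, ← hy]
      have c1 : Commute y x := hQc y hyQ x hx
      rw [mul_inv_rev, inv_inv, show y * x⁻¹ * (y * x⁻¹) = y * (x⁻¹ * y) * x⁻¹ by group,
        c1.symm.inv_left.eq, pow_two, pow_two, mul_inv_rev]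
      group
    have h := hcomm a haR r hrR
    rw [e] at h
    rw [show a * x ^ 2 * a⁻¹ = y ^ 2 by rw [hy, conj_pow]]
    obtain ⟨k, hk⟩ := mem_zpowers_iff.1 h
    rw [← zpow_mod_orderOf, ht] at hk
    rcases Int.emod_two_eq_zero_or_one k with e' | e' <;> rw [Nat.cast_ofNat, e'] at hk
    · left
      rw [zpow_zero] at hk
      exact mul_inv_eq_one.1 hk.symm
    · right
      rw [zpow_one] at hk
      rw [hQc _ (pow_mem hx 2) _ (hVQ htV), hk]
      group
  obtain ⟨w1, hw1, hw1a⟩ : ∃ w ∈ V, a * w * a⁻¹ = w * t := by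
    by_contra hcon
    push Not at hcon
    refine haQ (hK a haM fun v hv => ?_)
    exact mul_inv_eq_iff_eq_mul.1 ((hconjT v hv).resolve_right (hcon v hv))
  have hVsq : ∀ v ∈ V, v * v = 1 := fun v hv => by rw [← pow_two]; exact hVexp v hv
  have hVc : ∀ x ∈ V, ∀ y ∈ V, x * y = y * x := fun x hx y hy => hQc x (hVQ hx) y (hVQ hy)
  obtain ⟨w2, hw2, hw2a, hw2t⟩ : ∃ w ∈ V, a * w * a⁻¹ = w ∧ w ∉ zpowers t := by
    have hlt : ¬ (V : Set G) ⊆ ({1, t, w1, w1 * t} : Finset G) := fun h => by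
      have := Set.ncard_le_ncard h (Finset.finite_toSet _)
      rw [Set.ncard_coe_finset, ← Nat.card_coe_set_eq] at this
      have h4 := this.trans (Finset.card_le_four (a := (1 : G)) (b := t) (c := w1) (d := w1 * t))
      rw [SetLike.coe_sort_coe, hVcard] at h4
      omega
    obtain ⟨x, hx, hxn⟩ := Set.not_subset.1 hlt
    simp only [Finset.coe_insert, Finset.coe_singleton, Set.mem_insert_iff, Set.mem_singleton_iff,
      not_or] at hxn
    have hz : ∀ {y}, y ∈ zpowers t → y = 1 ∨ y = t := fun {y} hy => by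
      obtain ⟨k, hk⟩ := mem_zpowers_iff.1 hy
      rw [← zpow_mod_orderOf, ht] at hk
      rcases Int.emod_two_eq_zero_or_one k with e' | e' <;> rw [Nat.cast_ofNat, e'] at hk
      · exact Or.inl (by rw [← hk, zpow_zero])
      · exact Or.inr (by rw [← hk, zpow_one])
    rcases hconjT x hx with e | e
    · exact ⟨x, hx, e, fun h => (hz h).elim hxn.1 hxn.2.1⟩
    · refine ⟨x * w1, mul_mem hx hw1, ?_, fun h => ?_⟩
      · rw [show a * (x * w1) * a⁻¹ = a * x * a⁻¹ * (a * w1 * a⁻¹) by group, e, hw1a,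
          show x * t * (w1 * t) = x * (t * w1) * t by group, hVc t htV w1 hw1, mul_assoc, mul_assoc,
          hVsq t htV, mul_one]
      · rcases hz h with h' | h'
        · exact hxn.2.2.1 (by rw [← mul_one x, ← hVsq w1 hw1, ← mul_assoc, h', one_mul])
        · exact hxn.2.2.2 (by rw [← mul_one x, ← hVsq w1 hw1, ← mul_assoc, h', hVc w1 hw1 t htV])
  -- codes for `V`
  have hw2' : w2 ≠ 1 ∧ w2 ≠ t := ⟨fun h => hw2t (h ▸ one_mem _), fun h => hw2t (h ▸ mem_zpowers t)⟩
  have htt := hVsq t htV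
  have hbit : ∀ i j k : ℕ, i < 2 → j < 2 → k < 2 → w1 ^ i * w2 ^ j * t ^ k = 1 →
      i = 0 ∧ j = 0 ∧ k = 0 := by
    intro i j k hi hj hk e
    have e' := congrArg (fun g => a * g * a⁻¹) e
    simp only [mul_one, mul_inv_cancel] at e'
    rw [show a * (w1 ^ i * w2 ^ j * t ^ k) * a⁻¹ =
      (a * w1 * a⁻¹) ^ i * (a * w2 * a⁻¹) ^ j * (a * t * a⁻¹) ^ k by
        simp only [conj_pow]; group, hw1a, hw2a, hat] at e'
    interval_cases i
    · interval_cases j <;> interval_cases k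
      · exact ⟨rfl, rfl, rfl⟩
      · exact absurd (by simpa using e) ht1
      · exact absurd (by simpa using e) hw2'.1
      · refine absurd ?_ hw2'.2
        rw [← mul_one w2, ← htt, ← mul_assoc]
        simpa using congrArg (· * t) e
    · exfalso
      rw [pow_one] at e e'
      rw [show w1 * t * w2 ^ j * t ^ k = w1 * (t * (w2 ^ j * t ^ k)) by group,
        ← hVc (w2 ^ j * t ^ k) (mul_mem (pow_mem hw2 j) (pow_mem htV k)) t htV,
        show w1 * (w2 ^ j * t ^ k * t) = w1 * w2 ^ j * t ^ k * t by group, e, one_mul] at e'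
      exact ht1 e'
  let c : ℕ → G := fun n => w1 ^ (n % 2) * w2 ^ (n / 2 % 2) * t ^ (n / 4 % 2)
  have hcV : ∀ n, c n ∈ V := fun n => mul_mem (mul_mem (pow_mem hw1 _) (pow_mem hw2 _)) (pow_mem htV _)
  have hp2 : ∀ {x}, x ∈ V → ∀ {m n : ℕ}, m % 2 = n % 2 → x ^ m = x ^ n := fun {x} hx {m n} e => by
    rw [← Nat.mod_add_div m 2, ← Nat.mod_add_div n 2, pow_add, pow_add, pow_mul, pow_mul, hVexp x hx,
      one_pow, one_pow, e]
  have hcx : ∀ m n, m < 8 → n < 8 → c (m ^^^ n) = c m * c n := by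
    intro m n hm hn'
    have c1 : ∀ p p' r r' s s' : ℕ, w1 ^ p * w2 ^ r * t ^ s * (w1 ^ p' * w2 ^ r' * t ^ s') =
        w1 ^ (p + p') * w2 ^ (r + r') * t ^ (s + s') := fun p p' r r' s s' => by
      have k1 : Commute (t ^ s) (w1 ^ p') := hVc _ (pow_mem htV _) _ (pow_mem hw1 _)
      have k2 : Commute (w2 ^ r) (w1 ^ p') := hVc _ (pow_mem hw2 _) _ (pow_mem hw1 _)
      have k3 : Commute (t ^ s) (w2 ^ r') := hVc _ (pow_mem htV _) _ (pow_mem hw2 _)
      calc w1 ^ p * w2 ^ r * t ^ s * (w1 ^ p' * w2 ^ r' * t ^ s')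
          = w1 ^ p * w2 ^ r * (t ^ s * w1 ^ p') * w2 ^ r' * t ^ s' := by group
        _ = w1 ^ p * (w2 ^ r * w1 ^ p') * (t ^ s * w2 ^ r') * t ^ s' := by rw [k1.eq]; group
        _ = w1 ^ p * w1 ^ p' * (w2 ^ r * w2 ^ r') * (t ^ s * t ^ s') := by rw [k2.eq, k3.eq]; group
        _ = _ := by rw [← pow_add, ← pow_add, ← pow_add]
    have hd : ∀ m < 8, ∀ n < 8, (m ^^^ n) % 2 = (m % 2 + n % 2) % 2 ∧
        (m ^^^ n) / 2 % 2 = (m / 2 % 2 + n / 2 % 2) % 2 ∧
          (m ^^^ n) / 4 % 2 = (m / 4 % 2 + n / 4 % 2) % 2 := by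
      decide +kernel
    obtain ⟨d1, d2, d3⟩ := hd m hm n hn'
    simp only [c]
    rw [c1, hp2 hw1 (m := (m ^^^ n) % 2) (n := m % 2 + n % 2) (by omega),
      hp2 hw2 (m := (m ^^^ n) / 2 % 2) (n := m / 2 % 2 + n / 2 % 2) (by omega),
      hp2 htV (m := (m ^^^ n) / 4 % 2) (n := m / 4 % 2 + n / 4 % 2) (by omega)]
  have hc0 : c 0 = 1 := by simp [c]
  have hcinj : ∀ m < 8, ∀ n < 8, c m = c n → m = n := by
    intro m hm n hn' e
    have h1 : c (m ^^^ n) = 1 := by rw [hcx m n hm hn', e]; exact hVsq _ (hcV n)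
    have h2 := hbit _ _ _ (Nat.mod_lt _ (by norm_num)) (Nat.mod_lt _ (by norm_num))
      (Nat.mod_lt _ (by norm_num)) h1
    interval_cases m <;> interval_cases n <;> first | rfl | simp at h2
  have hcsurj : ∀ v ∈ V, ∃ n < 8, c n = v := by
    have e : (Finset.range 8).image c = (V : Set G).toFinite.toFinset := by
      refine Finset.eq_of_subset_of_card_le (fun x hx => ?_) ?_
      · obtain ⟨n, -, rfl⟩ := Finset.mem_image.1 hx
        exact (Set.Finite.mem_toFinset _).2 (hcV n)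
      · rw [Finset.card_image_of_injOn (fun m hm n hn' e =>
          hcinj m (Finset.mem_range.1 hm) n (Finset.mem_range.1 hn') e), Finset.card_range,
          ← Set.ncard_eq_toFinset_card, ← Nat.card_coe_set_eq]
        exact le_of_eq hVcard
    intro v hv
    have := (Set.Finite.mem_toFinset (V : Set G).toFinite).2 hv
    rw [← e] at this
    obtain ⟨n, hn', e'⟩ := Finset.mem_image.1 this
    exact ⟨n, Finset.mem_range.1 hn', e'⟩
  -- the element permuting the basis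
  obtain ⟨m, hmM, hm1, hm2, hm3⟩ : ∃ m ∈ M, m * w1 * m⁻¹ = t ∧ m * w2 * m⁻¹ = w1 ∧
      m * t * m⁻¹ = w2 := by
    have hV' : ∀ (x : M ⧸ Cfsg.pCore 2 M) (v : G), v ∈ V → ∃ n < 8,
        c n = (x.out : G) * v * (x.out : G)⁻¹ := fun x v hv => hcsurj _ (hVn _ x.out.2 v hv)
    let T := (Finset.range 8 ×ˢ Finset.range 8 ×ˢ Finset.range 8).filter fun p =>
      p.1 ≠ 0 ∧ p.2.1 ≠ 0 ∧ p.2.1 ≠ p.1 ∧ p.2.2 ≠ 0 ∧ p.2.2 ≠ p.1 ∧ p.2.2 ≠ p.2.1 ∧
        p.2.2 ≠ p.1 ^^^ p.2.1
    have hTc : T.card = 168 := indep_count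
    choose f hf8 hfe using fun x => hV' x w1 hw1
    choose g hg8 hge using fun x => hV' x w2 hw2
    choose k hk8 hke using fun x => hV' x t htV
    have hinj' : ∀ x (u v : G), (x : M ⧸ Cfsg.pCore 2 M).out.1 * u * (x.out.1)⁻¹ = x.out.1 * v * (x.out.1)⁻¹ → u = v :=
      fun x u v e => mul_left_cancel (mul_right_cancel e)
    have c1 : c 1 = w1 := by simp [c]
    have c2 : c 2 = w2 := by simp [c]
    have c4 : c 4 = t := by simp [c]
    have hz : ∀ x n v, c n = (x : M ⧸ Cfsg.pCore 2 M).out.1 * v * (x.out.1)⁻¹ → v ≠ 1 → n ≠ 0 :=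
      fun x n v e hv h => hv (hinj' x v 1 (by rw [← e, h, hc0]; group))
    have hmap : ∀ x, (f x, g x, k x) ∈ T := by
      intro x
      simp only [T, Finset.mem_filter, Finset.mem_product, Finset.mem_range]
      refine ⟨⟨hf8 x, hg8 x, hk8 x⟩, hz x _ _ (hfe x) ?_, hz x _ _ (hge x) hw2'.1, fun e => ?_,
        hz x _ _ (hke x) ht1, fun e => ?_, fun e => ?_, fun e => ?_⟩
      · exact fun h => absurd (hcinj 1 (by norm_num) 0 (by norm_num) (by rw [c1, hc0, h])) (by norm_num)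
      · have := hinj' x _ _ ((hge x).symm.trans ((congrArg c e).trans (hfe x)))
        exact absurd (hcinj 2 (by norm_num) 1 (by norm_num) (by rw [c1, c2, this])) (by norm_num)
      · have := hinj' x _ _ ((hke x).symm.trans ((congrArg c e).trans (hfe x)))
        exact absurd (hcinj 4 (by norm_num) 1 (by norm_num) (by rw [c1, c4, this])) (by norm_num)
      · have := hinj' x _ _ ((hke x).symm.trans ((congrArg c e).trans (hge x)))
        exact absurd (hcinj 4 (by norm_num) 2 (by norm_num) (by rw [c2, c4, this])) (by norm_num)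
      · have h' : c (k x) = x.out.1 * (w1 * w2) * (x.out.1)⁻¹ := by
          rw [e, hcx _ _ (hf8 x) (hg8 x), hfe, hge]; group
        have := hinj' x _ _ ((hke x).symm.trans h')
        exact absurd (hcinj 4 (by norm_num) (1 ^^^ 2) (by decide) (by
          rw [hcx 1 2 (by norm_num) (by norm_num), c1, c2, c4, this])) (by decide)
    have hFinj : Function.Injective fun x => (⟨_, hmap x⟩ : ↥T) := by
      intro x y e
      have e' := congrArg Subtype.val e
      simp only [Prod.mk.injEq] at e'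
      obtain ⟨e1, e2, e3⟩ := e'
      set p := x.out with hp
      set r := y.out with hr
      have hmem : (p : G)⁻¹ * r ∈ Q := by
        refine hK _ (mul_mem (inv_mem p.2) r.2) fun v hv => ?_
        have hb : ∀ u, (p : G) * u * (p : G)⁻¹ = r * u * (r : G)⁻¹ →
            Commute ((p : G)⁻¹ * r) u := fun u hu => by
          show (p : G)⁻¹ * r * u = u * ((p : G)⁻¹ * r)
          calc (p : G)⁻¹ * r * u = (p : G)⁻¹ * (r * u * (r : G)⁻¹) * r := by group
            _ = _ := by rw [← hu]; group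
        obtain ⟨n, -, rfl⟩ := hcsurj v hv
        exact ((((hb w1 (by rw [← hfe, e1, hfe])).pow_right _).mul_right
          ((hb w2 (by rw [← hge, e2, hge])).pow_right _)).mul_right
          ((hb t (by rw [← hke, e3, hke])).pow_right _)).eq
      obtain ⟨z, hz, hze⟩ := hmem
      have hz' : z = p⁻¹ * r := Subtype.ext (by simpa using hze)
      rw [← QuotientGroup.out_eq' x, ← QuotientGroup.out_eq' y, QuotientGroup.eq, ← hp, ← hr, ← hz']
      exact hz
    obtain ⟨x, hx⟩ := (hFinj.bijective_of_nat_card_le (by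
      rw [Nat.card_eq_fintype_card, Fintype.card_coe, hTc, Nat.card_congr eM.toEquiv, h168])).2
      ⟨(4, 1, 2), by simp [T]⟩
    have hx' := congrArg Subtype.val hx
    simp only [Prod.mk.injEq] at hx'
    exact ⟨x.out.1, x.out.2, by rw [← hfe, hx'.1, c4], by rw [← hge, hx'.2.1, c1],
      by rw [← hke, hx'.2.2, c2]⟩
  -- order three
  set b := m ^ 4 with hb
  have hbM : b ∈ M := pow_mem hmM 4
  have hm3Q : m ^ 3 ∈ Q := by
    refine hK _ (pow_mem hmM 3) fun v hv => ?_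
    obtain ⟨n, -, rfl⟩ := hcsurj v hv
    have h3 : ∀ x y z : G, m * x * m⁻¹ = y → m * y * m⁻¹ = z → m * z * m⁻¹ = x →
        Commute (m ^ 3) x := fun x y z h1 h2 h3 => by
      show m ^ 3 * x = x * m ^ 3
      calc m ^ 3 * x = m * (m * (m * x * m⁻¹) * m⁻¹) * m⁻¹ * m ^ 3 := by simp [pow_succ, mul_assoc]
        _ = _ := by rw [h1, h2, h3]
    exact ((((h3 w1 t w2 hm1 hm3 hm2).pow_right _).mul_right
      ((h3 w2 w1 t hm2 hm1 hm3).pow_right _)).mul_right ((h3 t w2 w1 hm3 hm2 hm1).pow_right _)).eq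
  have hb3 : b ^ 3 = 1 := by rw [hb, ← pow_mul, show 4 * 3 = 3 * 4 from rfl, pow_mul, hQ4 _ hm3Q]
  have hbv : ∀ v ∈ V, b * v * b⁻¹ = m * v * m⁻¹ := fun v hv => by
    have e : m ^ 3 * v = v * m ^ 3 := hQc _ hm3Q _ (hVQ hv)
    calc b * v * b⁻¹ = m * (m ^ 3 * v) * (m * m ^ 3)⁻¹ := by rw [hb]; group
      _ = _ := by rw [e]; group
  obtain ⟨e3, he3, hsq3⟩ := hsqrt t htV
  set e2 := b * e3 * b⁻¹ with he2
  set e1 := b * e2 * b⁻¹ with he1
  have hsq2 : e2 ^ 2 = w2 := by rw [he2, conj_pow, hsq3, hbv t htV, hm3]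
  have hsq1 : e1 ^ 2 = w1 := by rw [he1, conj_pow, hsq2, hbv w2 hw2, hm2]
  have he2Q : e2 ∈ Q := hQn b hbM _ he3
  have he1Q : e1 ∈ Q := hQn b hbM _ he2Q
  have hbe1 : b * e1 * b⁻¹ = e3 := by
    rw [he1, he2]
    calc _ = b ^ 3 * e3 * (b ^ 3)⁻¹ := by simp [pow_succ, mul_assoc]
      _ = e3 := by rw [hb3]; group
  obtain ⟨q, hq, q1, q4, q16⟩ := exists_coord hQc hQ4 hQ64 he1Q he2Q he3 (by
    rw [hsq1, hsq2, hsq3]; exact hbit)
  have q32 : q 32 = t := by
    rw [show (32 : ℕ) = vadd 16 16 from rfl, hq.mul 16 16 (by norm_num) (by norm_num), q16, ← pow_two, hsq3]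
  have hlin : ∀ v < 64, lmap (lact 2 1) (lact 2 4) (lact 2 16) v = lact 2 v := by
    have h : allLt 64 (fun v => Nat.beq (lmap (lact 2 1) (lact 2 4) (lact 2 16) v) (lact 2 v)) = true := by
      decide +kernel
    exact fun v hv => beq_eq (allLt_get h hv)
  have hbacts : Acts q b (lact 2) := fun v hv => by
    have e21 : lact 2 1 = 16 := by decide +kernel
    have e24 : lact 2 4 = 1 := by decide +kernel
    have e216 : lact 2 16 = 4 := by decide +kernel
    rw [← hlin v hv]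
    exact hq.acts_lmap (lact_lt (by norm_num) (by norm_num)) (lact_lt (by norm_num) (by norm_num))
      (lact_lt (by norm_num) (by norm_num)) (by rw [q1, e21, q16, hbe1]) (by rw [q4, e24, q1])
      (by rw [q16, e216, q4]) v hv
  obtain ⟨i, hi, hi'⟩ := (hq.mem _).1 (hQn a haM e1 he1Q)
  obtain ⟨j, hj, hj'⟩ := (hq.mem _).1 (hQn a haM e2 he2Q)
  obtain ⟨k, hk, hk'⟩ := (hq.mem _).1 (hQn a haM e3 he3)
  have hfacts : Acts q a (lmap i j k) :=
    hq.acts_lmap hi hj hk (by rw [q1, hi']) (by rw [q4, hj']) (by rw [q16, hk'])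
  -- squares of the images
  have hdi : vadd i i = 34 := hq.inj (vadd_lt _ _) (by norm_num) (by
    rw [hq.mul i i hi hi, hi', ← pow_two, conj_pow, hsq1, hw1a, show (34 : ℕ) = vadd (vadd 1 1) 32 from rfl,
      hq.mul _ _ (vadd_lt _ _) (by norm_num), hq.mul 1 1 (by norm_num) (by norm_num), q1, q32, ← pow_two, hsq1])
  have hdj : vadd j j = 8 := hq.inj (vadd_lt _ _) (by norm_num) (by
    rw [hq.mul j j hj hj, hj', ← pow_two, conj_pow, hsq2, hw2a, show (8 : ℕ) = vadd 4 4 from rfl,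
      hq.mul 4 4 (by norm_num) (by norm_num), q4, ← pow_two, hsq2])
  have hdk : vadd k k = 32 := hq.inj (vadd_lt _ _) (by norm_num) (by
    rw [hq.mul k k hk hk, hk', ← pow_two, conj_pow, hsq3, hat, q32])
  have hhalf := fun {x : ℕ} (hx : x < 64) => allLt_get half_chk hx
  have hi8 : ∃ n < 8, lift2 17 n = i := by
    have h := hhalf hi
    simp only [force_eq, hdi, Bool.and_eq_true, Bool.or_eq_true] at h
    obtain ⟨n, hn', e⟩ := anyLt_get ((h.1.1.1).resolve_left (by decide))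
    exact ⟨n, hn', beq_eq e⟩
  have hj8 : ∃ n < 8, lift2 4 n = j := by
    have h := hhalf hj
    simp only [force_eq, hdj, Bool.and_eq_true, Bool.or_eq_true] at h
    obtain ⟨n, hn', e⟩ := anyLt_get ((h.1.1.2).resolve_left (by decide))
    exact ⟨n, hn', beq_eq e⟩
  have hk8 : ∃ n < 8, lift2 16 n = k := by
    have h := hhalf hk
    simp only [force_eq, hdk, Bool.and_eq_true, Bool.or_eq_true] at h
    obtain ⟨n, hn', e⟩ := anyLt_get ((h.1.2).resolve_left (by decide))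
    exact ⟨n, hn', beq_eq e⟩
  -- the action on squares is the model one
  have hVq : ∀ v ∈ V, ∃ n < 8, q (dbl n) = v := fun v hv => by
    obtain ⟨x, hx, rfl⟩ := hsqrt v hv
    obtain ⟨u, hu, rfl⟩ := (hq.mem _).1 hx
    have h := hhalf hu
    simp only [force_eq, Bool.and_eq_true] at h
    obtain ⟨n, hn', e⟩ := anyLt_get h.2
    exact ⟨n, hn', by rw [beq_eq e, hq.mul u u hu hu, pow_two]⟩
  have haV : ∀ n < 8, a * q (dbl n) * a⁻¹ = q (lact 1 (dbl n)) := by
    have h8 : allLt 8 (fun n => Nat.beq (lmap 17 4 16 (dbl n)) (lact 1 (dbl n))) = true := by decide +kernel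
    have h8' : allLt 8 (fun a' => allLt 8 (fun b' => allLt 8 (fun c' => allLt 8 (fun n =>
        Nat.beq (lmap (lift2 17 a') (lift2 4 b') (lift2 16 c') (dbl n)) (lmap 17 4 16 (dbl n)))))) = true := by
      decide +kernel
    intro n hn'
    rw [hfacts _ (show dbl n < 64 from lift2_lt _ _)]
    obtain ⟨n1, h1, rfl⟩ := hi8
    obtain ⟨n2, h2, rfl⟩ := hj8
    obtain ⟨n3, h3, rfl⟩ := hk8
    rw [beq_eq (allLt_get (allLt_get (allLt_get (allLt_get h8' h1) h2) h3) hn'), beq_eq (allLt_get h8 hn')]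
  -- the relations hold in the action
  let P : (ℕ → ℕ) → G → Prop := fun f g => g ∈ M ∧ ∀ n < 8, g * q (dbl n) * g⁻¹ = q (f (dbl n))
  have hP : ∀ g ∈ M, ∀ f : ℕ → ℕ, Acts q g f → ∀ f' : ℕ → ℕ,
      (∀ n < 8, g * q (dbl n) * g⁻¹ = q (f' (dbl n))) → (∀ n < 8, Nat.beq (f' (dbl n)) (dbl n) = true) →
      ∀ v < 64, f v < 64 → f v = v := by
    intro g hg f hgf f' hgf' hf' v hv hfv
    have hgQ : g ∈ Q := hK g hg fun x hx => by
      obtain ⟨n, hn', rfl⟩ := hVq x hx
      have e := hgf' n hn'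
      rw [beq_eq (hf' n hn')] at e
      exact mul_inv_eq_iff_eq_mul.1 e
    refine hq.inj hfv hv ?_
    rw [← hgf v hv, hQc _ hgQ _ (hq.mem_q hv), mul_inv_cancel_right]
  have hfl : ∀ v < 64, lmap i j k v < 64 := fun v _ => lmap_lt _ _ _ _
  have hBl : ∀ v < 64, lact 2 v < 64 := fun v hv => lact_lt (by norm_num) hv
  have hAl : ∀ v < 64, lact 1 v < 64 := fun v hv => lact_lt (by norm_num) hv
  have hdl : ∀ n, dbl n < 64 := fun n => lift2_lt _ _
  have hA8 : ∀ v, (∃ n < 8, v = dbl n) → a * q v * a⁻¹ = q (lact 1 v) := by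
    rintro v ⟨n, hn', rfl⟩; exact haV n hn'
  have hclosed : allLt 8 (fun n => anyLt 8 (fun n' => Nat.beq (dbl n') (lact 1 (dbl n))) &&
      anyLt 8 (fun n' => Nat.beq (dbl n') (lact 2 (dbl n)))) = true := by
    decide +kernel
  -- restricted actions
  let A2 : G → (ℕ → ℕ) → Prop := fun g f => ∀ n < 8, g * q (dbl n) * g⁻¹ = q (f (dbl n)) ∧
    ∃ n' < 8, dbl n' = f (dbl n)
  have A2a : A2 a (lact 1) := fun n hn' => ⟨haV n hn', by
    have h := allLt_get hclosed hn'
    rw [Bool.and_eq_true] at h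
    obtain ⟨n', h1, h2⟩ := anyLt_get h.1
    exact ⟨n', h1, beq_eq h2⟩⟩
  have A2b : A2 b (lact 2) := fun n hn' => ⟨hbacts _ (hdl n), by
    have h := allLt_get hclosed hn'
    rw [Bool.and_eq_true] at h
    obtain ⟨n', h1, h2⟩ := anyLt_get h.2
    exact ⟨n', h1, beq_eq h2⟩⟩
  have A2mul : ∀ {g g' : G} {f f' : ℕ → ℕ}, A2 g f → A2 g' f' → A2 (g * g') (fun v => f (f' v)) := by
    intro g g' f f' h h' n hn'
    obtain ⟨e, n', hn'', e'⟩ := h' n hn'
    obtain ⟨e2, n2, hn2, e2'⟩ := h n' hn''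
    refine ⟨?_, n2, hn2, ?_⟩
    · rw [show g * g' * q (dbl n) * (g * g')⁻¹ = g * (g' * q (dbl n) * g'⁻¹) * g⁻¹ by group, e, ← e', e2]
      simp only [e']
    · rw [e2', e']
  have A2pow : ∀ {g : G} {f : ℕ → ℕ}, A2 g f → ∀ r, A2 (g ^ r) (iter f r) := by
    intro g f h r
    induction r with
    | zero => exact fun n hn' => ⟨by simp [iter], n, hn', rfl⟩
    | succ r ih =>
      have e : iter f (r + 1) = fun v => f (iter f r v) := funext fun v => force_eq _ _
      rw [e, pow_succ']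
      exact A2mul h ih
  have hrel : ∀ v < 64, relOKM (lmap i j k) v = true := by
    intro v hv
    have hr := fun n (hn' : n < 8) => allLt_get rel_chk hn'
    simp only [relOKM, Bool.and_eq_true] at hr ⊢
    have hfB : ∀ u < 64, lmap i j k (lact 2 u) < 64 := fun u _ => lmap_lt _ _ _ _
    have hc' : ∀ u < 64, lmap i j k (lact 2 (lact 2 (lmap i j k (lact 2 u)))) < 64 :=
      fun u _ => lmap_lt _ _ _ _
    have r1 := hP _ (mul_mem haM haM) _ (hfacts.comp hfacts hfl) (fun u => lact 1 (lact 1 u)) (fun n hn' => (A2mul A2a A2a n hn').1)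
      (fun n hn' => (hr n hn').1.1) v hv (lmap_lt _ _ _ _)
    have hab := hfacts.comp hbacts hBl
    have r2 := hP _ (pow_mem (mul_mem haM hbM) 7) _ (hab.pow hfB 7).1 (iter (fun u => lact 1 (lact 2 u)) 7)
      (fun n hn' => (A2pow (A2mul A2a A2b) 7 n hn').1)
      (fun n hn' => (hr n hn').1.2) v hv ((hab.pow hfB 7).2 v hv)
    have hc := hfacts.comp (hbacts.comp (hbacts.comp hab hfB) (fun u hu => hBl _ (hfB u hu)))
      (fun u hu => hBl _ (hBl _ (hfB u hu)))
    have u1 := A2mul A2a A2b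
    have u2 : A2 (b * (a * b)) (fun v => lact 2 (lact 1 (lact 2 v))) :=
      A2mul (f := lact 2) (f' := fun v => lact 1 (lact 2 v)) A2b u1
    have u3 : A2 (b * (b * (a * b))) (fun v => lact 2 (lact 2 (lact 1 (lact 2 v)))) :=
      A2mul (f := lact 2) (f' := fun v => lact 2 (lact 1 (lact 2 v))) A2b u2
    have u4 : A2 (a * (b * (b * (a * b)))) (fun v => lact 1 (lact 2 (lact 2 (lact 1 (lact 2 v))))) :=
      A2mul (f := lact 1) (f' := fun v => lact 2 (lact 2 (lact 1 (lact 2 v)))) A2a u3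
    have hA4 := @A2pow (a * (b * (b * (a * b)))) (fun v => lact 1 (lact 2 (lact 2 (lact 1 (lact 2 v))))) u4 4
    have r3 := hP _ (pow_mem (mul_mem haM (mul_mem hbM (mul_mem hbM (mul_mem haM hbM)))) 4) _
      (hc.pow hc' 4).1 (iter (fun u => lact 1 (lact 2 (lact 2 (lact 1 (lact 2 u))))) 4) (fun n hn' => (hA4 n hn').1)
      (fun n hn' => (hr n hn').2) v hv ((hc.pow hc' 4).2 v hv)
    exact ⟨⟨(congrArg (Nat.beq · v) r1).trans (Nat.beq_refl v), (congrArg (Nat.beq · v) r2).trans (Nat.beq_refl v)⟩,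
      (congrArg (Nat.beq · v) r3).trans (Nat.beq_refl v)⟩
  -- change of basis
  obtain ⟨d, hd, hfix⟩ : ∃ d < 8, ∀ v < 64, lmap i j k (pmap (lift2 16 d) v) =
      pmap (lift2 16 d) (lact 1 v) := by
    obtain ⟨n1, h1, rfl⟩ := hi8
    obtain ⟨n2, h2, rfl⟩ := hj8
    obtain ⟨n3, h3, rfl⟩ := hk8
    have h := allLt_get (allLt_get (allLt_get lift_chk h1) h2) h3
    simp only [force_eq, hrel 1 (by norm_num), hrel 4 (by norm_num), hrel 16 (by norm_num),
      Bool.and_self, Bool.not_true, Bool.false_or] at h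
    obtain ⟨d, hd, h'⟩ := anyLt_get h
    rw [force_eq] at h'
    exact ⟨d, hd, fun v hv => beq_eq (allLt_get h' hv)⟩
  set p := lift2 16 d
  have hbij := allLt_get pmap_bij_chk hd
  simp only [force_eq, Bool.and_eq_true] at hbij
  have hp32 : pmap p 32 = 32 := beq_eq hbij.1.2
  have hpl : ∀ v < 64, pmap p v < 64 ∧ pmap p (lact 2 v) = lact 2 (pmap p v) ∧
      ∃ w < 64, pmap p w = v := fun v hv => by
    have h := allLt_get hbij.2 hv
    simp only [Bool.and_eq_true] at h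
    obtain ⟨w, hw, e⟩ := anyLt_get h.2
    exact ⟨blt_lt h.1.1, beq_eq h.1.2, w, hw, beq_eq e⟩
  let q' : ℕ → G := fun v => q (pmap p v)
  have hsurjp : Set.SurjOn (pmap p) (Set.Iio 64) (Set.Iio 64) := fun v hv => by
    obtain ⟨w, hw, e⟩ := (hpl v hv).2.2
    exact ⟨w, hw, e⟩
  have hinjp : Set.InjOn (pmap p) (Set.Iio 64) :=
    ((Set.finite_Iio 64).injOn_iff_bijOn_of_mapsTo (fun v hv => (hpl v hv).1)).2
      (((Set.finite_Iio 64).surjOn_iff_bijOn_of_mapsTo (fun v hv => (hpl v hv).1)).1 hsurjp)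
  refine ⟨q', a, b, ⟨⟨fun v w hv hw => ?_, fun v hv w hw e => hinjp hv hw
      (hq.inj (hpl v hv).1 (hpl w hw).1 e), fun g => ⟨fun hg => ?_, ?_⟩⟩, ?_, hQM, hQn, hMcard, haR, haM,
      hbM, ha2, hb3, fun v hv => ?_, fun v hv => ?_, fun g hg hgq => ?_⟩⟩
  · have e := allLt_get (allLt_get (allLt_get pmap_chk hd) hv) hw
    rw [force_eq] at e
    show q (pmap p (vadd v w)) = q (pmap p v) * q (pmap p w)
    rw [beq_eq e, hq.mul _ _ (hpl v hv).1 (hpl w hw).1]
  · obtain ⟨v, hv, rfl⟩ := (hq.mem g).1 hg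
    obtain ⟨w, hw, e⟩ := (hpl v hv).2.2
    exact ⟨w, hw, congrArg q e⟩
  · rintro ⟨v, hv, rfl⟩
    exact hq.mem_q (hpl v hv).1
  · show q (pmap p 32) = t
    rw [hp32, q32]
  · show a * q (pmap p v) * a⁻¹ = q (pmap p (lact 1 v))
    rw [hfacts _ (hpl v hv).1, hfix v hv]
  · show b * q (pmap p v) * b⁻¹ = q (pmap p (lact 2 v))
    rw [hbacts _ (hpl v hv).1, (hpl v hv).2.1]
  · refine hK g hg fun x hx => ?_
    obtain ⟨u, hu, rfl⟩ := (hq.mem x).1 (hVQ hx)
    obtain ⟨w, hw, rfl⟩ := (hpl u hu).2.2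
    exact mul_inv_eq_iff_eq_mul.1 (hgq w hw)

end CfsgLib.InvChar.HSRec
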