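import Cfsg.Agent.Lib.InvChar.HSRec.Data

/-!
Finite checks on the model `4³ : L₃(2)`.
-/

set_option autoImplicit false
set_option maxRecDepth 100000

namespace CfsgLib.InvChar.HSRec

open CfsgLib.InvChar.Coset

/-- All naturals below `n`. -/
noncomputable def allLt (n : ℕ) (p : ℕ → Bool) : Bool :=
  Nat.rec true (fun k ih => p k && ih) n

theorem allLt_get {n : ℕ} {p : ℕ → Bool} (h : allLt n p = true) {i : ℕ} (hi : i < n) : p i = true := by
  induction n with
  | zero => omega
  | succ n ih =>
    have h' : (p n && allLt n p) = true := h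
    rw [Bool.and_eq_true] at h'
    rcases Nat.lt_succ_iff_lt_or_eq.1 hi with h1 | rfl
    exacts [ih h'.2 h1, h'.1]

/-- Some natural below `n`. -/
noncomputable def anyLt (n : ℕ) (p : ℕ → Bool) : Bool :=
  Nat.rec false (fun k ih => p k || ih) n

theorem anyLt_get {n : ℕ} {p : ℕ → Bool} (h : anyLt n p = true) : ∃ i < n, p i = true := by
  induction n with
  | zero => cases h
  | succ n ih =>
    have h' : (p n || anyLt n p) = true := h
    rw [Bool.or_eq_true] at h'
    rcases h' with h' | h'
    · exact ⟨n, Nat.lt_succ_self n, h'⟩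
    · obtain ⟨i, hi, e⟩ := ih h'
      exact ⟨i, Nat.lt_succ_of_lt hi, e⟩

/-- Parent and generator of a matrix. -/
noncomputable def par (l : ℕ) : ℕ := List.getD parL l 0

theorem par_chk : allLt 167 (fun l => force (l + 1) fun l' => force (par l') fun p =>
    Nat.blt (p / 2) l' && allLt 64 (fun v =>
      Nat.beq (lact l' v) (lact (p % 2 + 1) (lact (p / 2) v)))) = true := by
  decide +kernel

theorem lact_chk : allLt 168 (fun l => allLt 64 (fun v => Nat.blt (lact l v) 64)) = true := by
  decide +kernel

theorem zero_chk : allLt 64 (fun v => Nat.beq (lact 0 v) v) = true := by decide +kernel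

theorem lmul_chk : allLt 168 (fun l => allLt 168 (fun m => force (lmul l m) fun k =>
    Nat.blt k 168 && Nat.beq (lact k 1) (lact l (lact m 1)) && Nat.beq (lact k 4) (lact l (lact m 4)) &&
      Nat.beq (lact k 16) (lact l (lact m 16)))) = true := by
  decide +kernel

theorem inj_chk : allLt 168 (fun l => allLt 168 (fun m => Nat.beq l m ||
    !(Nat.beq (lact l 1) (lact m 1) && Nat.beq (lact l 4) (lact m 4) &&
      Nat.beq (lact l 16) (lact m 16)))) = true := by
  decide +kernel

theorem lin_chk : allLt 64 (fun v => allLt 64 (fun w => force (vadd v w) fun u =>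
    Nat.beq (lact 1 u) (vadd (lact 1 v) (lact 1 w)) &&
      Nat.beq (lact 2 u) (vadd (lact 2 v) (lact 2 w)))) = true := by
  decide +kernel

/-- Multiple of a vector by a digit. -/
noncomputable def smul (c v : ℕ) : ℕ :=
  bif Nat.beq c 0 then 0 else bif Nat.beq c 1 then v else bif Nat.beq c 2 then vadd v v
  else vadd v (vadd v v)

/-- The linear map with the given images of the basis vectors. -/
noncomputable def lmap (i j k v : ℕ) : ℕ :=
  vadd (smul (v % 4) i) (vadd (smul (v / 4 % 4) j) (smul (v / 16) k))

/-- Iteration. -/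
noncomputable def iter (f : ℕ → ℕ) (n v : ℕ) : ℕ :=
  Nat.rec v (fun _ ih => force ih f) n

/-- The vector `s + 2 c`, `c` having binary digits `n`. -/
noncomputable def lift2 (s n : ℕ) : ℕ := vadd s (2 * (n % 2) + 8 * (n / 2 % 2) + 32 * (n / 4 % 2))

/-- The relations of the image of the first generator. -/
noncomputable def relOKM (f : ℕ → ℕ) (v : ℕ) : Bool :=
  Nat.beq (f (f v)) v && Nat.beq (iter (fun u => f (lact 2 u)) 7 v) v &&
    Nat.beq (iter (fun u => f (lact 2 (lact 2 (f (lact 2 u))))) 4 v) v

/-- Change of basis commuting with the second generator, from the image `p` of the third vector. -/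
noncomputable def pmap (p v : ℕ) : ℕ := lmap (lact 2 (lact 2 p)) (lact 2 p) p v

/-- Some change of basis carries `f` to the first generator. -/
noncomputable def fixOK (f : ℕ → ℕ) : Bool :=
  anyLt 8 (fun d => force (lift2 16 d) fun p =>
    allLt 64 (fun v => Nat.beq (f (pmap p v)) (pmap p (lact 1 v))))

theorem lift_chk : allLt 8 (fun a => allLt 8 (fun b => allLt 8 (fun c =>
    force (lift2 17 a) fun i => force (lift2 4 b) fun j => force (lift2 16 c) fun k =>
      !(relOKM (lmap i j k) 1 && relOKM (lmap i j k) 4 && relOKM (lmap i j k) 16) ||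
        fixOK (lmap i j k)))) = true := by
  decide +kernel

theorem pmap_chk : allLt 8 (fun d => allLt 64 (fun v => allLt 64 (fun w =>
    force (lift2 16 d) fun p => Nat.beq (pmap p (vadd v w)) (vadd (pmap p v) (pmap p w))))) = true := by
  decide +kernel

/-- The action of the commutator. -/
noncomputable def gam (u : ℕ) : ℕ := lact 1 (lact 2 (lact 2 (lact 1 (lact 2 u))))

theorem corr_chk : force (vadd 6 (lact 1 (lact 2 (lact 2 6)))) (fun d =>
    Nat.beq (vadd d (vadd (gam d) (vadd (iter gam 2 d) (iter gam 3 d)))) 32 &&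
      Nat.beq (vadd 6 (lact 1 6)) 0) = true := by
  decide +kernel

theorem seven_chk : allLt 64 (fun v => Nat.beq v 0 || !Nat.beq (lact 1 (lact 2 v)) v) = true := by
  decide +kernel

theorem pmap_bij_chk : allLt 8 (fun d => force (lift2 16 d) fun p => Nat.beq (vadd p p) 32 &&
    Nat.beq (pmap p 32) 32 && allLt 64 (fun v => Nat.blt (pmap p v) 64 &&
      Nat.beq (pmap p (lact 2 v)) (lact 2 (pmap p v)) && anyLt 64 (fun w => Nat.beq (pmap p w) v))) = true := by
  decide +kernel

/-- The double of a vector with binary digits `n`. -/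
noncomputable def dbl (n : ℕ) : ℕ := lift2 0 n

theorem half_chk : allLt 64 (fun i => force (vadd i i) fun d =>
    (!Nat.beq d 34 || anyLt 8 (fun n => Nat.beq (lift2 17 n) i)) &&
      (!Nat.beq d 8 || anyLt 8 (fun n => Nat.beq (lift2 4 n) i)) &&
        (!Nat.beq d 32 || anyLt 8 (fun n => Nat.beq (lift2 16 n) i)) &&
          anyLt 8 (fun n => Nat.beq (dbl n) d)) = true := by
  decide +kernel

theorem rel_chk : allLt 8 (fun n => relOKM (fun u => lact 1 u) (dbl n)) = true := by decide +kernel

end CfsgLib.InvChar.HSRec
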