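import Cfsg.Agent.Lib.InvChar.HSRec.MBasis
import Cfsg.Agent.Lib.InvChar.HSRec.CertL

/-!
The normaliser of the elementary group of order eight is the model `4³ : L₃(2)`.
-/

set_option autoImplicit false
set_option maxRecDepth 100000

namespace CfsgLib.InvChar.HSRec

open CfsgLib.InvChar.Coset Subgroup

variable {G : Type*} [Group G]

theorem rel_all : allLt 64 (fun v => Nat.beq (iter (fun u => lact 1 (lact 2 u)) 7 v) v &&
    Nat.beq (lact 2 (lact 2 (lact 1 (lact 2 32)))) 32) = true := by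
  decide +kernel

theorem vadd_assoc' (u v w : ℕ) : vadd (vadd u v) w = vadd u (vadd v w) := by
  obtain ⟨a1, a2, a3⟩ := vadd_digits v w
  obtain ⟨b1, b2, b3⟩ := vadd_digits u v
  rw [show vadd (vadd u v) w = (vadd u v % 4 + w % 4) % 4 + 4 * ((vadd u v / 4 % 4 + w / 4 % 4) % 4) +
      16 * ((vadd u v / 16 + w / 16) % 4) from rfl, b1, b2, b3,
    show vadd u (vadd v w) = (u % 4 + vadd v w % 4) % 4 + 4 * ((u / 4 % 4 + vadd v w / 4 % 4) % 4) +
      16 * ((u / 16 + vadd v w / 16) % 4) from rfl, a1, a2, a3]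
  simp only [Nat.mod_add_mod, Nat.add_mod_mod, add_assoc]

/-- The letters of the complement. -/
def mLetter (a b : G) : ℕ → G
  | 0 => a
  | 1 => b⁻¹ * a * b
  | 2 => b * a * b⁻¹
  | _ => 1

/-- An involution and an element of order three in `M` with the relations of the complement. -/
structure MGens (M Q : Subgroup G) (q : ℕ → G) (a b : G) : Prop where
  coord : Coord Q q
  aM : a ∈ M
  bM : b ∈ M
  a2 : a * a = 1
  b3 : b ^ 3 = 1
  actA : Acts q a (lact 1)
  actB : Acts q b (lact 2)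
  seven : (a * b) ^ 7 = 1
  four : (a * b⁻¹ * a * b) ^ 4 = 1

theorem inv_eq_sq {b : G} (h : b ^ 3 = 1) : b⁻¹ = b * b :=
  inv_eq_of_mul_eq_one_right (by rw [← mul_assoc, ← pow_three', h])

theorem seven_eq {M Q : Subgroup G} {q : ℕ → G} {a b : G} (hq : Coord Q q) (haM : a ∈ M) (hbM : b ∈ M)
    (hA : Acts q a (lact 1)) (hB : Acts q b (lact 2))
    (faith : ∀ g ∈ M, (∀ v < 64, g * q v * g⁻¹ = q v) → g ∈ Q) : (a * b) ^ 7 = 1 := by
  have hBl : ∀ v < 64, lact 2 v < 64 := fun v hv => lact_lt (by norm_num) hv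
  have hAl : ∀ v < 64, lact 1 v < 64 := fun v hv => lact_lt (by norm_num) hv
  have hab : Acts q (a * b) (fun u => lact 1 (lact 2 u)) := hA.comp hB hBl
  have h7 := (hab.pow (fun v hv => hAl _ (hBl v hv)) 7).1
  have hmem := faith _ (pow_mem (mul_mem haM hbM) 7) fun v hv => by
    have h := allLt_get rel_all hv
    rw [Bool.and_eq_true] at h
    rw [h7 v hv, beq_eq h.1]
  obtain ⟨v, hv, e⟩ := (hq.mem _).1 hmem
  have hfix : lact 1 (lact 2 v) = v := by
    refine hq.inj (hAl _ (hBl v hv)) hv ?_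
    rw [← hab v hv, e, ← pow_succ', pow_succ, mul_inv_cancel_right]
  have h := allLt_get seven_chk hv
  rw [hfix, Nat.beq_refl, Bool.not_true, Bool.or_false] at h
  rw [← e, beq_eq h, hq.zero]

theorem MData.exists_gens {M Q : Subgroup G} {q : ℕ → G} {a b t : G} {R : Subgroup G}
    (h : MData M Q q a b t R) (ht : orderOf t = 2)
    (hRn : ∀ g ∈ M, g * t = t * g → ∀ r ∈ R, g * r * g⁻¹ ∈ R)
    (hcomm : ∀ a ∈ R, ∀ b ∈ R, a * b * a⁻¹ * b⁻¹ ∈ zpowers t) :
    ∃ a' b' : G, MGens M Q q a' b' := by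
  have hq := h.coord
  have hBl : ∀ v < 64, lact 2 v < 64 := fun v hv => lact_lt (by norm_num) hv
  have hAl : ∀ v < 64, lact 1 v < 64 := fun v hv => lact_lt (by norm_num) hv
  have hBB : Acts q b⁻¹ (fun u => lact 2 (lact 2 u)) := by
    rw [inv_eq_sq h.b3]; exact h.actB.comp h.actB hBl
  have hai : a⁻¹ = a := inv_eq_of_mul_eq_one_right h.a2
  have hw : Acts q (b⁻¹ * a * b) (fun u => lact 2 (lact 2 (lact 1 (lact 2 u)))) :=
    (hBB.comp h.actA hAl).comp h.actB hBl
  set a'' := b⁻¹ * a * b with ha''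
  have hct : a'' * t = t * a'' := by
    have e := hw 32 (by norm_num)
    have h' := allLt_get rel_all (show 0 < 64 by norm_num)
    rw [Bool.and_eq_true] at h'
    simp only [beq_eq h'.2, h.qt] at e
    exact mul_inv_eq_iff_eq_mul.1 e
  have hy := hRn a'' (mul_mem (mul_mem (inv_mem h.bM) h.aM) h.bM) hct a h.aR
  set y := a'' * a * a''⁻¹ with hydef
  have hi2 : a''⁻¹ = a'' := inv_eq_of_mul_eq_one_right (by
    rw [ha'', show b⁻¹ * a * b * (b⁻¹ * a * b) = b⁻¹ * (a * a) * b by group, h.a2]; group)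
  clear_value a''
  have hyi : y⁻¹ = y := by
    rw [hydef, mul_inv_rev, mul_inv_rev, inv_inv, hi2, hai, ← mul_assoc]
  set c := a * b⁻¹ * a * b with hcdef
  have hc : c = a * a'' := by simp only [hcdef, ha'', mul_assoc]
  have hc4 : c ^ 4 = a * y * a⁻¹ * y⁻¹ := by
    rw [hyi, hai, hydef, hi2, hc]
    simp only [pow_succ, pow_zero, one_mul, mul_assoc]
  have hmem := hcomm a h.aR y hy
  rw [← hc4] at hmem
  obtain ⟨k, hk⟩ := mem_zpowers_iff.1 hmem
  rw [← zpow_mod_orderOf, ht] at hk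
  rcases Int.emod_two_eq_zero_or_one k with e' | e' <;> rw [Nat.cast_ofNat, e'] at hk
  · rw [zpow_zero] at hk
    exact ⟨a, b, hq, h.aM, h.bM, h.a2, h.b3, h.actA, h.actB,
      seven_eq hq h.aM h.bM h.actA h.actB h.faith, hk.symm⟩
  rw [zpow_one] at hk
  -- correct by a vector inverted by the involution
  have hchk := corr_chk
  simp only [force_eq, Bool.and_eq_true] at hchk
  set d := vadd 6 (lact 1 (lact 2 (lact 2 6))) with hd
  have hd64 : d < 64 := vadd_lt _ _
  clear_value d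
  have h6 : (6 : ℕ) < 64 := by norm_num
  have hA6 := hAl 6 h6
  have h26 := hBl _ (hBl 6 h6)
  set a' := q 6 * a with ha'
  have ha'2 : a' * a' = 1 := by
    rw [show a' * a' = q 6 * (a * q 6 * a⁻¹) * (a * a) by rw [ha']; group, h.actA 6 h6,
      ← hq.mul _ _ h6 hA6, beq_eq hchk.2, hq.zero, h.a2, one_mul]
  have ha'act : Acts q a' (lact 1) := fun v hv => by
    rw [show a' * q v * a'⁻¹ = q 6 * (a * q v * a⁻¹) * (q 6)⁻¹ by rw [ha']; group, h.actA v hv,
      hq.comm h6 (hAl v hv), mul_inv_cancel_right]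
  have ha'M : a' ∈ M := mul_mem (h.Q_le (hq.mem_q h6)) h.aM
  have hgam : Acts q c gam := (((h.actA.comp hBB (fun v hv => hBl _ (hBl v hv))).comp h.actA hAl).comp
    h.actB hBl)
  have hgl : ∀ v < 64, gam v < 64 := fun v hv => hAl _ (hBl _ (hBl _ (hAl _ (hBl v hv))))
  have hc' : a' * b⁻¹ * a' * b = q d * c := by
    rw [show a' * b⁻¹ * a' * b = q 6 * (a * b⁻¹ * q 6 * (a * b⁻¹)⁻¹) * (a * b⁻¹ * a * b) by rw [ha']; group,
      (h.actA.comp hBB (fun v hv => hBl _ (hBl v hv))) 6 h6, ← hq.mul _ _ h6 (hAl _ h26), hd, hcdef]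
  refine ⟨a', b, hq, ha'M, h.bM, ha'2, h.b3, ha'act, h.actB,
    seven_eq hq ha'M h.bM ha'act h.actB h.faith, ?_⟩
  have p2 := hgam.pow hgl 2
  have p3 := hgam.pow hgl 3
  rw [hc', show (q d * c) ^ 4 = q d * (c * q d * c⁻¹) * (c ^ 2 * q d * (c ^ 2)⁻¹) *
      (c ^ 3 * q d * (c ^ 3)⁻¹) * c ^ 4 by simp only [pow_succ, pow_zero, one_mul]; group,
    hgam d hd64, p2.1 d hd64, p3.1 d hd64, mul_assoc (q d), mul_assoc (q d),
    ← hq.mul (gam d) _ (hgl d hd64) (p2.2 d hd64), ← hq.mul _ _ (vadd_lt _ _) (p3.2 d hd64),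
    ← hq.mul d _ hd64 (vadd_lt _ _)]
  have e : vadd d (vadd (vadd (gam d) (iter gam 2 d)) (iter gam 3 d)) = 32 := by
    rw [vadd_assoc']; exact beq_eq hchk.1
  rw [e, h.qt, ← hk, ← pow_two, ← ht, pow_orderOf_eq_one]

theorem MGens.exists_card {M Q : Subgroup G} {q : ℕ → G} {a b : G} (h : MGens M Q q a b) :
    ∃ S : Subgroup G, S ≤ M ∧ a ∈ S ∧ b ∈ S ∧ Finite S ∧ Nat.card S ≤ 168 := by
  set s := mLetter a b with hsdef
  set c := a * b⁻¹ * a * b with hcdef
  have hai : a⁻¹ = a := inv_eq_of_mul_eq_one_right h.a2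
  have hsM : ∀ x, s x ∈ M := fun x => by
    rcases x with _ | _ | _ | x
    · exact h.aM
    · exact mul_mem (mul_mem (inv_mem h.bM) h.aM) h.bM
    · exact mul_mem (mul_mem h.bM h.aM) (inv_mem h.bM)
    · exact one_mem M
  have hs : ∀ x, s x * s x = 1 := fun x => by
    rcases x with _ | _ | _ | x
    · exact h.a2
    · show b⁻¹ * a * b * (b⁻¹ * a * b) = 1
      rw [show b⁻¹ * a * b * (b⁻¹ * a * b) = b⁻¹ * (a * a) * b by group, h.a2]; group
    · show b * a * b⁻¹ * (b * a * b⁻¹) = 1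
      rw [show b * a * b⁻¹ * (b * a * b⁻¹) = b * (a * a) * b⁻¹ by group, h.a2]; group
    · exact one_mul 1
  have e12 : s 1 * s 2 = b⁻¹ * c * b := by
    show b⁻¹ * a * b * (b * a * b⁻¹) = b⁻¹ * (a * b⁻¹ * a * b) * b
    have h2 : b * b = b⁻¹ := (inv_eq_sq h.b3).symm
    have h3 : b⁻¹ * b⁻¹ = b := by rw [← mul_inv_rev, h2, inv_inv]
    calc _ = b⁻¹ * a * (b * b) * a * b⁻¹ := by group
      _ = b⁻¹ * a * b⁻¹ * a * (b * b) := by rw [h2]
      _ = _ := by group
  have e20 : s 2 * s 0 = b * c * b⁻¹ := by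
    show b * a * b⁻¹ * a = b * (a * b⁻¹ * a * b) * b⁻¹
    group
  have hW : wprod s [0, 2, 1, 0, 2, 1, 0] = b⁻¹ := by
    refine eq_inv_of_mul_eq_one_left ?_
    have h2 : b * b = b⁻¹ := (inv_eq_sq h.b3).symm
    rw [← h.seven]
    simp only [wprod, List.map_cons, List.map_nil, List.prod_cons, List.prod_nil, hsdef, mLetter, mul_one,
      pow_succ, pow_zero, one_mul, mul_assoc, inv_mul_cancel_left, mul_inv_cancel_left]
    have h3 : ∀ x : G, b⁻¹ * (b⁻¹ * x) = b * x := fun x => by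
      rw [← mul_assoc, ← mul_inv_rev, h2, inv_inv]
    simp only [h3]
  have hV : wprod s [0, 1, 2, 0, 1, 2, 0] = b := by
    have := wprod_reverse s hs [0, 2, 1, 0, 2, 1, 0]
    rwa [hW, inv_inv] at this
  have key : ∀ x y : ℕ, wprod s ([0, 1, 2, 0, 1, 2, 0] ++ [x] ++ [0, 2, 1, 0, 2, 1, 0] ++ [y]) =
      b * s x * b⁻¹ * s y := fun x y => by
    rw [wprod_append, wprod_append, wprod_append, hV, hW]
    simp [wprod]
  have hsix : ∀ x y : ℕ, wprod s [x, y, x, y, x, y, x, y] = (s x * s y) ^ 4 := fun x y => by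
    simp [wprod, pow_succ, mul_assoc]
  have hR : ∀ r ∈ CertL.cert.rels, wprod s r = 1 := by
    intro r hr
    change r ∈ CertL.rels at hr
    simp only [CertL.rels, List.mem_cons, List.not_mem_nil, or_false] at hr
    rcases hr with rfl | rfl | rfl | rfl | rfl | rfl | rfl | rfl | rfl | rfl | rfl
    · rw [hsix, show s 0 * s 1 = c by show a * (b⁻¹ * a * b) = a * b⁻¹ * a * b; group]; exact h.four
    · rw [hsix, e12, show b⁻¹ * c * b = b⁻¹ * c * (b⁻¹)⁻¹ by rw [inv_inv], conj_pow, h.four]; group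
    · rw [hsix, e20, conj_pow, h.four]; group
    · exact (key 0 2).trans (hs 2)
    · refine (key 2 1).trans ?_
      have e : b * s 2 * b⁻¹ = s 1 := by
        show b * (b * a * b⁻¹) * b⁻¹ = b⁻¹ * a * b
        have h2 : b * b = b⁻¹ := (inv_eq_sq h.b3).symm
        calc _ = b * b * a * (b * b)⁻¹ := by group
          _ = _ := by rw [h2, inv_inv]
      rw [e]; exact hs 1
    · refine (key 1 0).trans ?_
      rw [show b * s 1 * b⁻¹ = a by show b * (b⁻¹ * a * b) * b⁻¹ = a; group]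
      exact h.a2
    · rw [show [0, 2, 1, 0, 2, 1, 0, 0, 2, 1, 0, 2, 1, 0, 0, 2, 1, 0, 2, 1, 0] =
        [0, 2, 1, 0, 2, 1, 0] ++ [0, 2, 1, 0, 2, 1, 0] ++ [0, 2, 1, 0, 2, 1, 0] from rfl,
        wprod_append, wprod_append, hW, ← pow_three', inv_pow, h.b3, inv_one]
    · simp [wprod]
    all_goals simpa [wprod] using hs _
  let S := closure (s '' Set.Iio 3)
  let s' : ℕ → S := fun x => if hx : x < 3 then ⟨s x, subset_closure ⟨x, hx, rfl⟩⟩ else 1
  have hval : ∀ x, (s' x : G) = s x := fun x => by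
    simp only [s']
    split
    · rfl
    · rename_i hx
      obtain ⟨y, rfl⟩ : ∃ y, x = y + 3 := ⟨x - 3, by omega⟩
      rfl
  have hwv : ∀ L, ((wprod s' L : S) : G) = wprod s L := fun L => by
    show S.subtype (L.map s').prod = _
    rw [map_list_prod, List.map_map]
    exact congrArg List.prod (List.map_congr_left fun x _ => hval x)
  have hgen : closure (s' '' Set.Iio CertL.table.g) = ⊤ := by
    rw [← closure_closure_coe_preimage (k := s '' Set.Iio 3)]
    congr 1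
    ext x
    constructor
    · rintro ⟨i, hi, rfl⟩
      exact ⟨i, hi, (hval i).symm⟩
    · rintro ⟨i, hi, e⟩
      exact ⟨i, hi, Subtype.ext ((hval i).trans e)⟩
  obtain ⟨h0, hle⟩ := CertL.covered.index_le s' (⊥ : Subgroup S)
    (fun x => Subtype.ext (by rw [Subgroup.coe_mul, Subgroup.coe_one, hval]; exact hs x))
    (fun r hr => Subtype.ext (by rw [hwv, Subgroup.coe_one]; exact hR r hr))
    (fun r hr => absurd hr List.not_mem_nil) hgen
  rw [index_bot] at h0 hle
  refine ⟨S, (closure_le M).2 (by rintro _ ⟨x, -, rfl⟩; exact hsM x), subset_closure ⟨0, by norm_num, rfl⟩,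
    ?_, Nat.finite_of_card_ne_zero h0, hle⟩
  rw [← hV]
  refine list_prod_mem fun g hg => ?_
  obtain ⟨x, hx, rfl⟩ := List.mem_map.1 hg
  refine subset_closure ⟨x, ?_, rfl⟩
  simp only [List.mem_cons, List.not_mem_nil, or_false] at hx
  simp only [Set.mem_Iio]
  omega

theorem inj_eq {l m : ℕ} (hl : l < 168) (hm : m < 168) (e1 : lact l 1 = lact m 1)
    (e4 : lact l 4 = lact m 4) (e16 : lact l 16 = lact m 16) : l = m := by
  have h := allLt_get (allLt_get inj_chk hl) hm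
  rw [e1, e4, e16] at h
  simpa [Nat.beq_refl] using h

/-- **The model**: `M` is isomorphic to `4³ : L₃(2)`. -/
theorem exists_rep [Finite G] (t : G) (ht : orderOf t = 2)
    (V : Subgroup G) (hVcomm : IsMulCommutative V) (hVexp : ∀ v ∈ V, v ^ 2 = 1) (hVcard : Nat.card V = 8)
    (htV : t ∈ V) (M : Subgroup G) (hM : M = Subgroup.normalizer (V : Set G))
    (eOM : Cfsg.pCore 2 M ≃* Multiplicative (ZMod 4 × ZMod 4 × ZMod 4))
    (eM : M ⧸ Cfsg.pCore 2 M ≃* GL (Fin 3) (ZMod 2))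
    (R : Subgroup G) (hRM : R ≤ M) (hR : R ≤ Subgroup.centralizer ({t} : Set G))
    (hRn : ∀ g ∈ M, g * t = t * g → ∀ r ∈ R, g * r * g⁻¹ ∈ R) (hR64 : Nat.card R = 64)
    (hcomm : ∀ a ∈ R, ∀ b ∈ R, a * b * a⁻¹ * b⁻¹ ∈ Subgroup.zpowers t)
    (hinv : Nat.card {r : R // r * r = 1} = 32) :
    ∃ ψ : ℕ → G, (∀ x < wcard, ∀ y < wcard, ψ (wmul x y) = ψ x * ψ y) ∧ Set.InjOn ψ (Set.Iio wcard) ∧
      (∀ g, g ∈ M ↔ ∃ x < wcard, ψ x = g) ∧ ψ wT = t := by
  classical
  obtain ⟨q, a₀, b₀, hd⟩ :=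
    exists_mdata t ht V hVcomm hVexp hVcard htV M hM eOM eM R hRM hR hRn hR64 hcomm hinv
  obtain ⟨a, b, hg⟩ := hd.exists_gens ht hRn hcomm
  obtain ⟨S, hSM, haS, hbS, _, hS⟩ := hg.exists_card
  have hq := hd.coord
  -- representatives of the linear parts
  have hex : ∀ l, l < 168 → ∃ g ∈ S, Acts q g (lact l) := by
    intro l
    induction l using Nat.strong_induction_on with
    | _ l ih =>
      intro hl
      rcases l with _ | l
      · exact ⟨1, one_mem S, fun v hv => by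
          rw [beq_eq (allLt_get zero_chk hv), one_mul, inv_one, mul_one]⟩
      · have h := allLt_get par_chk (show l < 167 by omega)
        simp only [force_eq, Bool.and_eq_true] at h
        obtain ⟨g, hgS, hgact⟩ := ih _ (blt_lt h.1) (by have := blt_lt h.1; omega)
        have hfl : ∀ v < 64, lact (par (l + 1) / 2) v < 64 := fun v hv =>
          lact_lt (by have := blt_lt h.1; omega) hv
        have he : ∀ v < 64, lact (par (l + 1) % 2 + 1) (lact (par (l + 1) / 2) v) = lact (l + 1) v :=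
          fun v hv => (beq_eq (allLt_get h.2 hv)).symm
        rcases Nat.mod_two_eq_zero_or_one (par (l + 1)) with e | e <;> rw [e] at he
        · exact ⟨a * g, mul_mem haS hgS, fun v hv => by
            rw [hg.actA.comp hgact hfl v hv, ← he v hv]⟩
        · exact ⟨b * g, mul_mem hbS hgS, fun v hv => by
            rw [hg.actB.comp hgact hfl v hv, ← he v hv]⟩
  choose! g hgS hgact using hex
  have hll : ∀ {l v}, l < 168 → v < 64 → lact l v < 64 := fun hl hv => lact_lt hl hv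
  have huniq : ∀ l m, l < 168 → m < 168 → (∀ v, v = 1 ∨ v = 4 ∨ v = 16 → q (lact l v) = q (lact m v)) →
      l = m := fun l m hl hm e =>
    inj_eq hl hm (hq.inj (hll hl (by norm_num)) (hll hm (by norm_num)) (e 1 (by simp)))
      (hq.inj (hll hl (by norm_num)) (hll hm (by norm_num)) (e 4 (by simp)))
      (hq.inj (hll hl (by norm_num)) (hll hm (by norm_num)) (e 16 (by simp)))
  have hlt : ∀ {v}, v = 1 ∨ v = 4 ∨ v = 16 → v < 64 := fun h => by omega
  have hginj : Set.InjOn g (Set.Iio 168) := fun l hl m hm e =>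
    huniq l m hl hm fun v hv => by rw [← hgact l hl v (hlt hv), ← hgact m hm v (hlt hv), e]
  have hsurj : ∀ s ∈ S, ∃ l < 168, g l = s := by
    have hb : Function.Bijective fun l : Fin 168 => (⟨g l, hgS l l.2⟩ : S) :=
      Function.Injective.bijective_of_nat_card_le
        (fun l m e => Fin.ext (hginj l.2 m.2 (congrArg Subtype.val e)))
        (by rwa [Nat.card_fin])
    intro s hs
    obtain ⟨l, e⟩ := hb.2 ⟨s, hs⟩
    exact ⟨l, l.2, congrArg Subtype.val e⟩
  have hfaith : ∀ s ∈ S, (∀ v < 64, s * q v * s⁻¹ = q v) → s = g 0 := fun s hs hsv => by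
    obtain ⟨l, hl, rfl⟩ := hsurj s hs
    rw [huniq l 0 hl (by norm_num) fun v hv => by
      rw [← hgact l hl v (hlt hv), hsv v (hlt hv), beq_eq (allLt_get zero_chk (hlt hv))]]
  have hg0 : g 0 = 1 := (hfaith 1 (one_mem S) fun v _ => by rw [one_mul, inv_one, mul_one]).symm
  have hmul : ∀ l < 168, ∀ m < 168, g (lmul l m) = g l * g m ∧ lmul l m < 168 := fun l hl m hm => by
    have h := allLt_get (allLt_get lmul_chk hl) hm
    simp only [force_eq, Bool.and_eq_true] at h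
    obtain ⟨⟨⟨h0, h1⟩, h4⟩, h16⟩ := h
    obtain ⟨k, hk, e⟩ := hsurj _ (mul_mem (hgS l hl) (hgS m hm))
    refine ⟨?_, blt_lt h0⟩
    rw [← e, huniq k (lmul l m) hk (blt_lt h0) fun v hv => ?_]
    rw [← hgact k hk v (hlt hv), e, (hgact l hl).comp (hgact m hm) (fun u hu => hll hm hu) v (hlt hv)]
    rcases hv with rfl | rfl | rfl
    · exact congrArg q (beq_eq h1).symm
    · exact congrArg q (beq_eq h4).symm
    · exact congrArg q (beq_eq h16).symm
  let ψ : ℕ → G := fun x => q (x % 64) * g (x / 64)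
  have hdiv : ∀ {x}, x < wcard → x / 64 < 168 := fun hx => by simp only [wcard] at hx; omega
  have hinj : Set.InjOn ψ (Set.Iio wcard) := by
    intro x hx y hy e
    simp only [Set.mem_Iio] at hx hy
    have hvx := Nat.mod_lt x (show 64 > 0 by norm_num)
    have hvy := Nat.mod_lt y (show 64 > 0 by norm_num)
    have e' : (q (y % 64))⁻¹ * q (x % 64) = g (y / 64) * (g (x / 64))⁻¹ := by
      rw [eq_mul_inv_iff_mul_eq, mul_assoc, inv_mul_eq_iff_eq_mul]; exact e
    have hS1 := hfaith _ (mul_mem (hgS _ (hdiv hy)) (inv_mem (hgS _ (hdiv hx)))) fun v hv => by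
      rw [← e', mul_assoc ((q (y % 64))⁻¹), hq.comm hvx hv, mul_inv_rev, inv_inv,
        show (q (y % 64))⁻¹ * (q v * q (x % 64)) * ((q (x % 64))⁻¹ * q (y % 64)) =
          (q (y % 64))⁻¹ * (q v * q (y % 64)) by group, hq.comm hv hvy, inv_mul_cancel_left]
    rw [hg0] at hS1
    have ev : x % 64 = y % 64 := hq.inj hvx hvy (inv_mul_eq_one.1 (e'.trans hS1)).symm
    have el : x / 64 = y / 64 := hginj (hdiv hx) (hdiv hy) (mul_inv_eq_one.1 hS1).symm
    omega
  have hmem : ∀ x < wcard, ψ x ∈ M := fun x hx =>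
    mul_mem (hd.Q_le (hq.mem_q (Nat.mod_lt _ (by norm_num)))) (hSM (hgS _ (hdiv hx)))
  refine ⟨ψ, fun x hx y hy => ?_, hinj, fun z => ⟨fun hz => ?_, ?_⟩, ?_⟩
  · have hvx := Nat.mod_lt x (show 64 > 0 by norm_num)
    have hvy := Nat.mod_lt y (show 64 > 0 by norm_num)
    have hw := hll (hdiv hx) hvy
    have hu : vadd (x % 64) (lact (x / 64) (y % 64)) < 64 := vadd_lt _ _
    simp only [ψ, wmul, force_eq]
    rw [Nat.add_mul_mod_self_left, Nat.mod_eq_of_lt hu, Nat.add_mul_div_left _ _ (by norm_num),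
      Nat.div_eq_of_lt hu, Nat.zero_add, hq.mul _ _ hvx hw, (hmul _ (hdiv hx) _ (hdiv hy)).1,
      ← hgact _ (hdiv hx) _ hvy]
    group
  · have hb : Function.Bijective fun x : Fin wcard => (⟨ψ x, hmem x x.2⟩ : M) :=
      Function.Injective.bijective_of_nat_card_le
        (fun l m e => Fin.ext (hinj l.2 m.2 (congrArg Subtype.val e)))
        (by rw [Nat.card_fin, hd.card]; norm_num [wcard])
    obtain ⟨x, e⟩ := hb.2 ⟨z, hz⟩
    exact ⟨x, x.2, congrArg Subtype.val e⟩
  · rintro ⟨x, hx, rfl⟩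
    exact hmem x hx
  · show q 32 * g 0 = t
    rw [hd.qt, hg0, mul_one]

end CfsgLib.InvChar.HSRec
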