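import Cfsg.Prelude.Def_Transfer
import Cfsg.Prelude.Def_CaseTheorems
import Cfsg.Agent.Lib.Amalgam.PCore
import Cfsg.Agent.Lib.StructC.BurnsideBasis
import Mathlib.GroupTheory.Sylow
import Mathlib.GroupTheory.Perm.Fin
import Mathlib.GroupTheory.SpecificGroups.Alternating
import Mathlib.GroupTheory.SpecificGroups.Cyclic
import Mathlib.Tactic

/-!
The centraliser `C(t)` of type `(4 ∘ 2^{1+4}).S₅`: the elementary facts, an element `f` of order five and an
element inducing the squaring on it.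
-/

set_option autoImplicit false
set_option linter.style.haveILetI false

namespace CfsgLib.InvChar.HSRec

open Subgroup

variable {G : Type*} [Group G]

/-- The facts about `R = O₂(C(t))` used for the recognition. -/
structure CSetup (t : G) (R Cy M : Subgroup G) : Prop where
  card : Nat.card ↥(centralizer ({t} : Set G)) = 7680
  le : R ≤ centralizer ({t} : Set G)
  norm : ∀ g ∈ centralizer ({t} : Set G), ∀ r ∈ R, g * r * g⁻¹ ∈ R
  card64 : Nat.card R = 64
  leM : R ≤ M
  comm : ∀ a ∈ R, ∀ b ∈ R, a * b * a⁻¹ * b⁻¹ ∈ zpowers t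
  sq : ∀ r ∈ R, r * r ∈ zpowers t
  tmem : t ∈ Cy
  cle : Cy ≤ R
  ccomm : ∀ z ∈ Cy, ∀ r ∈ R, z * r = r * z
  ccentre : ∀ z ∈ R, (∀ r ∈ R, z * r = r * z) → z ∈ Cy
  ccard : Nat.card Cy = 4
  cyc : IsCyclic Cy
  phi : ∃ φ : ↥(centralizer ({t} : Set G)) →* Equiv.Perm (Fin 5), Function.Surjective φ ∧
    ∀ g, φ g = 1 ↔ (g : G) ∈ R

theorem mem_zpowers_two {t x : G} (ht : orderOf t = 2) : x ∈ zpowers t ↔ x = 1 ∨ x = t := by
  constructor
  · intro h
    obtain ⟨k, rfl⟩ := mem_zpowers_iff.1 h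
    rw [← zpow_mod_orderOf, ht]
    rcases Int.emod_two_eq_zero_or_one k with h | h <;> simp [h]
  · rintro (rfl | rfl)
    exacts [one_mem _, mem_zpowers _]

theorem tt_eq_one {t : G} (ht : orderOf t = 2) : t * t = 1 := by
  rw [← pow_two, ← ht, pow_orderOf_eq_one]

/-- A cyclic group of order at most four has one involution only. -/
theorem unique_invol (Cy : Subgroup G) [Finite Cy] (hCy : IsCyclic Cy) {t x : G} (ht : orderOf t = 2)
    (htc : t ∈ Cy) (hx : x ∈ Cy) (hxx : x * x = 1) : x = 1 ∨ x = t := by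
  classical
  haveI := hCy
  haveI := Fintype.ofFinite Cy
  have hle2 := IsCyclic.card_pow_eq_one_le (α := Cy) (n := 2) (by norm_num)
  by_contra hne
  push_neg at hne
  have h3 : ({1, ⟨t, htc⟩, ⟨x, hx⟩} : Finset Cy) ⊆ Finset.univ.filter fun a : Cy => a ^ 2 = 1 := by
    intro a ha
    simp only [Finset.mem_insert, Finset.mem_singleton] at ha
    rw [Finset.mem_filter]
    refine ⟨Finset.mem_univ _, ?_⟩
    rcases ha with rfl | rfl | rfl
    · simp
    · exact Subtype.ext (by simp [pow_two, tt_eq_one ht])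
    · exact Subtype.ext (by simp [pow_two, hxx])
  have h1 : t ≠ 1 := fun h => by simp [h] at ht
  have := (Finset.card_le_card h3).trans hle2
  rw [Finset.card_insert_of_notMem (by simp [Subtype.ext_iff, h1.symm, hne.1.symm]),
    Finset.card_insert_of_notMem (by simp [Subtype.ext_iff, hne.2.symm]), Finset.card_singleton] at this
  omega

variable [Finite G]

/-- The setup from the hypotheses of the recognition theorem, together with what is needed for the model of
the two-local subgroup. -/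
theorem setup_of (t : G) (ht : orderOf t = 2) (H : Subgroup G) (hH : H = Subgroup.centralizer ({t} : Set G))
    (R : Subgroup G) (hR : R = (Cfsg.pCore 2 H).map H.subtype)
    (Cy E : Subgroup G) (hCy : IsCyclic Cy) (hCycard : Nat.card Cy = 4)
    (hCyle : Cy ≤ R ⊓ Subgroup.centralizer (R : Set G))
    (hEle : E ≤ R) (hEex : Cfsg.IsExtraspecial 2 E) (hEcard : Nat.card E = 32)
    (hprod : Cy ⊔ E = R) (hmeet : Cy ⊓ E = E ⊓ Subgroup.centralizer (E : Set G))
    (eH : H ⧸ Cfsg.pCore 2 H ≃* Equiv.Perm (Fin 5))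
    (V : Subgroup G) (hVcomm : IsMulCommutative V) (hVexp : ∀ v ∈ V, v ^ 2 = 1) (hVcard : Nat.card V = 8)
    (hVR : V ≤ R) (M : Subgroup G) (hM : M = Subgroup.normalizer (V : Set G)) :
    CSetup t R Cy M ∧ t ∈ V ∧ Nat.card {r : R // r * r = 1} = 32 := by
  subst hH
  set H := Subgroup.centralizer ({t} : Set G) with hHdef
  obtain ⟨⟨hp, hfr, hco⟩, hZ⟩ := hEex
  have htH : t ∈ H := mem_centralizer_singleton_iff.2 rfl
  have hle : R ≤ H := hR ▸ map_subtype_le _
  have hnorm : ∀ g ∈ H, ∀ r ∈ R, g * r * g⁻¹ ∈ R := by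
    intro g hg r hr
    rw [hR, mem_map] at hr ⊢
    obtain ⟨x, hx, rfl⟩ := hr
    haveI : (Cfsg.pCore 2 H).Normal := CfsgLib.Amalgam.normal_pCore
    exact ⟨⟨g, hg⟩ * x * ⟨g, hg⟩⁻¹, Normal.conj_mem inferInstance x hx _, rfl⟩
  -- the centre of `E` and the products `c * e`
  set ZE := Cy ⊓ E with hZE
  have hCyR : ∀ z ∈ Cy, ∀ r ∈ R, z * r = r * z := fun z hz r hr =>
    ((mem_centralizer_iff.1 (hCyle hz).2) r hr).symm
  have hdec : ∀ r ∈ R, ∃ c ∈ Cy, ∃ e ∈ E, r = c * e := by
    intro r hr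
    rw [← hprod, sup_eq_closure] at hr
    induction hr using closure_induction with
    | mem x hx =>
      rcases hx with h | h
      · exact ⟨x, h, 1, one_mem _, (mul_one x).symm⟩
      · exact ⟨1, one_mem _, x, h, (one_mul x).symm⟩
    | one => exact ⟨1, one_mem _, 1, one_mem _, (mul_one 1).symm⟩
    | mul x y _ _ hx hy =>
      obtain ⟨c, hc, e, he, rfl⟩ := hx
      obtain ⟨c', hc', e', he', rfl⟩ := hy
      refine ⟨c * c', mul_mem hc hc', e * e', mul_mem he he', ?_⟩
      rw [mul_assoc, mul_assoc, ← mul_assoc e c', ← hCyR c' hc' e (hEle he)]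
      simp only [mul_assoc]
    | inv x _ hx =>
      obtain ⟨c, hc, e, he, rfl⟩ := hx
      refine ⟨c⁻¹, inv_mem hc, e⁻¹, inv_mem he, ?_⟩
      rw [mul_inv_rev, hCyR c⁻¹ (inv_mem hc) e⁻¹ (inv_mem (hEle he))]
  have hZEc : ∀ x, x ∈ ZE ↔ ∃ h : x ∈ E, (⟨x, h⟩ : E) ∈ center E := by
    intro x
    rw [hmeet, mem_inf, mem_centralizer_iff]
    constructor
    · rintro ⟨h, h'⟩
      exact ⟨h, mem_center_iff.2 fun y => Subtype.ext (h' y y.2)⟩
    · rintro ⟨h, h'⟩
      exact ⟨h, fun y hy => congrArg Subtype.val (mem_center_iff.1 h' ⟨y, hy⟩)⟩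
  have hZE2 : Nat.card ZE = 2 := by
    rw [← hZ]
    exact Nat.card_congr
      { toFun := fun x => ⟨⟨x.1, ((hZEc x.1).1 x.2).1⟩, ((hZEc x.1).1 x.2).2⟩
        invFun := fun x => ⟨x.1.1, (hZEc x.1.1).2 ⟨x.1.2, x.2⟩⟩
        left_inv := fun _ => rfl
        right_inv := fun _ => rfl }
  have hR64 : Nat.card R = 64 := by
    let F : Cy × E →* R :=
      { toFun := fun p => ⟨p.1.1 * p.2.1, mul_mem (hCyle p.1.2).1 (hEle p.2.2)⟩
        map_one' := Subtype.ext (mul_one 1)
        map_mul' := fun p q => Subtype.ext (by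
          show p.1.1 * q.1.1 * (p.2.1 * q.2.1) = p.1.1 * p.2.1 * (q.1.1 * q.2.1)
          rw [mul_assoc, ← mul_assoc q.1.1, hCyR _ q.1.2 _ (hEle p.2.2)]
          simp only [mul_assoc]) }
    have hF : Function.Surjective F := fun r => by
      obtain ⟨c, hc, e, he, h⟩ := hdec r.1 r.2
      exact ⟨(⟨c, hc⟩, ⟨e, he⟩), Subtype.ext h.symm⟩
    have hker : Nat.card F.ker = 2 := by
      rw [← hZE2]
      refine Nat.card_congr
        { toFun := fun p => ⟨p.1.1.1, p.1.1.2, ?_⟩
          invFun := fun x => ⟨(⟨x.1, x.2.1⟩, ⟨x.1⁻¹, inv_mem x.2.2⟩), Subtype.ext (mul_inv_cancel x.1)⟩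
          left_inv := fun p => ?_
          right_inv := fun x => rfl }
      · have : p.1.1.1 * p.1.2.1 = 1 := congrArg Subtype.val p.2
        rw [eq_inv_of_mul_eq_one_left this]
        exact E.inv_mem p.1.2.2
      · have : p.1.1.1 * p.1.2.1 = 1 := congrArg Subtype.val p.2
        exact Subtype.ext (Prod.ext rfl (Subtype.ext (eq_inv_of_mul_eq_one_right this).symm))
    have h := card_mul_index F.ker
    rw [index_ker, MonoidHom.range_eq_top.2 hF, card_top, hker, Nat.card_prod, hCycard, hEcard] at h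
    omega
  -- commutators and squares lie in `ZE`
  have hEsq : ∀ e ∈ E, e * e ∈ ZE := by
    intro e he
    refine (hZEc _).2 ⟨mul_mem he he, ?_⟩
    rw [← hfr]
    haveI := Fact.mk Nat.prime_two
    have := CfsgLib.StructC.pow_mem_frattini hp (⟨e, he⟩ : E)
    rwa [pow_two] at this
  have hEcomm : ∀ a ∈ E, ∀ b ∈ E, a * b * a⁻¹ * b⁻¹ ∈ ZE := by
    intro a ha b hb
    refine (hZEc _).2 ⟨mul_mem (mul_mem (mul_mem ha hb) (inv_mem ha)) (inv_mem hb), ?_⟩
    rw [← hco]
    exact commutator_mem_commutator (G := E) (mem_top (⟨a, ha⟩ : E)) (mem_top ⟨b, hb⟩)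
  have hcentre : ∀ z ∈ R, (∀ r ∈ R, z * r = r * z) → z ∈ Cy := by
    intro z hz h
    obtain ⟨c, hc, e, he, rfl⟩ := hdec z hz
    suffices e ∈ ZE from mul_mem hc this.1
    rw [hmeet]
    refine ⟨he, mem_centralizer_iff.2 fun y hy => ?_⟩
    have := h y (hEle hy)
    rw [mul_assoc, ← mul_assoc y c, ← hCyR c hc y (hEle hy), mul_assoc] at this
    exact (mul_left_cancel this).symm
  have htR : t ∈ R := by
    rw [hR, mem_map]
    refine ⟨⟨t, htH⟩, ?_, rfl⟩
    haveI hn : (zpowers (⟨t, htH⟩ : H)).Normal := by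
      refine ⟨fun n hn g => ?_⟩
      obtain ⟨k, rfl⟩ := mem_zpowers_iff.1 hn
      have : Commute g (⟨t, htH⟩ : H) := Subtype.ext (mem_centralizer_singleton_iff.1 g.2)
      rw [(this.zpow_right k).eq, mul_inv_cancel_right]
      exact zpow_mem (mem_zpowers _) k
    have hpg : IsPGroup 2 (zpowers (⟨t, htH⟩ : H)) := IsPGroup.of_card (n := 1) (by
      rw [Nat.card_zpowers, pow_one, ← ht]
      exact orderOf_injective H.subtype H.subtype_injective ⟨t, htH⟩ ▸ rfl)
    exact CfsgLib.Amalgam.le_pCore hn hpg (mem_zpowers _)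
  have htc : t ∈ Cy := hcentre t htR fun r hr =>
    (mem_centralizer_singleton_iff.1 (hle hr)).symm
  have hZEt : ZE = zpowers t := by
    have huniq : ∀ x ∈ Cy, x * x = 1 → x = 1 ∨ x = t := fun x hx h => unique_invol Cy hCy ht htc hx h
    refine eq_of_le_of_card_ge (fun x hx => ?_) (by rw [Nat.card_zpowers, ht, hZE2])
    have h2 : x * x = 1 := by
      have := pow_card_eq_one' (x := (⟨x, hx⟩ : ZE))
      rw [hZE2, pow_two] at this
      exact congrArg Subtype.val this
    exact (mem_zpowers_two ht).2 (huniq x hx.1 h2)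
  have hcsq : ∀ c ∈ Cy, c * c ∈ zpowers t := by
    intro c hc
    rw [← hZEt]
    have h4 : (c * c) * (c * c) = 1 := by
      have := pow_card_eq_one' (x := (⟨c, hc⟩ : Cy))
      rw [hCycard] at this
      have := congrArg Subtype.val this
      simpa [pow_succ, mul_assoc] using this
    exact hZEt ▸ (mem_zpowers_two ht).2 (unique_invol Cy hCy ht htc (mul_mem hc hc) h4)
  have hsq : ∀ r ∈ R, r * r ∈ zpowers t := by
    intro r hr
    obtain ⟨c, hc, e, he, rfl⟩ := hdec r hr
    rw [show c * e * (c * e) = c * (e * c) * e by group, ← hCyR c hc e (hEle he),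
      show c * (c * e) * e = (c * c) * (e * e) by group]
    exact mul_mem (hcsq c hc) (hZEt ▸ hEsq e he)
  have hcomm : ∀ a ∈ R, ∀ b ∈ R, a * b * a⁻¹ * b⁻¹ ∈ zpowers t := by
    intro a ha b hb
    obtain ⟨c, hc, e, he, rfl⟩ := hdec a ha
    obtain ⟨d, hd, g, hg, rfl⟩ := hdec b hb
    have k1 : c * e * (d * g) * (c * e)⁻¹ = d * (e * g * e⁻¹) := by
      have x1 := hCyR c hc (e * (d * g) * e⁻¹) (mul_mem (mul_mem (hEle he) hb) (inv_mem (hEle he)))
      have x2 := hCyR d hd e (hEle he)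
      calc c * e * (d * g) * (c * e)⁻¹ = (c * (e * (d * g) * e⁻¹)) * c⁻¹ := by group
        _ = (e * (d * g) * e⁻¹ * c) * c⁻¹ := by rw [x1]
        _ = (e * d) * g * e⁻¹ := by group
        _ = d * (e * g * e⁻¹) := by rw [← x2]; group
    rw [k1]
    have x3 := hCyR d hd (e * g * e⁻¹ * g⁻¹) (hEle (mul_mem (mul_mem (mul_mem he hg) (inv_mem he)) (inv_mem hg)))
    rw [show d * (e * g * e⁻¹) * (d * g)⁻¹ = d * (e * g * e⁻¹ * g⁻¹) * d⁻¹ by group, x3,
      mul_inv_cancel_right, ← hZEt]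
    exact hEcomm e he g hg
  have htV : t ∈ V := by
    by_contra htV
    -- `A = ⟨t⟩ × V`, and `B = A Cy` is abelian of order at least 32
    set Z := Cy ⊔ V with hZdef
    have hBR : Z ≤ R := sup_le (fun x hx => (hCyle hx).1) hVR
    have hcommZ : IsMulCommutative Z := by
      rw [hZdef, sup_eq_closure]
      refine isMulCommutative_closure ?_
      rintro x (hx | hx) y (hy | hy)
      · exact hCyR x hx y ((hCyle hy).1)
      · exact hCyR x hx y (hVR hy)
      · exact (hCyR y hy x (hVR hx)).symm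
      · exact congrArg Subtype.val (hVcomm.is_comm.comm (⟨x, hx⟩ : V) ⟨y, hy⟩)
    have hcap : Cy ⊓ V = ⊥ := by
      refine eq_bot_iff.2 fun x hx => ?_
      have hx2 : x * x = 1 := by simpa [pow_two] using hVexp x hx.2
      have hxE : x ∈ zpowers t := (mem_zpowers_two ht).2 (unique_invol Cy hCy ht htc hx.1 hx2)
      rcases (mem_zpowers_two ht).1 hxE with rfl | rfl
      · exact one_mem _
      · exact absurd hx.2 htV
    have h32 : 32 ≤ Nat.card Z := by
      let g : Cy × V → Z := fun p => ⟨p.1.1 * p.2.1, mul_mem (mem_sup_left p.1.2) (mem_sup_right p.2.2)⟩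
      have hg : Function.Injective g := by
        rintro ⟨a, b⟩ ⟨a', b'⟩ e
        have e : a.1 * b.1 = a'.1 * b'.1 := congrArg Subtype.val e
        have : a'.1⁻¹ * a.1 ∈ Cy ⊓ V := ⟨Cy.mul_mem (Cy.inv_mem a'.2) a.2, by
          rw [show a'.1⁻¹ * a.1 = b'.1 * b.1⁻¹ by
            rw [inv_mul_eq_iff_eq_mul, ← mul_assoc, ← e]; group]
          exact V.mul_mem b'.2 (V.inv_mem b.2)⟩
        rw [hcap, mem_bot, inv_mul_eq_one] at this
        have ha : a = a' := Subtype.ext this.symm
        subst ha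
        exact Prod.ext rfl (Subtype.ext (mul_left_cancel e))
      have := Nat.card_le_card_of_injective g hg
      rw [Nat.card_prod, hCycard, hVcard] at this
      omega
    have hZcomm : ∀ a ∈ Z, ∀ b ∈ Z, a * b = b * a := fun a ha b hb =>
      congrArg Subtype.val (hcommZ.is_comm.comm (⟨a, ha⟩ : Z) ⟨b, hb⟩)
    by_cases hRZ : R ≤ Z
    · have hall : R ≤ Cy := fun x hx => hcentre x hx fun r hr => hZcomm x (hRZ hx) r (hRZ hr)
      have := Nat.card_le_card_of_injective (inclusion hall) (inclusion_injective hall)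
      omega
    obtain ⟨r, hr, hrZ⟩ : ∃ r ∈ R, r ∉ Z := by simpa [SetLike.le_def] using hRZ
    -- `R` is the union of `Z` and `r Z`
    let g : Z × Bool → R := fun p =>
      if p.2 then ⟨r * p.1.1, mul_mem hr (hBR p.1.2)⟩ else ⟨p.1.1, hBR p.1.2⟩
    have hg : Function.Injective g := by
      rintro ⟨a, u⟩ ⟨b, v⟩ e
      cases u <;> cases v <;> simp only [g, if_true, if_false, Bool.false_eq_true, Subtype.mk.injEq] at e
      · exact Prod.ext (Subtype.ext e) rfl
      · exact absurd (by rw [eq_mul_inv_of_mul_eq e.symm]; exact mul_mem a.2 (inv_mem b.2)) hrZ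
      · exact absurd (by rw [eq_mul_inv_of_mul_eq e]; exact mul_mem b.2 (inv_mem a.2)) hrZ
      · exact Prod.ext (Subtype.ext (mul_left_cancel e)) rfl
    have hgb : Function.Bijective g := hg.bijective_of_nat_card_le (by
      rw [Nat.card_prod, hR64, Nat.card_eq_fintype_card (α := Bool), Fintype.card_bool]; omega)
    let ν : Z →* zpowers t :=
      { toFun := fun y => ⟨r * y.1 * r⁻¹ * y.1⁻¹, hcomm r hr y.1 (hBR y.2)⟩
        map_one' := Subtype.ext (by simp)
        map_mul' := fun a b => Subtype.ext (by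
          show r * (a.1 * b.1) * r⁻¹ * (a.1 * b.1)⁻¹ = (r * a.1 * r⁻¹ * a.1⁻¹) * (r * b.1 * r⁻¹ * b.1⁻¹)
          have hc : Commute a.1 (r * b.1 * r⁻¹ * b.1⁻¹) := by
            rcases (mem_zpowers_two ht).1 (hcomm r hr b.1 (hBR b.2)) with h | h <;> rw [h]
            · exact Commute.one_right _
            · exact (mem_centralizer_singleton_iff.1 (hle (hBR a.2)))
          calc r * (a.1 * b.1) * r⁻¹ * (a.1 * b.1)⁻¹
              = (r * a.1 * r⁻¹) * (r * b.1 * r⁻¹ * b.1⁻¹) * a.1⁻¹ := by group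
            _ = (r * a.1 * r⁻¹ * a.1⁻¹) * (a.1 * (r * b.1 * r⁻¹ * b.1⁻¹) * a.1⁻¹) := by group
            _ = _ := by rw [hc.eq, mul_inv_cancel_right]) }
    have hkerC : ∀ y ∈ ν.ker, (y : G) ∈ Cy := by
      intro y hy
      have hy : r * y.1 * r⁻¹ * y.1⁻¹ = 1 := congrArg Subtype.val hy
      rw [mul_inv_eq_one, mul_inv_eq_iff_eq_mul] at hy
      refine hcentre y.1 (hBR y.2) fun x hx => ?_
      obtain ⟨⟨a, u⟩, e⟩ := hgb.2 ⟨x, hx⟩
      cases u <;> simp only [g, if_true, if_false, Bool.false_eq_true, Subtype.mk.injEq] at e <;> subst e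
      · exact hZcomm _ y.2 _ a.2
      · rw [← mul_assoc, ← hy, mul_assoc, hZcomm _ y.2 _ a.2, mul_assoc]
    have hk4 : Nat.card ν.ker ≤ 4 := hCycard ▸ Nat.card_le_card_of_injective
      (fun y : ν.ker => (⟨y.1.1, hkerC y.1 y.2⟩ : Cy)) (fun a b e => Subtype.ext (Subtype.ext (Subtype.mk.inj e)))
    have hk2 : ν.ker.index ≤ 2 := by
      rw [index_ker]
      calc Nat.card ν.range ≤ Nat.card (zpowers t) := card_le_card_group _
        _ = 2 := by rw [Nat.card_zpowers, ht]
    have := card_mul_index ν.ker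
    nlinarith
  have hleM : R ≤ M := by
    intro r hr
    rw [hM]
    refine mem_normalizer_fintype ?_
    intro v hv
    have h := hcomm r hr v (hVR hv)
    have : r * v * r⁻¹ = (r * v * r⁻¹ * v⁻¹) * v := by group
    rw [this]
    refine mul_mem ?_ hv
    rcases (mem_zpowers_two ht).1 h with e | e <;> rw [e]
    exacts [one_mem _, htV]
  have h32inv : Nat.card {r : R // r * r = 1} = 32 := by
    obtain ⟨c, hc⟩ := hCy.exists_generator
    have hcc : c.1 * c.1 = t := by
      rcases (mem_zpowers_two ht).1 (hcsq c.1 c.2) with h | h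
      · exfalso
        have : orderOf c ≤ 2 := Nat.le_of_dvd two_pos
          (orderOf_dvd_of_pow_eq_one (Subtype.ext (by simpa [pow_two] using h)))
        rw [orderOf_eq_card_of_forall_mem_zpowers hc, hCycard] at this
        omega
      · exact h
    have key : ∀ r : R, r.1 * c.1 * (r.1 * c.1) = r.1 * r.1 * t := by
      intro r
      rw [show r.1 * c.1 * (r.1 * c.1) = r.1 * (c.1 * r.1) * c.1 by group, hCyR c.1 c.2 r.1 r.2,
        show r.1 * (r.1 * c.1) * c.1 = r.1 * r.1 * (c.1 * c.1) by group, hcc]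
    have h1 : t ≠ 1 := fun h => by simp [h] at ht
    classical
    let e : {r : R // r * r = 1} ≃ {r : R // ¬ r * r = 1} :=
      { toFun := fun r => ⟨r.1 * ⟨c.1, (hCyle c.2).1⟩, fun h => h1 (by
          have h := congrArg Subtype.val h
          simp only [Subgroup.coe_mul, key, OneMemClass.coe_one] at h
          have h' : r.1.1 * r.1.1 = 1 := congrArg Subtype.val r.2
          rwa [h', one_mul] at h)⟩
        invFun := fun r => ⟨r.1 * ⟨c.1, (hCyle c.2).1⟩⁻¹, Subtype.ext (by
          have h : r.1.1 * r.1.1 ≠ 1 := fun h => r.2 (Subtype.ext h)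
          have h' := ((mem_zpowers_two ht).1 (hsq r.1.1 r.1.2)).resolve_left h
          have k := key (r.1 * ⟨c.1, (hCyle c.2).1⟩⁻¹)
          simp only [Subgroup.coe_mul, Subgroup.coe_inv, inv_mul_cancel_right, h'] at k ⊢
          simpa using k.symm)⟩
        left_inv := fun r => Subtype.ext (by simp)
        right_inv := fun r => Subtype.ext (by simp) }
    have hs := Nat.card_congr (Equiv.sumCompl fun r : R => r * r = 1)
    rw [Nat.card_sum, ← Nat.card_congr e, hR64] at hs
    omega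
  have hcard : Nat.card H = 7680 := by
    rw [Subgroup.card_eq_card_quotient_mul_card_subgroup (Cfsg.pCore 2 H), Nat.card_congr eH.toEquiv]
    have h' := hR64
    rw [hR, ← Nat.card_congr (Subgroup.equivMapOfInjective _ _ H.subtype_injective).toEquiv] at h'
    rw [h', Nat.card_perm, Nat.card_fin]
    rfl
  refine ⟨⟨hcard, hle, hnorm, hR64, hleM, hcomm, hsq, htc, fun z hz => (hCyle hz).1, hCyR, hcentre,
    hCycard, hCy, ⟨eH.toMonoidHom.comp (QuotientGroup.mk' _), eH.surjective.comp (QuotientGroup.mk'_surjective _),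
      fun g => ?_⟩⟩, htV, h32inv⟩
  rw [MonoidHom.comp_apply, MulEquiv.coe_toMonoidHom, EmbeddingLike.map_eq_one_iff,
    QuotientGroup.mk'_apply, QuotientGroup.eq_one_iff, hR, mem_map]
  exact ⟨fun h => ⟨g, h, rfl⟩, fun ⟨x, hx, e⟩ => Subtype.ext (show (x : G) = g from e) ▸ hx⟩

end CfsgLib.InvChar.HSRec
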