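import Cfsg.Agent.Lib.InvChar.HSRec.RData

/-!
Kernel checks on the model `4³ : L₃(2)` used for the identification of `R = O₂(C(t))`.
-/

set_option autoImplicit false
set_option maxRecDepth 100000
set_option Elab.async false

namespace CfsgLib.InvChar.HSRec

open CfsgLib.InvChar.Coset

/-- All numbers below `n` satisfy `P`. -/
noncomputable def allB (P : ℕ → Bool) : ℕ → Bool := fun n => Nat.rec true (fun k ih => P k && ih) n

theorem allB_spec {P : ℕ → Bool} : ∀ {n : ℕ}, allB P n = true → ∀ k < n, P k = true := by
  intro n
  induction n with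
  | zero => intro _ k hk; omega
  | succ n ih =>
    intro h k hk
    have h' : (P n && allB P n) = true := h
    rw [Bool.and_eq_true] at h'
    rcases Nat.lt_succ_iff_lt_or_eq.1 hk with h1 | h1
    · exact ih h'.2 k h1
    · exact h1 ▸ h'.1

/-- All entries of a list satisfy `P`. -/
noncomputable def allL {α : Type} (P : α → Bool) : List α → Bool :=
  fun L => List.rec true (fun a _ ih => P a && ih) L

theorem allL_spec {α : Type} {P : α → Bool} : ∀ {L : List α}, allL P L = true → ∀ a ∈ L, P a = true := by
  intro L
  induction L with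
  | nil => intro _ a ha; cases ha
  | cons b L ih =>
    intro h a ha
    have h' : (P b && allL P L) = true := h
    rw [Bool.and_eq_true] at h'
    rcases List.mem_cons.1 ha with rfl | h1
    exacts [h'.1, ih h'.2 a h1]

/-- Membership in a list of numerals. -/
noncomputable def memb (L : List ℕ) (x : ℕ) : Bool := List.rec false (fun a _ ih => Nat.beq x a || ih) L

theorem memb_iff {L : List ℕ} {x : ℕ} : memb L x = true ↔ x ∈ L := by
  induction L with
  | nil => simp [memb]
  | cons a L ih =>
    show (Nat.beq x a || memb L x) = true ↔ _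
    rw [Bool.or_eq_true, ih, List.mem_cons]
    exact or_congr ⟨Nat.eq_of_beq_eq_true, fun h => h ▸ Nat.beq_refl x⟩ Iff.rfl

/-- Commuting codes. -/
noncomputable def com (x y : ℕ) : Bool := Nat.beq (wmul x y) (wmul y x)

/-- Codes with commutator in the group generated by the central involution. -/
noncomputable def comT (x y : ℕ) : Bool :=
  force (wmul x y) fun p => force (wmul y x) fun q => Nat.beq p q || Nat.beq p (wmul 32 q)

/-- The codes `1` and `t`. -/
noncomputable def z2b (x : ℕ) : Bool := Nat.beq x 0 || Nat.beq x 32

/-- A test satisfied by the elements of `R`. -/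
noncomputable def sel0 (x : ℕ) : Bool :=
  z2b (wmul x x) && allL (fun g => force (wmul (wmul g x) g) fun y => force (wmul x y) fun p => z2b (wmul p p)) gensC

/-- Difference of two vectors. -/
def vsub (v w : ℕ) : ℕ :=
  (v % 4 + 4 - w % 4) % 4 + 4 * ((v / 4 % 4 + 4 - w / 4 % 4) % 4) + 16 * ((v / 16 + 4 - w / 16) % 4)

/-- Equations satisfied by the image of `v` under an element of order five squared by `rep`. -/
noncomputable def condB (rep irep v v1 : ℕ) : Bool :=
  force (wmul (wmul rep v1) irep) fun v2 => force (wmul (wmul rep v2) irep) fun v4 =>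
  force (wmul (wmul rep v4) irep) fun v3 =>
    Nat.beq (wmul (wmul rep v3) irep) v1 &&
    (allL (fun a => Nat.beq (wmul a a) (wmul v v)) [v1, v2, v3, v4] &&
    (allL (fun p : ℕ × ℕ => com p.1 p.2 == com v v1) [(v1, v2), (v2, v3), (v3, v4), (v4, v)] &&
    (allL (fun p : ℕ × ℕ => com p.1 p.2 == com v v2) [(v1, v3), (v2, v4), (v3, v), (v4, v1)] &&
    (force (wmul (wmul (wmul (wmul v v1) v2) v3) v4) fun P => memb zL P &&
      Nat.beq (wmul (wmul (wmul (wmul v1 v2) v3) v4) v) P))))

/-- The entry of the cocycle. -/
noncomputable def delta (l : ℕ) : ℕ := deltaL.getD l 0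

/-- The automorphism of the model given by the cocycle. -/
noncomputable def phi (x : ℕ) : ℕ :=
  force (x / 64) fun l => vadd (x % 64) (delta l) + 64 * l

/-- The inverse automorphism. -/
noncomputable def phiInv (x : ℕ) : ℕ :=
  force (x / 64) fun l => vsub (x % 64) (delta l) + 64 * l

/-- The source of a normalisation. -/
noncomputable def src (th x : ℕ) : ℕ := bif Nat.beq th 0 then x else phiInv x

theorem lmul_lt' : allB (fun i => Nat.blt (field mulT 128 8 i) 168) 28224 = true := by decide +kernel

theorem chk_units : allB (fun l => Nat.beq (lmul 0 l) l && Nat.beq (lmul l 0) l) 168 = true := by decide +kernel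

theorem chk_act : allB (fun v => Nat.beq (lact 0 v) v &&
    allB (fun w => Nat.blt (vsub v w) 64 && Nat.beq (vadd (vsub v w) w) v) 64) 64 = true := by decide +kernel

theorem chk_act0 : allB (fun l => Nat.beq (lact l 0) 0) 168 = true := by decide +kernel

theorem chk_K : allB (fun x => !com x 32 || !sel0 x || memb kL (x / 64)) 10752 = true := by decide +kernel

theorem chk_Q : allB (fun x => !z2b (wmul x x) || memb rqL x) 64 = true := by decide +kernel

theorem chk_sel : allB (fun x => !com x 32 || !sel0 x || !allL (comT x) rqL || Nat.blt x 64 ||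
    memb r1L x || memb r2L x) 10752 = true := by decide +kernel

theorem chk_split : allL (fun a => memb r1L a || allL (fun b => memb r2L b ||
    force (wmul a b) fun p => !(memb r1L p || memb r2L p)) r1L) r2L = true := by decide +kernel

theorem chk_rq : allL (fun q => memb r1L q && memb r2L q) rqL = true := by decide +kernel

theorem chk_centre : allL (fun z => memb r1L z && memb r2L z && allL (com z) r1L && allL (com z) r2L &&
    com z 32) zL = true := by decide +kernel

theorem chk_cent1 : allB (fun x => !com x 32 || !allL (com x) r1L || memb zL x) 10752 = true := by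
  decide +kernel

theorem chk_cent2 : allB (fun x => !com x 32 || !allL (com x) r2L || memb zL x) 10752 = true := by
  decide +kernel

/-- The check of one row of witnesses. -/
noncomputable def witRow (reps : List ℕ) (p : ℕ × ℕ × ℕ × ℕ) : Bool :=
  Nat.blt p.2.1 10752 && com p.2.1 32 && memb reps p.2.2.1 && memb zL p.2.2.2 &&
    Nat.beq (wmul p.2.1 p.1) (wmul (wmul p.2.2.1 p.2.2.2) p.2.1)

theorem chk_wit1 : allL (witRow [836, 1024]) wit1L = true := by decide +kernel

theorem chk_wit2 : allL (witRow [836, 1220]) wit2L = true := by decide +kernel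

theorem chk_cover1 : allB (fun x => !com x 32 || memb r1L x || memb r1L (wmul x x) ||
    memb r1L (wmul (wmul x x) x) || memb (wit1L.map Prod.fst) x) 10752 = true := by decide +kernel

theorem chk_cover2 : allB (fun x => !com x 32 || memb r2L x || memb r2L (wmul x x) ||
    memb r2L (wmul (wmul x x) x) || memb (wit2L.map Prod.fst) x) 10752 = true := by decide +kernel

/-- The check of a representative with an inverse and a fixed element. -/
noncomputable def repRow (R : List ℕ) (sols : List ℕ) (rep irep v : ℕ) : Bool :=
  Nat.blt rep 10752 && Nat.blt irep 10752 && com rep 32 && Nat.beq (wmul rep irep) 0 && memb R v && !memb zL v &&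
    com rep v && allL (fun v1 => memb zL v1 || !condB rep irep v v1 || memb sols v1) R

theorem chk_rep1a : repRow r1L [] 836 847 2 = true := by decide +kernel

theorem chk_rep1b : repRow r1L [] 1024 1216 24 = true := by decide +kernel

theorem chk_rep2a : repRow r2L [] 836 847 2 = true := by decide +kernel

theorem chk_rep2b : repRow r2L (normL.map Prod.fst) 1220 1061 24 = true := by decide +kernel

/-- The check of one row of normalisations. -/
noncomputable def normRow (p : ℕ × ℕ × ℕ × ℕ × ℕ) : Bool :=
  force (src p.2.1 1220) fun a => force (src p.2.1 24) fun b => force (src p.2.1 p.1) fun c =>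
    (Nat.beq p.2.1 0 || (Nat.beq p.2.1 1 && Nat.beq (phi a) 1220 && Nat.beq (phi b) 24 && Nat.beq (phi c) p.1)) &&
    Nat.blt a 10752 && Nat.blt b 10752 && Nat.blt c 10752 && memb r2L b &&
    Nat.blt p.2.2.1 10752 && com p.2.2.1 32 && memb zL p.2.2.2.1 && memb zL p.2.2.2.2 &&
    Nat.beq (wmul p.2.2.1 a) (wmul (wmul 1220 p.2.2.2.1) p.2.2.1) &&
    Nat.beq (wmul p.2.2.1 b) (wmul (wmul 24 p.2.2.2.2) p.2.2.1) &&
    Nat.beq (wmul p.2.2.1 c) (wmul (wmul 82 p.2.2.2.2) p.2.2.1)

theorem chk_norm : allL normRow normL = true := by decide +kernel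

theorem chk_delta : allB (fun l => Nat.blt (delta l) 64 &&
    allB (fun m => Nat.beq (delta (lmul l m)) (vadd (delta l) (lact l (delta m)))) 168) 168 = true := by
  decide +kernel

theorem chk_phiR : allL (fun r => memb r2L (phi r)) r2L = true := by decide +kernel

end CfsgLib.InvChar.HSRec
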