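import Cfsg.Agent.Lib.InvChar.HSRec.RBasic

/-!
An element `f` of order five of `C(t)`, the centraliser of `R`, and an element `s` of the two-local subgroup
inducing the squaring on `f`.
-/

set_option autoImplicit false
set_option linter.style.haveILetI false

namespace CfsgLib.InvChar.HSRec

open Subgroup

variable {G : Type*} [Group G] [Finite G] {t : G} {R Cy M : Subgroup G}

theorem perm_five_sq : ∀ σ : Equiv.Perm (Fin 5), σ ^ 5 = 1 → σ ≠ 1 →
    ∃ π : Equiv.Perm (Fin 5), π * σ = σ ^ 2 * π := by decide +kernel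

theorem perm_five_center : ∀ σ : Equiv.Perm (Fin 5),
    (∀ a b : Fin 5, σ * Equiv.swap a b = Equiv.swap a b * σ) → σ = 1 := by decide +kernel

/-- A normal subgroup of `S₅` of order at most five is trivial. -/
theorem perm_five_small (N : Subgroup (Equiv.Perm (Fin 5))) [hN : N.Normal] (h : Nat.card N ≤ 5) : N = ⊥ := by
  have hA : N ⊓ alternatingGroup (Fin 5) = ⊥ := by
    haveI : (N.subgroupOf (alternatingGroup (Fin 5))).Normal := normal_subgroupOf
    haveI := alternatingGroup.isSimpleGroup_five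
    rcases this.eq_bot_or_eq_top_of_normal (N.subgroupOf (alternatingGroup (Fin 5))) inferInstance with e | e
    · exact (subgroupOf_eq_bot.1 e).eq_bot
    · exfalso
      have hle : alternatingGroup (Fin 5) ≤ N := subgroupOf_eq_top.1 e
      have h2 := two_mul_nat_card_alternatingGroup (α := Fin 5)
      rw [Nat.card_perm, Nat.card_fin] at h2
      have := Nat.card_le_card_of_injective (inclusion hle) (inclusion_injective hle)
      rw [show Nat.factorial 5 = 120 from rfl] at h2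
      change Nat.card N ≤ 5 at h
      omega
  refine eq_bot_iff.2 fun σ hσ => mem_bot.2 (perm_five_center σ fun a b => ?_)
  have hc : σ * Equiv.swap a b * σ⁻¹ * (Equiv.swap a b)⁻¹ ∈ N ⊓ alternatingGroup (Fin 5) := by
    refine ⟨?_, ?_⟩
    · have := N.mul_mem hσ (hN.conj_mem _ (N.inv_mem hσ) (Equiv.swap a b))
      simpa [mul_assoc] using this
    · show σ * Equiv.swap a b * σ⁻¹ * (Equiv.swap a b)⁻¹ ∈ Equiv.Perm.sign.ker
      rw [MonoidHom.mem_ker]
      simp only [map_mul, map_inv]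
      rw [mul_comm (Equiv.Perm.sign σ)]
      group
  rw [hA, mem_bot, mul_inv_eq_one, mul_inv_eq_iff_eq_mul] at hc
  exact hc

namespace CSetup

variable (S : CSetup t R Cy M)
include S

theorem cent_comm {g : G} (hg : g ∈ centralizer ({t} : Set G)) : g * t = t * g :=
  mem_centralizer_singleton_iff.1 hg

/-- `C(R) ∩ C(t)` is the centre of `R`, given the same inside `M`. -/
theorem centralizer_R (h1536 : 1536 ≤ Nat.card ↥(M ⊓ centralizer ({t} : Set G)))
    (hM : ∀ g ∈ M, g ∈ centralizer ({t} : Set G) → (∀ r ∈ R, g * r = r * g) → g ∈ Cy)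
    {g : G} (hg : g ∈ centralizer ({t} : Set G)) (hc : ∀ r ∈ R, g * r = r * g) : g ∈ Cy := by
  set H := centralizer ({t} : Set G) with hH
  obtain ⟨φ, hφ, hker⟩ : ∃ φ : H →* Equiv.Perm (Fin 5), Function.Surjective φ ∧ ∀ g, φ g = 1 ↔ (g : G) ∈ R :=
    S.phi
  let K : Subgroup H := (centralizer (R : Set G)).subgroupOf H
  haveI hKn : K.Normal := by
    refine ⟨fun k hk n => ?_⟩
    rw [mem_subgroupOf, mem_centralizer_iff] at hk ⊢
    intro r hr
    have h1 := hk _ (S.norm _ (H.inv_mem n.2) r hr)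
    rw [inv_inv] at h1
    simp only [Subgroup.coe_mul, Subgroup.coe_inv]
    calc r * (n.1 * k.1 * n.1⁻¹) = n.1 * ((n.1⁻¹ * r * n.1) * k.1) * n.1⁻¹ := by group
      _ = n.1 * (k.1 * (n.1⁻¹ * r * n.1)) * n.1⁻¹ := by rw [h1]
      _ = n.1 * k.1 * n.1⁻¹ * r := by group
  let L : Subgroup H := M.subgroupOf H
  have hKL : ∀ x ∈ K, x ∈ L → (x : G) ∈ Cy := fun x hx hxL =>
    hM x.1 hxL x.2 fun r hr => ((mem_centralizer_iff.1 hx) r hr).symm
  have hL : 1536 ≤ Nat.card L := by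
    refine h1536.trans_eq (Nat.card_congr
      { toFun := fun x => ⟨⟨x.1, x.2.2⟩, x.2.1⟩
        invFun := fun x => ⟨x.1.1, x.2, x.1.2⟩
        left_inv := fun _ => rfl
        right_inv := fun _ => rfl })
  have hidx : L.index ≤ 5 := by
    have h := card_mul_index L
    rw [S.card] at h
    nlinarith
  have hNK : Nat.card (K.map φ) ≤ 5 := by
    have h1 : Nat.card (K.map φ) = (φ.ker.subgroupOf K).index := by
      rw [← MonoidHom.domRestrict_range, ← index_ker, MonoidHom.ker_domRestrict]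
    have hle : L.subgroupOf K ≤ φ.ker.subgroupOf K := fun x hx => by
      rw [mem_subgroupOf, MonoidHom.mem_ker, hker]
      exact S.cle (hKL x.1 x.2 hx)
    have h2 : (L.subgroupOf K).index ≤ 5 := by
      rw [← relIndex]
      refine le_trans ?_ hidx
      rw [← relIndex_top_right]
      exact relIndex_le_of_le_right le_top (by rw [relIndex_top_right]; exact index_ne_zero_of_finite)
    rw [h1]
    exact (Nat.le_of_dvd (Nat.pos_of_ne_zero index_ne_zero_of_finite) (index_dvd_of_le hle)).trans h2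
  haveI : (K.map φ).Normal := hKn.map φ hφ
  have hbot := perm_five_small (K.map φ) hNK
  have hgK : (⟨g, hg⟩ : H) ∈ K := mem_centralizer_iff.2 fun r hr => (hc r hr).symm
  have : φ ⟨g, hg⟩ = 1 := by
    have := mem_map_of_mem φ hgK
    rwa [hbot, mem_bot] at this
  exact S.ccentre g ((hker _).1 this) hc

/-- An element of order five of `C(t)` and an element inducing the squaring on it. -/
theorem exists_five : ∃ f n : G, f ∈ centralizer ({t} : Set G) ∧ n ∈ centralizer ({t} : Set G) ∧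
    orderOf f = 5 ∧ n * f * n⁻¹ = f ^ 2 := by
  set H := centralizer ({t} : Set G)
  obtain ⟨φ, hφ, hker⟩ : ∃ φ : H →* Equiv.Perm (Fin 5), Function.Surjective φ ∧ ∀ g, φ g = 1 ↔ (g : G) ∈ R :=
    S.phi
  haveI := Fact.mk (by norm_num : Nat.Prime 5)
  obtain ⟨f, hf⟩ := exists_prime_orderOf_dvd_card' (G := H) 5 (by rw [S.card]; norm_num)
  have hpf : φ f ≠ 1 := by
    intro h
    have h64 : orderOf (f : G) ∣ 64 := by
      rw [← S.card64]
      exact orderOf_mk (f : G) ((hker f).1 h) ▸ orderOf_dvd_natCard _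
    rw [Subgroup.orderOf_coe, hf] at h64
    omega
  have hp5 : φ f ^ 5 = 1 := by
    have h := pow_orderOf_eq_one f
    rw [hf] at h
    rw [← map_pow, h, map_one]
  obtain ⟨π, hπ⟩ := perm_five_sq _ hp5 hpf
  obtain ⟨n, rfl⟩ := hφ π
  let K : Subgroup H := (zpowers (φ f)).comap φ
  have hordpf : orderOf (φ f) = 5 := orderOf_eq_prime hp5 hpf
  have hfn : φ (n * f * n⁻¹) = φ f ^ 2 := by rw [map_mul, map_mul, map_inv, hπ, mul_inv_cancel_right]
  have hfK : f ∈ K := mem_comap.2 (mem_zpowers _)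
  have hfK' : n * f * n⁻¹ ∈ K := mem_comap.2 (hfn ▸ pow_mem (mem_zpowers _) 2)
  have hcardK : Nat.card K = 320 := by
    have hK : φ.ker ≤ K := fun x hx => mem_comap.2 ((MonoidHom.mem_ker.1 hx) ▸ one_mem _)
    have h64 : Nat.card φ.ker = 64 := by
      rw [← S.card64]
      exact Nat.card_congr
        { toFun := fun x => ⟨x.1.1, (hker x.1).1 x.2⟩
          invFun := fun r => ⟨⟨r.1, S.le r.2⟩, (hker ⟨r.1, S.le r.2⟩).2 r.2⟩
          left_inv := fun _ => rfl
          right_inv := fun _ => rfl }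
    have h := card_mul_index (φ.ker.subgroupOf K)
    rw [Nat.card_congr (subgroupOfEquivOfLe hK).toEquiv, h64,
      ← MonoidHom.ker_domRestrict, index_ker, MonoidHom.domRestrict_range,
      map_comap_eq_self_of_surjective hφ, Nat.card_zpowers, hordpf] at h
    omega
  have hcard5 : ∀ x : K, orderOf x = 5 → Nat.card (zpowers x) = 5 ^ (Nat.card K).factorization 5 := by
    intro x hx
    rw [Nat.card_zpowers, hx, hcardK, show (320 : ℕ) = 2 ^ 6 * 5 ^ 1 from rfl,
      Nat.factorization_mul (by norm_num) (by norm_num), Finsupp.add_apply, Nat.factorization_pow,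
      Nat.factorization_pow]
    simp [Nat.prime_two.factorization, (Fact.out : Nat.Prime 5).factorization]
  have ha : orderOf (⟨f, hfK⟩ : K) = 5 := by rw [← hf]; exact (orderOf_injective K.subtype K.subtype_injective _).symm
  have hb : orderOf (⟨n * f * n⁻¹, hfK'⟩ : K) = 5 := by
    rw [← orderOf_injective K.subtype K.subtype_injective]
    show orderOf (n * f * n⁻¹) = 5
    rw [← hf]
    exact orderOf_injective (MulAut.conj n).toMonoidHom (MulAut.conj n).injective f
  obtain ⟨k, hk⟩ := MulAction.exists_smul_eq K (Sylow.ofCard _ (hcard5 _ hb)) (Sylow.ofCard _ (hcard5 _ ha))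
  have hmem : k * ⟨n * f * n⁻¹, hfK'⟩ * k⁻¹ ∈ zpowers (⟨f, hfK⟩ : K) := by
    have := congrArg (fun P : Sylow 5 K => (P : Subgroup K)) hk
    simp only [Sylow.coe_subgroup_smul, Sylow.coe_ofCard] at this
    rw [← this]
    exact Subgroup.smul_mem_pointwise_smul _ (MulAut.conj k) _ (mem_zpowers _)
  obtain ⟨j, hj⟩ := mem_zpowers_iff.1 hmem
  have hj' : f ^ j = k.1 * (n * f * n⁻¹) * k.1⁻¹ := congrArg Subtype.val hj
  have hφj : φ f ^ j = φ f ^ 2 := by
    rw [← map_zpow, hj', map_mul, map_mul, hfn, map_inv]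
    obtain ⟨i, hi⟩ := mem_zpowers_iff.1 (mem_comap.1 k.2)
    rw [← hi]
    group
  have hfj : f ^ j = f ^ 2 := by
    rw [← zpow_natCast, zpow_eq_zpow_iff_modEq] at hφj ⊢
    rwa [hf, ← hordpf]
  refine ⟨f.1, (k.1 * n : H).1, f.2, (k.1 * n : H).2, by rw [Subgroup.orderOf_coe, hf], ?_⟩
  have : (k.1 * n) * f * (k.1 * n)⁻¹ = f ^ 2 := by rw [← hfj, hj']; group
  exact congrArg Subtype.val this

/-- The element `f` and a squaring element `s` in `M`, with a factorisation of `C(t)`. -/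
theorem exists_five_sq (h1536 : 1536 = Nat.card ↥(M ⊓ centralizer ({t} : Set G))) :
    ∃ f s : G, f ∈ centralizer ({t} : Set G) ∧ orderOf f = 5 ∧ s ∈ M ∧ s ∈ centralizer ({t} : Set G) ∧
      s * f * s⁻¹ = f ^ 2 ∧ s ∉ R ∧ s * s ∉ R ∧ s * s * s ∉ R ∧
      ∀ g ∈ centralizer ({t} : Set G), ∃ k < 5, ∃ m ∈ M, m ∈ centralizer ({t} : Set G) ∧ g = f ^ k * m := by
  obtain ⟨f, n, hf, hn, hord, hsq⟩ := S.exists_five
  set H := centralizer ({t} : Set G)
  set L := M ⊓ H
  have hfinj : ∀ a b : ℕ, a < 5 → b < 5 → (f ^ a)⁻¹ * f ^ b ∈ L → a = b := by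
    intro a b ha hb h
    by_contra hne
    have hx : (f ^ a)⁻¹ * f ^ b = f ^ ((b : ℤ) - a) := by rw [zpow_sub, zpow_natCast, zpow_natCast]; group
    rw [hx] at h
    have ho : orderOf (f ^ ((b : ℤ) - a)) = 5 := by
      haveI := Fact.mk (by norm_num : Nat.Prime 5)
      refine orderOf_eq_prime ?_ ?_
      · rw [← zpow_natCast, ← zpow_mul, mul_comm, zpow_mul, zpow_natCast, ← hord, pow_orderOf_eq_one, one_zpow]
      · intro h1
        rw [← orderOf_dvd_iff_zpow_eq_one, hord] at h1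
        omega
    have := orderOf_mk _ h ▸ orderOf_dvd_natCard (⟨_, h⟩ : L)
    rw [ho, ← h1536] at this
    omega
  let F : Fin 5 × L → H := fun p => ⟨f ^ p.1.val * p.2.1, H.mul_mem (H.pow_mem hf _) p.2.2.2⟩
  have hF : Function.Injective F := by
    rintro ⟨a, x⟩ ⟨b, y⟩ e
    have e : f ^ a.val * x.1 = f ^ b.val * y.1 := congrArg Subtype.val e
    have h : (f ^ a.val)⁻¹ * f ^ b.val = x.1 * y.1⁻¹ := by
      rw [inv_mul_eq_iff_eq_mul, ← mul_assoc, e]; group
    have hab := Fin.ext (hfinj a b a.2 b.2 (h ▸ L.mul_mem x.2 (L.inv_mem y.2)))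
    subst hab
    exact Prod.ext rfl (Subtype.ext (mul_left_cancel e))
  have hFb : Function.Bijective F := hF.bijective_of_nat_card_le (by
    rw [Nat.card_prod, Nat.card_fin, ← h1536, S.card])
  have hcov : ∀ g ∈ H, ∃ k < 5, ∃ m ∈ M, m ∈ H ∧ g = f ^ k * m := fun g hg => by
    obtain ⟨⟨k, m⟩, e⟩ := hFb.2 ⟨g, hg⟩
    exact ⟨k.val, k.2, m.1, m.2.1, m.2.2, (congrArg Subtype.val e).symm⟩
  obtain ⟨k, -, s, hsM, hsH, he⟩ := hcov n hn
  have hs : s * f * s⁻¹ = f ^ 2 := by
    have : s = (f ^ k)⁻¹ * n := by rw [he]; group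
    rw [this, show (f ^ k)⁻¹ * n * f * ((f ^ k)⁻¹ * n)⁻¹ = (f ^ k)⁻¹ * (n * f * n⁻¹) * f ^ k by group, hsq]
    group
  have hR : ∀ (x : G) (i : ℕ), x ∈ R → x * f * x⁻¹ = f ^ (i + 1) → f ^ i = 1 := by
    intro x i hx hxe
    have h1 : f ^ i ∈ R := by
      have h2 := R.mul_mem hx (S.norm f hf _ (R.inv_mem hx))
      rwa [← mul_assoc, ← mul_assoc, hxe, pow_succ, mul_inv_cancel_right] at h2
    have h64 : orderOf (f ^ i) ∣ 64 := S.card64 ▸ orderOf_mk _ h1 ▸ orderOf_dvd_natCard _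
    have h5 : orderOf (f ^ i) ∣ 5 := hord ▸ orderOf_pow_dvd i
    rw [← orderOf_eq_one_iff]
    exact Nat.eq_one_of_dvd_coprimes (by norm_num) h64 h5
  have hne : ∀ i : ℕ, ¬ 5 ∣ i → f ^ i ≠ 1 := fun i hi h => hi (hord ▸ orderOf_dvd_of_pow_eq_one h)
  have hpow : ∀ j : ℕ, s * f ^ j * s⁻¹ = f ^ (2 * j) := fun j => by
    rw [← conj_pow, hs, pow_mul]
  refine ⟨f, s, hf, hord, hsM, hsH, hs, fun h => hne 1 (by norm_num) (hR s 1 h hs),
    fun h => hne 3 (by norm_num) (hR _ 3 h ?_), fun h => hne 7 (by norm_num) (hR _ 7 h ?_), hcov⟩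
  · rw [show s * s * f * (s * s)⁻¹ = s * (s * f * s⁻¹) * s⁻¹ by group, hs, hpow]
  · rw [show s * s * s * f * (s * s * s)⁻¹ = s * (s * (s * f * s⁻¹) * s⁻¹) * s⁻¹ by group, hs, hpow, hpow]

/-- `f` centralises the centre of `R`. -/
theorem five_centre {f : G} (hf : f ∈ centralizer ({t} : Set G)) (hord : orderOf f = 5) :
    ∀ z ∈ Cy, f * z = z * f := by
  intro z hz
  have hmem : ∀ g ∈ centralizer ({t} : Set G), ∀ w ∈ Cy, g * w * g⁻¹ ∈ Cy := by
    intro g hg w hw
    refine S.ccentre _ (S.norm g hg w (S.cle hw)) fun r hr => ?_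
    have h1 := S.ccomm w hw _ (S.norm _ (inv_mem hg) r hr)
    rw [inv_inv] at h1
    calc g * w * g⁻¹ * r = g * (w * (g⁻¹ * r * g)) * g⁻¹ := by group
      _ = g * ((g⁻¹ * r * g) * w) * g⁻¹ := by rw [h1]
      _ = r * (g * w * g⁻¹) := by group
  haveI := S.cyc
  obtain ⟨c, hc⟩ := S.cyc.exists_generator
  obtain ⟨a, ha⟩ := mem_zpowers_iff.1 (hc ⟨f * c.1 * f⁻¹, hmem f hf _ c.2⟩)
  have ha : c.1 ^ a = f * c.1 * f⁻¹ := congrArg Subtype.val ha
  have hiter : ∀ i : ℕ, f ^ i * c.1 * (f ^ i)⁻¹ = c.1 ^ (a ^ i) := by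
    intro i
    induction i with
    | zero => simp
    | succ i ih =>
      rw [pow_succ' f, mul_inv_rev, show f * f ^ i * c.1 * ((f ^ i)⁻¹ * f⁻¹) =
        f * (f ^ i * c.1 * (f ^ i)⁻¹) * f⁻¹ by group, ih, ← conj_zpow, ← ha, ← zpow_mul, pow_succ']
  have h5 := hiter 5
  rw [← hord, pow_orderOf_eq_one, inv_one, mul_one, one_mul, hord] at h5
  have ho : orderOf c.1 = 4 := by
    rw [Subgroup.orderOf_coe, orderOf_eq_card_of_forall_mem_zpowers hc, S.ccard]
  have h1 : (a ^ 5 - 1) % 4 = 0 := by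
    have : c.1 ^ (a ^ 5 - 1) = 1 := by rw [zpow_sub, ← h5, zpow_one, mul_inv_cancel]
    rw [← orderOf_dvd_iff_zpow_eq_one, ho] at this
    omega
  have h2 : ((a : ZMod 4)) ^ 5 = 1 := by
    have : (((a ^ 5 - 1 : ℤ)) : ZMod 4) = 0 := (ZMod.intCast_zmod_eq_zero_iff_dvd _ 4).2 (by omega)
    push_cast at this
    exact sub_eq_zero.1 this
  have h3 : (a : ZMod 4) = 1 := (by decide : ∀ x : ZMod 4, x ^ 5 = 1 → x = 1) _ h2
  have hc1 : f * c.1 * f⁻¹ = c.1 := by
    rw [← ha]
    conv_rhs => rw [← zpow_one c.1]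
    rw [zpow_eq_zpow_iff_modEq, ho]
    exact (ZMod.intCast_eq_intCast_iff a 1 4).1 (by simpa using h3)
  obtain ⟨b, hb⟩ := mem_zpowers_iff.1 (hc ⟨z, hz⟩)
  have hb : c.1 ^ b = z := congrArg Subtype.val hb
  rw [← hb]
  exact ((show Commute f c.1 from mul_inv_eq_iff_eq_mul.1 hc1).zpow_right b).eq

/-- The fixed points of `f` on `R` are central. -/
theorem five_fixed {f : G} (hf : f ∈ centralizer ({t} : Set G)) (hord : orderOf f = 5)
    (hCR : ∀ g ∈ centralizer ({t} : Set G), (∀ r ∈ R, g * r = r * g) → g ∈ Cy)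
    {r : G} (hr : r ∈ R) (hfr : f * r = r * f) : r ∈ Cy := by
  let F : Subgroup G := R ⊓ centralizer ({f} : Set G)
  have hle : Cy ≤ F := fun z hz =>
    ⟨S.cle hz, mem_centralizer_singleton_iff.2 (S.five_centre hf hord z hz).symm⟩
  have hnall : ¬ R ≤ F := by
    intro h
    have : f ∈ Cy := hCR f hf fun x hx => (mem_centralizer_singleton_iff.1 (h hx).2).symm
    have h4 := orderOf_mk f this ▸ orderOf_dvd_natCard (⟨f, this⟩ : Cy)
    rw [hord, S.ccard] at h4
    omega
  letI act : MulAction (zpowers f) R :=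
    { smul := fun g x => ⟨g.1 * x.1 * g.1⁻¹, S.norm g.1 ((zpowers_le.2 hf) g.2) x.1 x.2⟩
      one_smul := fun x => Subtype.ext (show (1 : G) * x.1 * (1 : G)⁻¹ = x.1 by simp)
      mul_smul := fun g h x => Subtype.ext
        (show g.1 * h.1 * x.1 * (g.1 * h.1)⁻¹ = g.1 * (h.1 * x.1 * h.1⁻¹) * g.1⁻¹ by group) }
  have hp : IsPGroup 5 (zpowers f) := IsPGroup.of_card (n := 1) (by rw [Nat.card_zpowers, hord, pow_one])
  haveI := Fact.mk (by norm_num : Nat.Prime 5)
  have hmod := hp.card_modEq_card_fixedPoints R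
  have hfix : Nat.card (MulAction.fixedPoints (zpowers f) R) = Nat.card F := by
    refine Nat.card_congr
      { toFun := fun x => ⟨x.1.1, x.1.2, mem_centralizer_singleton_iff.2 ?_⟩
        invFun := fun x => ⟨⟨x.1, x.2.1⟩, fun g => Subtype.ext ?_⟩
        left_inv := fun _ => rfl
        right_inv := fun _ => rfl }
    · have h := congrArg Subtype.val (x.2 ⟨f, mem_zpowers f⟩)
      exact (mul_inv_eq_iff_eq_mul.1 (show f * x.1.1 * f⁻¹ = x.1.1 from h)).symm
    · show g.1 * x.1 * g.1⁻¹ = x.1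
      obtain ⟨k, hk⟩ := mem_zpowers_iff.1 g.2
      rw [← hk, ((show Commute f x.1 from (mem_centralizer_singleton_iff.1 x.2.2).symm).zpow_left k).eq,
        mul_inv_cancel_right]
  rw [hfix, S.card64] at hmod
  have hdvd : Nat.card F ∣ 64 := S.card64 ▸ card_dvd_of_le inf_le_left
  have h4 : 4 ≤ Nat.card F := S.ccard ▸ Nat.card_le_card_of_injective (inclusion hle) (inclusion_injective hle)
  have hne : Nat.card F ≠ 64 := fun h => hnall ((eq_of_le_of_card_ge (show F ≤ R from inf_le_left)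
    (by rw [h, S.card64])).symm.le)
  have hF4 : Nat.card F = 4 := by
    obtain ⟨k, hk, e⟩ := (Nat.dvd_prime_pow Nat.prime_two).1 (show Nat.card F ∣ 2 ^ 6 from hdvd)
    rw [e] at hmod h4 hne ⊢
    interval_cases k <;> simp_all [Nat.ModEq]
  have := eq_of_le_of_card_ge hle (by rw [hF4, S.ccard])
  rw [this]
  exact ⟨hr, mem_centralizer_singleton_iff.2 hfr.symm⟩

end CSetup

end CfsgLib.InvChar.HSRec
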