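import Cfsg.Agent.Lib.InvChar.HSRec.RTwist
import Cfsg.Agent.Lib.InvChar.HSRec.RFive

/-!
The element of order five in normal position with respect to the model.
-/

set_option autoImplicit false
set_option maxRecDepth 100000

namespace CfsgLib.InvChar.HSRec

open CfsgLib.InvChar.Coset Subgroup

variable {G : Type*} [Group G] [Finite G]

/-- The model and an element `f` of order five in normal position. -/
structure Config (ψ : ℕ → G) (t : G) (M R : Subgroup G) (f : G) : Prop where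
  rep : MRep ψ t M
  R_iff : ∀ x < wcard, (ψ x ∈ R ↔ x ∈ r2L)
  fmem : f ∈ centralizer ({t} : Set G)
  ord : orderOf f = 5
  sconj : ψ 1220 * f * (ψ 1220)⁻¹ = f ^ 2
  vconj : f * ψ 24 * f⁻¹ = ψ 82

variable {ψ : ℕ → G} {t : G} {M R Cy : Subgroup G} (Ψ : MRep ψ t M) (S : CSetup t R Cy M)
  (ht : orderOf t = 2)
include Ψ S ht

/-- The centraliser of `R` in `C(t)`. -/
theorem MRep.hCR : ∀ g ∈ centralizer ({t} : Set G), (∀ r ∈ R, g * r = r * g) → g ∈ Cy := by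
  obtain ⟨L, hL, hR⟩ := Ψ.R_cases S ht
  exact fun g hg hc => S.centralizer_R Ψ.card_MC.ge
    (fun x hx hxc h => ((Ψ.centre S ht hL hR).2 x hx hxc h).1) hg hc

/-- The conditions on the image of a fixed element. -/
theorem MRep.cond_of {L : List ℕ} (hL : L = r1L ∨ L = r2L) (hR : ∀ x < wcard, (ψ x ∈ R ↔ x ∈ L))
    {f : G} (hf : f ∈ centralizer ({t} : Set G)) (hord : orderOf f = 5) {sols : List ℕ} {rep irep v : ℕ}
    (hrow : repRow L sols rep irep v = true) (hs : ψ rep * f * (ψ rep)⁻¹ = f ^ 2) :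
    ∃ v1 ∈ sols, v1 < wcard ∧ f * ψ v * f⁻¹ = ψ v1 := by
  simp only [repRow, Bool.and_eq_true, Nat.blt_eq, Nat.beq_eq, Bool.not_eq_true'] at hrow
  obtain ⟨⟨⟨⟨⟨⟨⟨hr, hi⟩, -⟩, hri⟩, hv⟩, hvz⟩, hrv⟩, hall⟩ := hrow
  rw [memb_iff] at hv
  have hLlt : ∀ x ∈ L, x < wcard := by rcases hL with rfl | rfl; exacts [lists_lt.1, lists_lt.2.1]
  have hvlt := hLlt v hv
  have hvR := (hR v hvlt).2 hv
  obtain ⟨v1, hv1, e1⟩ := (Ψ.range _).1 (S.leM (S.norm f hf _ hvR))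
  have hv1L : v1 ∈ L := (hR v1 hv1).1 (e1 ▸ S.norm f hf _ hvR)
  have hCR := Ψ.hCR S ht
  obtain ⟨hzC, hcent⟩ := Ψ.centre S ht hL hR
  have hCyz : ∀ x, x < wcard → ψ x ∈ Cy → x ∈ zL := by
    intro x hx hxc
    obtain ⟨z, hz, e⟩ := (hcent _ (Ψ.mem hx) (S.le (S.cle hxc)) (S.ccomm _ hxc)).2
    rwa [← (Ψ.eq_iff (lists_lt.2.2.1 z hz) hx).1 e]
  have hv1z : memb zL v1 = false := by
    rw [Bool.eq_false_iff]
    intro h
    have hc := hzC v1 (memb_iff.1 h)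
    have : ψ v = ψ v1 := by
      have h5 := S.five_centre hf hord _ hc
      calc ψ v = f⁻¹ * (f * ψ v * f⁻¹) * f := by group
        _ = f⁻¹ * (ψ v1 * f) := by rw [e1]; group
        _ = ψ v1 := by rw [← h5]; group
    rw [(Ψ.eq_iff hvlt hv1).1 this] at hvz
    rw [h] at hvz
    exact Bool.noConfusion hvz
  refine ⟨v1, ?_, hv1, e1.symm⟩
  have hrow' := allL_spec hall v1 hv1L
  rw [Bool.or_eq_true, Bool.or_eq_true, hv1z] at hrow'
  suffices condB rep irep v v1 = true by simpa [this, memb_iff] using hrow'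
  -- the iterates of `v` under `f`
  let F : ℕ → G := fun k => f ^ k * ψ v * (f ^ k)⁻¹
  have hsv : ψ rep * ψ v * (ψ rep)⁻¹ = ψ v := by
    rw [mul_inv_eq_iff_eq_mul]; exact (Ψ.com_iff hr hvlt).1 hrv
  have hsF : ∀ k, ψ rep * F k * (ψ rep)⁻¹ = F (2 * k) := by
    intro k
    have hk : ψ rep * f ^ k * (ψ rep)⁻¹ = f ^ (2 * k) := by rw [← conj_pow, hs, pow_mul]
    calc ψ rep * F k * (ψ rep)⁻¹ = (ψ rep * f ^ k * (ψ rep)⁻¹) * (ψ rep * ψ v * (ψ rep)⁻¹) *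
          (ψ rep * f ^ k * (ψ rep)⁻¹)⁻¹ := by simp only [F]; group
      _ = F (2 * k) := by rw [hk, hsv]
  have h5 : ∀ k, F (k + 5) = F k := fun k => by
    simp only [F, pow_add, ← hord, pow_orderOf_eq_one, mul_one]
  have hFR : ∀ k, F k ∈ R := fun k => S.norm _ ((centralizer ({t} : Set G)).pow_mem hf k) _ hvR
  set v2 := wmul (wmul rep v1) irep
  set v4 := wmul (wmul rep v2) irep
  set v3 := wmul (wmul rep v4) irep
  have hv2 : v2 < wcard := wmul_lt (wmul_lt hr hv1) hi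
  have hv4 : v4 < wcard := wmul_lt (wmul_lt hr hv2) hi
  have hv3 : v3 < wcard := wmul_lt (wmul_lt hr hv4) hi
  have g0 : ψ v = F 0 := by simp [F]
  have g1 : ψ v1 = F 1 := by rw [e1]; simp [F]
  have g2 : ψ v2 = F 2 := by rw [Ψ.conj_eq hr hi hv1 hri, g1, hsF]
  have g4 : ψ v4 = F 4 := by rw [Ψ.conj_eq hr hi hv2 hri, g2, hsF]
  have g3 : ψ v3 = F 3 := by rw [Ψ.conj_eq hr hi hv4 hri, g4, hsF]; exact h5 3
  have hsq : ∀ a k, a < wcard → ψ a = F k → wmul a a = wmul v v := by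
    intro a k ha e
    rw [← Ψ.eq_iff (wmul_lt ha ha) (wmul_lt hvlt hvlt), Ψ.mul a ha a ha, Ψ.mul v hvlt v hvlt, e]
    have hct : f ^ k * (ψ v * ψ v) = (ψ v * ψ v) * f ^ k := by
      rcases (mem_zpowers_two ht).1 (S.sq _ hvR) with h | h <;> rw [h]
      · simp
      · exact mem_centralizer_singleton_iff.1 ((centralizer ({t} : Set G)).pow_mem hf k)
    calc F k * F k = f ^ k * (ψ v * ψ v) * (f ^ k)⁻¹ := by simp only [F]; group
      _ = ψ v * ψ v := by rw [hct]; group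
  have hcom : ∀ a b c d i j k : ℕ, a < wcard → b < wcard → c < wcard → d < wcard → ψ a = F i → ψ b = F j →
      ψ c = F (i + k) → ψ d = F (j + k) → com c d = com a b := by
    intro a b c d i j k ha hb hc hd ea eb ec ed
    rw [Bool.eq_iff_iff, Ψ.com_iff hc hd, Ψ.com_iff ha hb, ea, eb, ec, ed]
    have hF : ∀ i, F (i + k) = f ^ k * F i * (f ^ k)⁻¹ := fun i => by
      simp only [F]; rw [add_comm, pow_add]; group
    rw [hF, hF]
    constructor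
    · intro h
      apply mul_left_cancel (a := f ^ k)
      apply mul_right_cancel (b := (f ^ k)⁻¹)
      calc f ^ k * (F i * F j) * (f ^ k)⁻¹ = f ^ k * F i * (f ^ k)⁻¹ * (f ^ k * F j * (f ^ k)⁻¹) := by group
        _ = f ^ k * F j * (f ^ k)⁻¹ * (f ^ k * F i * (f ^ k)⁻¹) := h
        _ = _ := by group
    · intro h
      calc f ^ k * F i * (f ^ k)⁻¹ * (f ^ k * F j * (f ^ k)⁻¹) = f ^ k * (F i * F j) * (f ^ k)⁻¹ := by group
        _ = f ^ k * (F j * F i) * (f ^ k)⁻¹ := by rw [h]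
        _ = _ := by group
  -- the product of the orbit
  set P := F 0 * F 1 * F 2 * F 3 * F 4 with hP
  set P' := F 1 * F 2 * F 3 * F 4 * F 0 with hP'
  have hPR : P ∈ R := R.mul_mem (R.mul_mem (R.mul_mem (R.mul_mem (hFR 0) (hFR 1)) (hFR 2)) (hFR 3)) (hFR 4)
  have hfP : f * P * f⁻¹ = P' := by
    have e : ∀ k, f * F k * f⁻¹ = F (k + 1) := fun k => by simp only [F, pow_succ']; group
    rw [hP, hP', show f * (F 0 * F 1 * F 2 * F 3 * F 4) * f⁻¹ = (f * F 0 * f⁻¹) * (f * F 1 * f⁻¹) *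
      (f * F 2 * f⁻¹) * (f * F 3 * f⁻¹) * (f * F 4 * f⁻¹) by group, e, e, e, e, e, h5 0]
  have hPP : P' = P := by
    have h1 : P⁻¹ * P' ∈ zpowers t := by
      have h := S.comm _ (R.inv_mem hPR) _ (R.inv_mem (hFR 0))
      rw [inv_inv, inv_inv] at h
      have : P⁻¹ * P' = P⁻¹ * (F 0)⁻¹ * P * F 0 := by rw [hP, hP']; group
      rwa [this]
    rcases (mem_zpowers_two ht).1 h1 with h | h
    · exact (inv_mul_eq_one.1 h).symm
    exfalso
    have hPt : f * P * f⁻¹ = P * t := by rw [hfP, ← h, mul_inv_cancel_left]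
    have hft : f * t = t * f := mem_centralizer_singleton_iff.1 hf
    have hk : ∀ k : ℕ, f ^ k * P * (f ^ k)⁻¹ = P * t ^ k := by
      intro k
      induction k with
      | zero => simp
      | succ k ih =>
        rw [pow_succ' f, show f * f ^ k * P * (f * f ^ k)⁻¹ = f * (f ^ k * P * (f ^ k)⁻¹) * f⁻¹ by group, ih,
          show f * (P * t ^ k) * f⁻¹ = (f * P * f⁻¹) * (f * t ^ k * f⁻¹) by group, hPt,
          (show Commute f t from hft).pow_right k |>.eq, mul_inv_cancel_right, mul_assoc, ← pow_succ']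
    have := hk 5
    rw [show f ^ 5 = 1 from hord ▸ pow_orderOf_eq_one f, inv_one, mul_one, one_mul] at this
    have h5t : t ^ 5 = 1 := mul_left_cancel (a := P) (this.symm.trans (mul_one P).symm)
    have := orderOf_dvd_of_pow_eq_one h5t
    rw [ht] at this
    omega
  have hPC : P ∈ Cy := S.five_fixed hf hord hCR hPR (by
    rw [← mul_inv_eq_iff_eq_mul]; exact hfP.trans hPP)
  simp only [condB, force_eq, Bool.and_eq_true, Nat.beq_eq]
  have hw : ∀ a b c d e : ℕ, a < wcard → b < wcard → c < wcard → d < wcard → e < wcard →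
      wmul (wmul (wmul (wmul a b) c) d) e < wcard ∧
      ψ (wmul (wmul (wmul (wmul a b) c) d) e) = ψ a * ψ b * ψ c * ψ d * ψ e := by
    intro a b c d e ha hb hc hd he
    refine ⟨wmul_lt (wmul_lt (wmul_lt (wmul_lt ha hb) hc) hd) he, ?_⟩
    rw [Ψ.mul _ (wmul_lt (wmul_lt (wmul_lt ha hb) hc) hd) e he, Ψ.mul _ (wmul_lt (wmul_lt ha hb) hc) d hd,
      Ψ.mul _ (wmul_lt ha hb) c hc, Ψ.mul a ha b hb]
  obtain ⟨hwP, ewP⟩ := hw v v1 v2 v3 v4 hvlt hv1 hv2 hv3 hv4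
  obtain ⟨hwP', ewP'⟩ := hw v1 v2 v3 v4 v hv1 hv2 hv3 hv4 hvlt
  rw [g0, g1, g2, g3, g4] at ewP ewP'
  refine ⟨?_, ?_, ?_, ?_, ?_, ?_⟩
  · rw [← Ψ.eq_iff (wmul_lt (wmul_lt hr hv3) hi) hv1, Ψ.conj_eq hr hi hv3 hri, g3, hsF, g1]
    exact h5 1
  · simp only [allL, Bool.and_eq_true, Nat.beq_eq]
    exact ⟨hsq v1 1 hv1 g1, hsq v2 2 hv2 g2, hsq v3 3 hv3 g3, hsq v4 4 hv4 g4, trivial⟩
  · simp only [allL, Bool.and_eq_true, beq_iff_eq]
    exact ⟨hcom v v1 v1 v2 0 1 1 hvlt hv1 hv1 hv2 g0 g1 g1 g2,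
      hcom v v1 v2 v3 0 1 2 hvlt hv1 hv2 hv3 g0 g1 g2 g3,
      hcom v v1 v3 v4 0 1 3 hvlt hv1 hv3 hv4 g0 g1 g3 g4,
      hcom v v1 v4 v 0 1 4 hvlt hv1 hv4 hvlt g0 g1 g4 (g0.trans (h5 0).symm), trivial⟩
  · simp only [allL, Bool.and_eq_true, beq_iff_eq]
    exact ⟨hcom v v2 v1 v3 0 2 1 hvlt hv2 hv1 hv3 g0 g2 g1 g3,
      hcom v v2 v2 v4 0 2 2 hvlt hv2 hv2 hv4 g0 g2 g2 g4,
      hcom v v2 v3 v 0 2 3 hvlt hv2 hv3 hvlt g0 g2 g3 (g0.trans (h5 0).symm),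
      hcom v v2 v4 v1 0 2 4 hvlt hv2 hv4 hv1 g0 g2 g4 (g1.trans (h5 1).symm), trivial⟩
  · exact memb_iff.2 (hCyz _ hwP (ewP ▸ hPC))
  · rw [← Ψ.eq_iff hwP' hwP, ewP, ewP']
    exact hPP

/-- Conjugating an element of order five by an element of `C_M(t)`, up to the centre. -/
theorem MRep.conj_step {f : G} (hf : f ∈ centralizer ({t} : Set G)) (hord : orderOf f = 5) {h a r z : ℕ}
    (hh : h < wcard) (hhc : com h 32 = true) (ha : a < wcard) (hr : r < wcard) (hz : z < wcard)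
    (hzC : ψ z ∈ Cy) (e : wmul h a = wmul (wmul r z) h) (hs : ψ a * f * (ψ a)⁻¹ = f ^ 2) :
    (ψ h * f * (ψ h)⁻¹ ∈ centralizer ({t} : Set G)) ∧ orderOf (ψ h * f * (ψ h)⁻¹) = 5 ∧
      ψ r * (ψ h * f * (ψ h)⁻¹) * (ψ r)⁻¹ = (ψ h * f * (ψ h)⁻¹) ^ 2 := by
  set H := centralizer ({t} : Set G)
  have hhH : ψ h ∈ H := (Ψ.cent_iff hh).1 hhc
  set f' := ψ h * f * (ψ h)⁻¹ with hf'
  have hfH : f' ∈ H := H.mul_mem (H.mul_mem hhH hf) (H.inv_mem hhH)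
  have hord' : orderOf f' = 5 := by
    rw [← hord]
    exact orderOf_injective (MulAut.conj (ψ h)).toMonoidHom (MulAut.conj (ψ h)).injective f
  refine ⟨hfH, hord', ?_⟩
  have hw := Ψ.wit_eq hh ha hr hz e
  have hzf := S.five_centre hfH hord' _ hzC
  calc ψ r * f' * (ψ r)⁻¹ = (ψ r * ψ z) * f' * (ψ r * ψ z)⁻¹ := by
        rw [mul_inv_rev, show ψ r * ψ z * f' * ((ψ z)⁻¹ * (ψ r)⁻¹) = ψ r * (ψ z * f') * (ψ z)⁻¹ * (ψ r)⁻¹ by
          group, ← hzf]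
        group
    _ = ψ h * (ψ a * f * (ψ a)⁻¹) * (ψ h)⁻¹ := by rw [← hw, hf']; group
    _ = f' ^ 2 := by rw [hs, hf', conj_pow]

/-- An element of order five, with one of the representatives of the candidate. -/
theorem MRep.exists_rep_five {L : List ℕ} (hL : L = r1L ∨ L = r2L)
    (hR : ∀ x < wcard, (ψ x ∈ R ↔ x ∈ L)) (wit : List (ℕ × ℕ × ℕ × ℕ)) (reps : List ℕ)
    (hreps : ∀ r ∈ reps, r < wcard) (hwit : allL (witRow reps) wit = true)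
    (hcov : allB (fun x => !com x 32 || memb L x || memb L (wmul x x) ||
      memb L (wmul (wmul x x) x) || memb (wit.map Prod.fst) x) 10752 = true) :
    ∃ f r, r ∈ reps ∧ f ∈ centralizer ({t} : Set G) ∧ orderOf f = 5 ∧ ψ r * f * (ψ r)⁻¹ = f ^ 2 := by
  obtain ⟨f, s, hf, hord, hsM, hsH, hs, h1, h2, h3, -⟩ := S.exists_five_sq Ψ.card_MC.symm
  obtain ⟨x, hx, hxc, rfl⟩ := Ψ.code hsM hsH
  have hc := allB_spec hcov x hx
  simp only [hxc, Bool.not_true, Bool.false_or, Bool.or_eq_true, memb_iff] at hc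
  have hn : ¬ ((x ∈ L ∨ wmul x x ∈ L) ∨ wmul (wmul x x) x ∈ L) := by
    rintro ((h | h) | h)
    · exact h1 ((hR x hx).2 h)
    · exact h2 (Ψ.mul x hx x hx ▸ (hR _ (wmul_lt hx hx)).2 h)
    · exact h3 (by
        rw [← Ψ.mul x hx x hx, ← Ψ.mul _ (wmul_lt hx hx) x hx]
        exact (hR _ (wmul_lt (wmul_lt hx hx) hx)).2 h)
  obtain ⟨⟨x', h, r, z⟩, hmem, rfl⟩ := List.mem_map.1 (hc.resolve_left hn)
  have hrow := allL_spec hwit _ hmem
  simp only [witRow, Bool.and_eq_true, Nat.blt_eq, Nat.beq_eq, memb_iff] at hrow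
  obtain ⟨⟨⟨⟨hh, hhc⟩, hr⟩, hz⟩, e⟩ := hrow
  exact ⟨_, r, hr, Ψ.conj_step S ht hf hord hh hhc hx (hreps r hr) (lists_lt.2.2.1 z hz)
    ((Ψ.centre S ht hL hR).1 z hz) e hs⟩

/-- **The normal position.** -/
theorem MRep.exists_config : ∃ ψ' : ℕ → G, ∃ f : G, Config ψ' t M R f := by
  obtain ⟨L, hL, hR⟩ := Ψ.R_cases S ht
  rcases hL with rfl | rfl
  · exfalso
    obtain ⟨f, r, hr, hf, hord, hs⟩ := Ψ.exists_rep_five S ht (Or.inl rfl) hR wit1L [836, 1024]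
      (by decide) chk_wit1 chk_cover1
    simp only [List.mem_cons, List.not_mem_nil, or_false] at hr
    rcases hr with rfl | rfl
    · obtain ⟨v1, h, -⟩ := Ψ.cond_of S ht (Or.inl rfl) hR hf hord chk_rep1a hs
      cases h
    · obtain ⟨v1, h, -⟩ := Ψ.cond_of S ht (Or.inl rfl) hR hf hord chk_rep1b hs
      cases h
  obtain ⟨f, r, hr, hf, hord, hs⟩ := Ψ.exists_rep_five S ht (Or.inr rfl) hR wit2L [836, 1220]
    (by decide) chk_wit2 chk_cover2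
  simp only [List.mem_cons, List.not_mem_nil, or_false] at hr
  rcases hr with rfl | rfl
  · obtain ⟨v1, h, -⟩ := Ψ.cond_of S ht (Or.inr rfl) hR hf hord chk_rep2a hs
    cases h
  obtain ⟨v1, hv1, hv1lt, e1⟩ := Ψ.cond_of S ht (Or.inr rfl) hR hf hord chk_rep2b hs
  obtain ⟨⟨x, th, h, z, z2⟩, hmem, rfl⟩ := List.mem_map.1 hv1
  have hrow := allL_spec chk_norm _ hmem
  simp only [normRow, force_eq, Bool.and_eq_true, Bool.or_eq_true, Nat.blt_eq, Nat.beq_eq, memb_iff] at hrow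
  obtain ⟨⟨⟨⟨⟨⟨⟨⟨⟨⟨⟨hth, ha⟩, hb⟩, hc⟩, hbR⟩, hh⟩, hhc⟩, hz⟩, hz2⟩, ea⟩, eb⟩, ec⟩ := hrow
  -- a copy in which the sources have the given values
  obtain ⟨ψ', Ψ', hR', sa, sb, sc⟩ : ∃ ψ' : ℕ → G, MRep ψ' t M ∧ (∀ y < wcard, (ψ' y ∈ R ↔ y ∈ r2L)) ∧
      ψ' (src th 1220) = ψ 1220 ∧ ψ' (src th 24) = ψ 24 ∧ ψ' (src th x) = ψ x := by
    rcases hth with rfl | ⟨⟨⟨rfl, p1⟩, p2⟩, p3⟩
    · exact ⟨ψ, Ψ, hR, rfl, rfl, rfl⟩
    · exact ⟨ψ ∘ phi, Ψ.twist, Ψ.twist_R hR, congrArg ψ p1, congrArg ψ p2, congrArg ψ p3⟩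
  have hzC := (Ψ'.centre S ht (Or.inr rfl) hR').1
  rw [← sa] at hs
  obtain ⟨hf', hord', hs'⟩ := Ψ'.conj_step S ht hf hord hh hhc ha (by decide)
    (lists_lt.2.2.1 z hz) (hzC z hz) ea hs
  refine ⟨ψ', _, Ψ', hR', hf', hord', hs', ?_⟩
  set f' := ψ' h * f * (ψ' h)⁻¹ with hf'def
  have wb := Ψ'.wit_eq hh hb (show 24 < wcard by decide) (lists_lt.2.2.1 z2 hz2) eb
  have wc := Ψ'.wit_eq hh hc (show 82 < wcard by decide) (lists_lt.2.2.1 z2 hz2) ec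
  have hzf := S.five_centre hf' hord' _ (hzC z2 hz2)
  have h24 : ψ' 24 = ψ' h * ψ' (src th 24) * (ψ' h)⁻¹ * (ψ' z2)⁻¹ := by rw [wb, mul_inv_cancel_right]
  calc f' * ψ' 24 * f'⁻¹ = ψ' h * (f * ψ' (src th 24) * f⁻¹) * (ψ' h)⁻¹ * (f' * (ψ' z2)⁻¹ * f'⁻¹) := by
        rw [h24, hf'def]; group
    _ = ψ' h * ψ' (src th x) * (ψ' h)⁻¹ * (ψ' z2)⁻¹ := by
        rw [sb, sc, e1, (show Commute f' (ψ' z2) from hzf).inv_right.eq, mul_inv_cancel_right]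
    _ = ψ' 82 := by rw [wc, mul_inv_cancel_right]

end CfsgLib.InvChar.HSRec
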