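import Cfsg.Agent.Lib.InvChar.HSRec.HTable
import Cfsg.Agent.Lib.InvChar.HSRec.Completion
import Cfsg.Agent.Lib.InvChar.HSRec.Finale

/-!
The recognition of the Higman–Sims group from a copy of the two-local subgroup.
-/

set_option autoImplicit false

namespace CfsgLib.InvChar.HSRec

open CfsgLib.InvChar.Coset Subgroup

theorem iso_of_model {G : Type*} [Group G] [Finite G] {ψ : ℕ → G} {t : G} {M R Cy : Subgroup G}
    (ht : orderOf t = 2) (S : CSetup t R Cy M) (Ψ : MRep ψ t M) : Cfsg.Spor.IsoHS G := by
  obtain ⟨ψ', f, K⟩ := Ψ.exists_config S ht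
  have hne : letters ψ' f 0 ≠ 1 := by
    intro h
    rw [← K.rep.one] at h
    exact absurd ((K.rep.eq_iff (show 5131 < wcard by decide) (show 0 < wcard by decide)).1 h) (by norm_num)
  obtain ⟨φ, hinj, hr⟩ := exists_embedding (letters ψ' f) (K.letters_sq S ht)
    (fun r hr h => by rw [K.wprod_M hr, h, K.rep.one]) (K.relH S ht) (K.relN S ht) hne
  refine iso_of_embedding t ht S.card φ hinj ((K.centralizer_le S ht).trans ((closure_le _).2 ?_))
  rintro _ ⟨i, hi, rfl⟩
  have hi : i < 5 := hi
  rw [subGen, if_pos (show i < letH.length from hi)]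
  exact hr _ (by interval_cases i <;> decide)

end CfsgLib.InvChar.HSRec
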