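import Cfsg.Agent.Lib.InvChar.HSRec.RCheck
import Cfsg.Agent.Lib.InvChar.HSRec.RBasic

/-!
A copy of the model `4³ : L₃(2)` inside a group, and the position of `R = O₂(C(t))` in it.
-/

set_option autoImplicit false
set_option maxRecDepth 100000

namespace CfsgLib.InvChar.HSRec

open CfsgLib.InvChar.Coset Subgroup

variable {G : Type*} [Group G]

/-- `ψ` is an isomorphism of the model onto `M` taking the central involution to `t`. -/
structure MRep (ψ : ℕ → G) (t : G) (M : Subgroup G) : Prop where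
  mul : ∀ x < wcard, ∀ y < wcard, ψ (wmul x y) = ψ x * ψ y
  inj : Set.InjOn ψ (Set.Iio wcard)
  range : ∀ g, g ∈ M ↔ ∃ x < wcard, ψ x = g
  tval : ψ wT = t

theorem vadd_lt64 (v w : ℕ) : vadd v w < 64 := by unfold vadd; omega

theorem vadd_comm (v w : ℕ) : vadd v w = vadd w v := by unfold vadd; omega

theorem lmul_lt {a b : ℕ} (ha : a < 168) (hb : b < 168) : lmul a b < 168 := by
  have := allB_spec lmul_lt' (a * 168 + b) (by omega)
  simpa [Nat.blt, lmul] using this

theorem wmul_def (x y : ℕ) :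
    wmul x y = vadd (x % 64) (lact (x / 64) (y % 64)) + 64 * lmul (x / 64) (y / 64) := by
  simp [wmul, force_eq]

theorem wmul_lt {x y : ℕ} (hx : x < wcard) (hy : y < wcard) : wmul x y < wcard := by
  rw [wmul_def]
  unfold wcard at *
  have := vadd_lt64 (x % 64) (lact (x / 64) (y % 64))
  have := lmul_lt (a := x / 64) (b := y / 64) (by omega) (by omega)
  omega

theorem wmul_vec {v : ℕ} (hv : v < 64) {y : ℕ} (hy : y < wcard) : wmul v y = vadd v (y % 64) + 64 * (y / 64) := by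
  have h1 := allB_spec chk_act (y % 64) (Nat.mod_lt _ (by norm_num))
  have h2 := allB_spec chk_units (y / 64) (by unfold wcard at hy; omega)
  simp only [Bool.and_eq_true] at h1 h2
  rw [wmul_def, Nat.mod_eq_of_lt hv, Nat.div_eq_of_lt hv, Nat.eq_of_beq_eq_true h1.1,
    Nat.eq_of_beq_eq_true h2.1]

namespace MRep

variable {ψ : ℕ → G} {t : G} {M R Cy : Subgroup G} (Ψ : MRep ψ t M)
include Ψ

theorem one : ψ 0 = 1 := by
  have h0 : wmul 0 0 = 0 := by decide +kernel
  have h := Ψ.mul 0 (by decide) 0 (by decide)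
  rw [h0] at h
  exact mul_left_cancel (a := ψ 0) (h.symm.trans (mul_one _).symm)

theorem mem {x : ℕ} (hx : x < wcard) : ψ x ∈ M := (Ψ.range _).2 ⟨x, hx, rfl⟩

theorem eq_iff {x y : ℕ} (hx : x < wcard) (hy : y < wcard) : ψ x = ψ y ↔ x = y :=
  ⟨fun h => Ψ.inj hx hy h, fun h => h ▸ rfl⟩

theorem com_iff {x y : ℕ} (hx : x < wcard) (hy : y < wcard) : com x y = true ↔ ψ x * ψ y = ψ y * ψ x := by
  rw [com, Nat.beq_eq, ← Ψ.mul x hx y hy, ← Ψ.mul y hy x hx, Ψ.eq_iff (wmul_lt hx hy) (wmul_lt hy hx)]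

theorem cent_iff {x : ℕ} (hx : x < wcard) : com x 32 = true ↔ ψ x ∈ centralizer ({t} : Set G) := by
  rw [Ψ.com_iff hx (by decide), mem_centralizer_singleton_iff, show ψ 32 = t from Ψ.tval]

theorem code {g : G} (hg : g ∈ M) (hc : g ∈ centralizer ({t} : Set G)) :
    ∃ x < wcard, com x 32 = true ∧ ψ x = g := by
  obtain ⟨x, hx, rfl⟩ := (Ψ.range g).1 hg
  exact ⟨x, hx, (Ψ.cent_iff hx).2 hc, rfl⟩

theorem z2b_of {x : ℕ} (hx : x < wcard) (ht : orderOf t = 2) (h : ψ x ∈ zpowers t) : z2b x = true := by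
  rw [z2b, Bool.or_eq_true]
  rcases (mem_zpowers_two ht).1 h with h | h
  · left; rw [← Ψ.one, Ψ.eq_iff hx (by decide)] at h; subst h; rfl
  · right; rw [← Ψ.tval, Ψ.eq_iff hx (by decide)] at h; subst h; rfl

theorem comT_of {x y : ℕ} (hx : x < wcard) (hy : y < wcard) (ht : orderOf t = 2)
    (h : ψ x * ψ y * (ψ x)⁻¹ * (ψ y)⁻¹ ∈ zpowers t) : comT x y = true := by
  simp only [comT, force_eq, Bool.or_eq_true, Nat.beq_eq]
  rcases (mem_zpowers_two ht).1 h with h | h
  · left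
    rw [← Ψ.eq_iff (wmul_lt hx hy) (wmul_lt hy hx), Ψ.mul x hx y hy, Ψ.mul y hy x hx]
    rw [mul_inv_eq_one, mul_inv_eq_iff_eq_mul] at h
    exact h
  · right
    rw [← Ψ.eq_iff (wmul_lt hx hy) (wmul_lt (by decide) (wmul_lt hy hx)), Ψ.mul x hx y hy,
      Ψ.mul 32 (by decide) _ (wmul_lt hy hx), Ψ.mul y hy x hx, show ψ 32 = t from Ψ.tval]
    rw [mul_inv_eq_iff_eq_mul, mul_inv_eq_iff_eq_mul, mul_assoc] at h
    exact h

/-- A conjugation in the model, read in the group. -/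
theorem conj_eq {g gi x : ℕ} (hg : g < wcard) (hi : gi < wcard) (hx : x < wcard) (h : wmul g gi = 0) :
    ψ (wmul (wmul g x) gi) = ψ g * ψ x * (ψ g)⁻¹ := by
  have e : ψ g * ψ gi = 1 := by rw [← Ψ.mul g hg gi hi, h, Ψ.one]
  rw [Ψ.mul _ (wmul_lt hg hx) gi hi, Ψ.mul g hg x hx, eq_inv_of_mul_eq_one_right e]

/-- The conjugation equation of a witness, read in the group. -/
theorem wit_eq {h x r z : ℕ} (hh : h < wcard) (hx : x < wcard) (hr : r < wcard) (hz : z < wcard)
    (e : wmul h x = wmul (wmul r z) h) : ψ h * ψ x * (ψ h)⁻¹ = ψ r * ψ z := by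
  rw [mul_inv_eq_iff_eq_mul, ← Ψ.mul h hh x hx, e, Ψ.mul _ (wmul_lt hr hz) h hh, Ψ.mul r hr z hz]

/-- The value of a word in the letters of the model. -/
theorem wval_lt (L : List ℕ) (hL : ∀ x ∈ L, x < 5) : wval L < wcard ∧
    wprod (fun i => ψ (wLetters.getD i 0)) L = ψ (wval L) := by
  induction L with
  | nil => exact ⟨by decide, Ψ.one.symm⟩
  | cons a L ih =>
    obtain ⟨h1, h2⟩ := ih fun x hx => hL x (List.mem_cons_of_mem a hx)
    have ha : wLetters.getD a 0 < wcard := by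
      have := hL a List.mem_cons_self
      interval_cases a <;> decide
    refine ⟨wmul_lt ha h1, ?_⟩
    show wprod _ (a :: L) = ψ (wmul (wLetters.getD a 0) (wval L))
    rw [Ψ.mul _ ha _ h1, ← h2]
    simp [wprod]

end MRep

/-- Codes and numbers of elements of the two candidates. -/
theorem lists_lt : (∀ x ∈ r1L, x < wcard) ∧ (∀ x ∈ r2L, x < wcard) ∧ (∀ x ∈ zL, x < wcard) ∧
    (∀ x ∈ gensC, x < wcard ∧ com x 32 = true ∧ wmul x x = 0) ∧ (∀ x ∈ rqL, x < 64) ∧ rqL.Nodup ∧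
    r1L.Nodup ∧ r2L.Nodup ∧ zL.Nodup := by
  refine ⟨?_, ?_, ?_, ?_, ?_, ?_, ?_, ?_, ?_⟩ <;> decide +kernel

variable [Finite G] {ψ : ℕ → G} {t : G} {M R Cy : Subgroup G}

theorem MRep.card_MC (Ψ : MRep ψ t M) : Nat.card ↥(M ⊓ centralizer ({t} : Set G)) = 1536 := by
  classical
  let F := (Finset.range wcard).filter fun x => com x 32 = true
  have hF : F.card = 1536 := by decide +kernel
  rw [← hF, ← Fintype.card_coe, ← Nat.card_eq_fintype_card]
  refine (Nat.card_eq_of_bijective (fun x : F => (⟨ψ x.1, ?_, ?_⟩ : ↥(M ⊓ centralizer ({t} : Set G)))) ⟨?_, ?_⟩).symm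
  · exact Ψ.mem (Finset.mem_range.1 (Finset.mem_filter.1 x.2).1)
  · exact (Ψ.cent_iff (Finset.mem_range.1 (Finset.mem_filter.1 x.2).1)).1 (Finset.mem_filter.1 x.2).2
  · intro x y e
    exact Subtype.ext (Ψ.inj (Finset.mem_range.1 (Finset.mem_filter.1 x.2).1)
      (Finset.mem_range.1 (Finset.mem_filter.1 y.2).1) (congrArg Subtype.val e))
  · rintro ⟨g, hg, hc⟩
    obtain ⟨x, hx, hxc, rfl⟩ := Ψ.code hg hc
    exact ⟨⟨x, Finset.mem_filter.2 ⟨Finset.mem_range.2 hx, hxc⟩⟩, rfl⟩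

namespace MRep

variable (Ψ : MRep ψ t M) (S : CSetup t R Cy M) (ht : orderOf t = 2)
include Ψ S ht

theorem sel0_of {x : ℕ} (hx : x < wcard) (hR : ψ x ∈ R) : com x 32 = true ∧ sel0 x = true := by
  refine ⟨(Ψ.cent_iff hx).2 (S.le hR), ?_⟩
  rw [sel0, Bool.and_eq_true]
  refine ⟨Ψ.z2b_of (wmul_lt hx hx) ht (Ψ.mul x hx x hx ▸ S.sq _ hR), ?_⟩
  have all : ∀ (L : List ℕ), (∀ g ∈ L, g ∈ gensC) → allL (fun g => force (wmul (wmul g x) g) fun y =>
      force (wmul x y) fun p => z2b (wmul p p)) L = true := by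
    intro L
    induction L with
    | nil => intro _; rfl
    | cons g L ih =>
      intro hL
      show (force _ _ && allL _ L) = true
      rw [Bool.and_eq_true, force_eq, force_eq]
      refine ⟨?_, ih fun y hy => hL y (List.mem_cons_of_mem g hy)⟩
      obtain ⟨hg, hgc, hgg⟩ := lists_lt.2.2.2.1 g (hL g List.mem_cons_self)
      have hy : ψ (wmul (wmul g x) g) ∈ R := by
        rw [Ψ.conj_eq hg hg hx hgg]
        exact S.norm _ ((Ψ.cent_iff hg).1 hgc) _ hR
      have hy' := wmul_lt (wmul_lt hg hx) hg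
      have hp : ψ (wmul x (wmul (wmul g x) g)) ∈ R := by
        rw [Ψ.mul x hx _ hy']; exact R.mul_mem hR hy
      exact Ψ.z2b_of (wmul_lt (wmul_lt hx hy') (wmul_lt hx hy')) ht
        (Ψ.mul _ (wmul_lt hx hy') _ (wmul_lt hx hy') ▸ S.sq _ hp)
  exact all gensC fun _ h => h

/-- The elements of `R ∩ O₂(M)`. -/
theorem rq_mem : ∀ q ∈ rqL, ψ q ∈ R := by
  classical
  let F := (Finset.range wcard).filter fun x => ψ x ∈ R
  have hF : F.card = 64 := by
    rw [← S.card64, ← Fintype.card_coe, ← Nat.card_eq_fintype_card]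
    refine Nat.card_eq_of_bijective (fun x : F => (⟨ψ x.1, (Finset.mem_filter.1 x.2).2⟩ : R)) ⟨?_, ?_⟩
    · intro x y e
      exact Subtype.ext (Ψ.inj (Finset.mem_range.1 (Finset.mem_filter.1 x.2).1)
        (Finset.mem_range.1 (Finset.mem_filter.1 y.2).1) (congrArg Subtype.val e))
    · rintro ⟨r, hr⟩
      obtain ⟨x, hx, e⟩ := (Ψ.range r).1 (S.leM hr)
      exact ⟨⟨x, Finset.mem_filter.2 ⟨Finset.mem_range.2 hx, e ▸ hr⟩⟩, Subtype.ext e⟩
  let A := rqL.toFinset.filter fun q => ψ q ∈ R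
  have hfib : ∀ l ∈ kL, (F.filter fun x => x / 64 = l).card ≤ A.card := by
    intro l _
    rcases (F.filter fun x => x / 64 = l).eq_empty_or_nonempty with h | ⟨x0, hx0⟩
    · rw [h]; simp
    simp only [F, Finset.mem_filter, Finset.mem_range] at hx0
    obtain ⟨⟨h0, h0R⟩, h0l⟩ := hx0
    refine Finset.card_le_card_of_injOn (fun x => vsub (x % 64) (x0 % 64)) ?_ ?_
    · intro x hx
      simp only [F, Finset.coe_filter, Finset.mem_range, Finset.mem_filter, Set.mem_setOf_eq] at hx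
      obtain ⟨⟨h1, h1R⟩, h1l⟩ := hx
      have hs := allB_spec chk_act (x % 64) (Nat.mod_lt _ (by norm_num))
      rw [Bool.and_eq_true] at hs
      have hs2 := allB_spec hs.2 (x0 % 64) (Nat.mod_lt _ (by norm_num))
      rw [Bool.and_eq_true, Nat.blt_eq, Nat.beq_eq] at hs2
      set q := vsub (x % 64) (x0 % 64)
      have hq : q < wcard := lt_trans hs2.1 (by decide)
      have he : wmul q x0 = x := by rw [wmul_vec hs2.1 h0, hs2.2, h0l, ← h1l]; omega
      have hqR : ψ q ∈ R := by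
        have := Ψ.mul q hq x0 h0
        rw [he, ← mul_inv_eq_iff_eq_mul] at this
        rw [← this]; exact R.mul_mem h1R (R.inv_mem h0R)
      simp only [A, Finset.coe_filter, List.mem_toFinset, Set.mem_setOf_eq]
      refine ⟨?_, hqR⟩
      have := allB_spec chk_Q q hs2.1
      rw [Bool.or_eq_true, Bool.not_eq_true', memb_iff] at this
      refine this.resolve_left fun h => ?_
      rw [Ψ.z2b_of (wmul_lt hq hq) ht (Ψ.mul q hq q hq ▸ S.sq _ hqR)] at h
      exact Bool.noConfusion h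
    · intro x hx y hy e
      simp only [F, Finset.coe_filter, Finset.mem_range, Finset.mem_filter, Set.mem_setOf_eq] at hx hy e
      have h1 := allB_spec chk_act (x % 64) (Nat.mod_lt _ (by norm_num))
      have h2 := allB_spec chk_act (y % 64) (Nat.mod_lt _ (by norm_num))
      rw [Bool.and_eq_true] at h1 h2
      have h1' := allB_spec h1.2 (x0 % 64) (Nat.mod_lt _ (by norm_num))
      have h2' := allB_spec h2.2 (x0 % 64) (Nat.mod_lt _ (by norm_num))
      rw [Bool.and_eq_true, Nat.beq_eq] at h1' h2'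
      rw [e] at h1'
      have : x % 64 = y % 64 := h1'.2.symm.trans h2'.2
      omega
  have hmaps : ∀ x ∈ F, x / 64 ∈ kL.toFinset := by
    intro x hx
    simp only [F, Finset.mem_filter, Finset.mem_range] at hx
    obtain ⟨h1, h2⟩ := Ψ.sel0_of S ht hx.1 hx.2
    have := allB_spec chk_K x hx.1
    simp only [h1, h2, Bool.not_true, Bool.false_or, memb_iff] at this
    exact List.mem_toFinset.2 this
  have hA : rqL.toFinset ⊆ A := by
    have hle : F.card ≤ A.card * kL.toFinset.card := Finset.card_le_mul_card_image_of_maps_to hmaps A.card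
      fun l hl => hfib l (List.mem_toFinset.1 hl)
    rw [hF, show kL.toFinset.card = 4 by decide] at hle
    have h16 : rqL.toFinset.card = 16 := by decide
    have : A = rqL.toFinset := Finset.eq_of_subset_of_card_le (Finset.filter_subset _ _) (by omega)
    rw [this]
  intro q hq
  exact (Finset.mem_filter.1 (hA (List.mem_toFinset.2 hq))).2

theorem mem_union {x : ℕ} (hx : x < wcard) (hR : ψ x ∈ R) : x ∈ r1L ∨ x ∈ r2L := by
  rcases lt_or_ge x 64 with h | h
  · have := allB_spec chk_Q x h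
    rw [Bool.or_eq_true, Bool.not_eq_true', Ψ.z2b_of (wmul_lt hx hx) ht (Ψ.mul x hx x hx ▸ S.sq _ hR),
      memb_iff] at this
    have h2 := allL_spec chk_rq x (this.resolve_left (by simp))
    rw [Bool.and_eq_true, memb_iff] at h2
    exact Or.inl h2.1
  · obtain ⟨h1, h2⟩ := Ψ.sel0_of S ht hx hR
    have hall : ∀ L : List ℕ, (∀ q ∈ L, q ∈ rqL) → allL (comT x) L = true := by
      intro L
      induction L with
      | nil => intro _; rfl
      | cons q L ih =>
        intro hL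
        show (comT x q && allL _ L) = true
        rw [Bool.and_eq_true]
        refine ⟨?_, ih fun y hy => hL y (List.mem_cons_of_mem q hy)⟩
        have hq := hL q List.mem_cons_self
        exact Ψ.comT_of hx (lt_trans (lists_lt.2.2.2.2.1 q hq) (by decide)) ht
          (S.comm _ hR _ (Ψ.rq_mem S ht q hq))
    have := allB_spec chk_sel x hx
    simp only [h1, h2, hall rqL (fun _ h => h), Bool.not_true, Bool.false_or, Bool.or_eq_true,
      memb_iff, Nat.blt_eq] at this
    rcases this with (h3 | h3) | h3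
    exacts [absurd h3 (not_lt.2 h), Or.inl h3, Or.inr h3]

/-- `R` is one of the two candidates. -/
theorem R_cases : ∃ L : List ℕ, (L = r1L ∨ L = r2L) ∧ ∀ x < wcard, (ψ x ∈ R ↔ x ∈ L) := by
  classical
  let F := (Finset.range wcard).filter fun x => ψ x ∈ R
  have hF : F.card = 64 := by
    rw [← S.card64, ← Fintype.card_coe, ← Nat.card_eq_fintype_card]
    refine Nat.card_eq_of_bijective (fun x : F => (⟨ψ x.1, (Finset.mem_filter.1 x.2).2⟩ : R)) ⟨?_, ?_⟩
    · intro x y e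
      exact Subtype.ext (Ψ.inj (Finset.mem_range.1 (Finset.mem_filter.1 x.2).1)
        (Finset.mem_range.1 (Finset.mem_filter.1 y.2).1) (congrArg Subtype.val e))
    · rintro ⟨r, hr⟩
      obtain ⟨x, hx, e⟩ := (Ψ.range r).1 (S.leM hr)
      exact ⟨⟨x, Finset.mem_filter.2 ⟨Finset.mem_range.2 hx, e ▸ hr⟩⟩, Subtype.ext e⟩
  have done : ∀ L : List ℕ, L.Nodup → L.length = 64 → (∀ x ∈ L, x < wcard) → (∀ x ∈ F, x ∈ L) →
      ∀ x < wcard, (ψ x ∈ R ↔ x ∈ L) := by
    intro L hnd hlen hlt hsub x hx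
    have hE : F = L.toFinset := Finset.eq_of_subset_of_card_le (fun y hy => List.mem_toFinset.2 (hsub y hy))
      (by rw [hF, List.toFinset_card_of_nodup hnd, hlen])
    constructor
    · exact fun h => hsub x (Finset.mem_filter.2 ⟨Finset.mem_range.2 hx, h⟩)
    · intro h
      have : x ∈ F := hE ▸ List.mem_toFinset.2 h
      exact (Finset.mem_filter.1 this).2
  have hun : ∀ x ∈ F, x ∈ r1L ∨ x ∈ r2L := fun x hx =>
    Ψ.mem_union S ht (Finset.mem_range.1 (Finset.mem_filter.1 hx).1) (Finset.mem_filter.1 hx).2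
  by_cases h1 : ∀ x ∈ F, x ∈ r1L
  · exact ⟨r1L, Or.inl rfl, done r1L lists_lt.2.2.2.2.2.2.1 rfl lists_lt.1 h1⟩
  by_cases h2 : ∀ x ∈ F, x ∈ r2L
  · exact ⟨r2L, Or.inr rfl, done r2L lists_lt.2.2.2.2.2.2.2.1 rfl lists_lt.2.1 h2⟩
  exfalso
  push_neg at h1 h2
  obtain ⟨a, ha, ha1⟩ := h1
  obtain ⟨b, hb, hb2⟩ := h2
  have ha2 := (hun a ha).resolve_left ha1
  have hb1 := (hun b hb).resolve_right hb2
  have h := allL_spec chk_split a ha2
  rw [Bool.or_eq_true, memb_iff] at h
  have h' := allL_spec (h.resolve_left ha1) b hb1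
  rw [Bool.or_eq_true, memb_iff] at h'
  have h'' := h'.resolve_left hb2
  simp only [force_eq, Bool.not_eq_true', Bool.or_eq_false_iff] at h''
  simp only [F, Finset.mem_filter, Finset.mem_range] at ha hb
  rcases Ψ.mem_union S ht (wmul_lt ha.1 hb.1) (Ψ.mul a ha.1 b hb.1 ▸ R.mul_mem ha.2 hb.2) with h3 | h3
  · rw [memb_iff.2 h3] at h''; exact Bool.noConfusion h''.1
  · rw [memb_iff.2 h3] at h''; exact Bool.noConfusion h''.2

/-- The centre of `R`, and the centraliser of `R` in `C_M(t)`. -/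
theorem centre {L : List ℕ} (hL : L = r1L ∨ L = r2L) (hR : ∀ x < wcard, (ψ x ∈ R ↔ x ∈ L)) :
    (∀ z ∈ zL, ψ z ∈ Cy) ∧
    ∀ g ∈ M, g ∈ centralizer ({t} : Set G) → (∀ r ∈ R, g * r = r * g) → g ∈ Cy ∧ ∃ z ∈ zL, ψ z = g := by
  have hLlt : ∀ x ∈ L, x < wcard := by rcases hL with rfl | rfl; exacts [lists_lt.1, lists_lt.2.1]
  have hz : ∀ z ∈ zL, ψ z ∈ Cy := by
    intro z hz
    have hzlt := lists_lt.2.2.1 z hz
    have h := allL_spec chk_centre z hz
    simp only [Bool.and_eq_true, memb_iff] at h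
    obtain ⟨⟨⟨⟨hz1, hz2⟩, hc1⟩, hc2⟩, -⟩ := h
    refine S.ccentre _ ((hR z hzlt).2 (by rcases hL with rfl | rfl; exacts [hz1, hz2])) fun r hr => ?_
    obtain ⟨y, hy, rfl⟩ := (Ψ.range r).1 (S.leM hr)
    have hyL := (hR y hy).1 hr
    refine (Ψ.com_iff hzlt hy).1 ?_
    rcases hL with rfl | rfl
    exacts [allL_spec hc1 y hyL, allL_spec hc2 y hyL]
  refine ⟨hz, fun g hg hgc hcom => ?_⟩
  obtain ⟨x, hx, hxc, rfl⟩ := Ψ.code hg hgc
  have hall : ∀ K : List ℕ, (∀ y ∈ K, y ∈ L) → allL (com x) K = true := by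
    intro K
    induction K with
    | nil => intro _; rfl
    | cons y K ih =>
      intro hK
      show (com x y && allL _ K) = true
      rw [Bool.and_eq_true]
      have hy := hK y List.mem_cons_self
      exact ⟨(Ψ.com_iff hx (hLlt y hy)).2 (hcom _ ((hR y (hLlt y hy)).2 hy)),
        ih fun w hw => hK w (List.mem_cons_of_mem y hw)⟩
  have hxz : x ∈ zL := by
    rcases hL with rfl | rfl
    · have := allB_spec chk_cent1 x hx
      simpa [hxc, hall r1L (fun _ h => h), memb_iff] using this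
    · have := allB_spec chk_cent2 x hx
      simpa [hxc, hall r2L (fun _ h => h), memb_iff] using this
  exact ⟨hz x hxz, x, hxz, rfl⟩

end MRep

end CfsgLib.InvChar.HSRec
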