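import Cfsg.Agent.Lib.InvChar.HSRec.RModel

/-!
Changing a copy of the model by the automorphism given by the cocycle.
-/

set_option autoImplicit false
set_option maxRecDepth 100000

namespace CfsgLib.InvChar.HSRec

open CfsgLib.InvChar.Coset Subgroup

variable {G : Type*} [Group G] {ψ : ℕ → G} {t : G} {M R : Subgroup G}

theorem chk_lact : allB (fun i => Nat.blt (field actT 128 8 i) 64) 10752 = true := by decide +kernel

theorem lact_lt64 {l w : ℕ} (hl : l < 168) (hw : w < 64) : lact l w < 64 := by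
  have := allB_spec chk_lact (l * 64 + w) (by omega)
  simpa [Nat.blt, lact] using this

theorem delta_spec {l : ℕ} (hl : l < 168) :
    delta l < 64 ∧ ∀ m < 168, delta (lmul l m) = vadd (delta l) (lact l (delta m)) := by
  have := allB_spec chk_delta l hl
  rw [Bool.and_eq_true, Nat.blt_eq] at this
  exact ⟨this.1, fun m hm => Nat.eq_of_beq_eq_true (allB_spec this.2 m hm)⟩

theorem phi_def (x : ℕ) : phi x = vadd (x % 64) (delta (x / 64)) + 64 * (x / 64) := by
  simp [phi, force_eq]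

theorem phi_lt {x : ℕ} (hx : x < wcard) : phi x < wcard := by
  rw [phi_def]
  have := vadd_lt64 (x % 64) (delta (x / 64))
  unfold wcard at *
  omega

namespace MRep

variable (Ψ : MRep ψ t M)
include Ψ

theorem split {v l : ℕ} (hv : v < 64) (hl : l < 168) : ψ (v + 64 * l) = ψ v * ψ (64 * l) := by
  have hvw : v < wcard := lt_trans hv (by decide)
  have hlw : 64 * l < wcard := by unfold wcard; omega
  rw [← Ψ.mul v hvw _ hlw, wmul_vec hv hlw]
  congr 1
  unfold vadd; omega

theorem vec_mul {v w : ℕ} (hv : v < 64) (hw : w < 64) : ψ (vadd v w) = ψ v * ψ w := by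
  rw [← Ψ.mul v (lt_trans hv (by decide)) w (lt_trans hw (by decide)), wmul_vec hv (lt_trans hw (by decide))]
  congr 1
  have := vadd_lt64 v w
  rw [Nat.mod_eq_of_lt hw, Nat.div_eq_of_lt hw]; omega

theorem vec_comm {v w : ℕ} (hv : v < 64) (hw : w < 64) : ψ v * ψ w = ψ w * ψ v := by
  rw [← Ψ.vec_mul hv hw, ← Ψ.vec_mul hw hv, vadd_comm]

theorem lin_vec {l w : ℕ} (hl : l < 168) (hw : w < 64) : ψ (64 * l) * ψ w = ψ (lact l w) * ψ (64 * l) := by
  have hlw : 64 * l < wcard := by unfold wcard; omega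
  have h2 := allB_spec chk_units l hl
  rw [Bool.and_eq_true] at h2
  rw [← Ψ.split (lact_lt64 hl hw) hl, ← Ψ.mul _ hlw w (lt_trans hw (by decide)), wmul_def,
    show 64 * l % 64 = 0 by omega, show 64 * l / 64 = l by omega, Nat.mod_eq_of_lt hw, Nat.div_eq_of_lt hw,
    Nat.eq_of_beq_eq_true h2.2]
  congr 1
  have := lact_lt64 hl hw
  unfold vadd; omega

theorem lin_lin {l m : ℕ} (hl : l < 168) (hm : m < 168) : ψ (64 * l) * ψ (64 * m) = ψ (64 * lmul l m) := by
  have hlw : 64 * l < wcard := by unfold wcard; omega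
  have hmw : 64 * m < wcard := by unfold wcard; omega
  rw [← Ψ.mul _ hlw _ hmw, wmul_def, show 64 * l % 64 = 0 by omega, show 64 * l / 64 = l by omega,
    show 64 * m % 64 = 0 by omega, show 64 * m / 64 = m by omega, Nat.eq_of_beq_eq_true (allB_spec chk_act0 l hl)]
  congr 1
  simp [vadd]

theorem phi_mul {x y : ℕ} (hx : x < wcard) (hy : y < wcard) : ψ (phi (wmul x y)) = ψ (phi x) * ψ (phi y) := by
  have hl : x / 64 < 168 := by unfold wcard at hx; omega
  have hm : y / 64 < 168 := by unfold wcard at hy; omega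
  set v := x % 64 with hv'
  set l := x / 64
  set w := y % 64 with hw'
  set m := y / 64
  have hv : v < 64 := Nat.mod_lt _ (by norm_num)
  have hw : w < 64 := Nat.mod_lt _ (by norm_num)
  obtain ⟨hdl, hdel⟩ := delta_spec hl
  have hdm := (delta_spec hm).1
  have hlw := lact_lt64 hl hw
  have hldm := lact_lt64 hl hdm
  have hlm := lmul_lt hl hm
  have hdlm := (delta_spec hlm).1
  have e1 : ∀ a b : ℕ, a < 64 → b < 168 → ψ (phi (a + 64 * b)) = ψ a * ψ (delta b) * ψ (64 * b) := by
    intro a b ha hb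
    rw [phi_def, show (a + 64 * b) % 64 = a by omega, show (a + 64 * b) / 64 = b by omega,
      Ψ.split (vadd_lt64 _ _) hb, Ψ.vec_mul ha (delta_spec hb).1]
  have ex : x = v + 64 * l := by omega
  have ey : y = w + 64 * m := by omega
  have exy : wmul x y = vadd v (lact l w) + 64 * lmul l m := wmul_def x y
  rw [exy, e1 _ _ (vadd_lt64 _ _) hlm, ex, ey, e1 _ _ hv hl, e1 _ _ hw hm, Ψ.vec_mul hv hlw, hdel m hm,
    Ψ.vec_mul hdl hldm, ← Ψ.lin_lin hl hm]
  calc ψ v * ψ (lact l w) * (ψ (delta l) * ψ (lact l (delta m))) * (ψ (64 * l) * ψ (64 * m))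
      = ψ v * (ψ (lact l w) * ψ (delta l)) * (ψ (lact l (delta m)) * ψ (64 * l)) * ψ (64 * m) := by
        simp only [mul_assoc]
    _ = ψ v * (ψ (delta l) * ψ (lact l w)) * (ψ (64 * l) * ψ (delta m)) * ψ (64 * m) := by
        rw [Ψ.vec_comm hlw hdl, Ψ.lin_vec hl hdm]
    _ = ψ v * ψ (delta l) * (ψ (lact l w) * ψ (64 * l)) * ψ (delta m) * ψ (64 * m) := by
        simp only [mul_assoc]
    _ = ψ v * ψ (delta l) * (ψ (64 * l) * ψ w) * ψ (delta m) * ψ (64 * m) := by rw [Ψ.lin_vec hl hw]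
    _ = ψ v * ψ (delta l) * ψ (64 * l) * (ψ w * ψ (delta m) * ψ (64 * m)) := by simp only [mul_assoc]

theorem phi_inj : Set.InjOn (ψ ∘ phi) (Set.Iio wcard) := by
  intro x hx y hy e
  have hx' : x < wcard := hx
  have hy' : y < wcard := hy
  have h := Ψ.inj (phi_lt hx') (phi_lt hy') e
  rw [phi_def, phi_def] at h
  have hl : x / 64 = y / 64 := by
    have := vadd_lt64 (x % 64) (delta (x / 64))
    have := vadd_lt64 (y % 64) (delta (y / 64))
    omega
  rw [hl] at h
  have h' : vadd (x % 64) (delta (y / 64)) = vadd (y % 64) (delta (y / 64)) := by omega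
  have hd := (delta_spec (l := y / 64) (by unfold wcard at hy'; omega)).1
  have h2 := congrArg ψ h'
  rw [Ψ.vec_mul (Nat.mod_lt _ (by norm_num)) hd, Ψ.vec_mul (Nat.mod_lt _ (by norm_num)) hd] at h2
  have h3 := Ψ.inj (show x % 64 < wcard by unfold wcard; omega) (show y % 64 < wcard by unfold wcard; omega)
    (mul_right_cancel h2)
  omega

/-- The twisted copy of the model. -/
theorem twist [Finite G] : MRep (ψ ∘ phi) t M where
  mul x hx y hy := Ψ.phi_mul hx hy
  inj := Ψ.phi_inj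
  range g := by
    constructor
    · intro hg
      classical
      let F : Fin wcard → M := fun x => ⟨ψ (phi x), Ψ.mem (phi_lt x.2)⟩
      let F₀ : Fin wcard → M := fun x => ⟨ψ x, Ψ.mem x.2⟩
      have hF : Function.Injective F := fun a b e => Fin.ext (Ψ.phi_inj a.2 b.2 (congrArg Subtype.val e))
      have hF₀ : Function.Surjective F₀ := fun u => by
        obtain ⟨x, hx, e⟩ := (Ψ.range u.1).1 u.2
        exact ⟨⟨x, hx⟩, Subtype.ext e⟩
      obtain ⟨x, e⟩ := (hF.bijective_of_nat_card_le (Nat.card_le_card_of_surjective F₀ hF₀)).2 ⟨g, hg⟩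
      exact ⟨x.1, x.2, congrArg Subtype.val e⟩
    · rintro ⟨x, hx, rfl⟩
      exact Ψ.mem (phi_lt hx)
  tval := by
    show ψ (phi wT) = t
    rw [show phi wT = wT by decide +kernel, Ψ.tval]

theorem twist_R [Finite G] (hR : ∀ x < wcard, (ψ x ∈ R ↔ x ∈ r2L)) :
    ∀ x < wcard, ((ψ ∘ phi) x ∈ R ↔ x ∈ r2L) := by
  intro x hx
  show ψ (phi x) ∈ R ↔ _
  rw [hR _ (phi_lt hx)]
  have hmap : ∀ r ∈ r2L.toFinset, phi r ∈ r2L.toFinset := fun r hr =>
    List.mem_toFinset.2 (memb_iff.1 (allL_spec chk_phiR r (List.mem_toFinset.1 hr)))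
  have hinj : Set.InjOn phi (r2L.toFinset : Set ℕ) := fun a ha b hb e =>
    Ψ.phi_inj (lists_lt.2.1 a (List.mem_toFinset.1 ha)) (lists_lt.2.1 b (List.mem_toFinset.1 hb))
      (congrArg ψ e)
  constructor
  · intro h
    obtain ⟨r, hr, e⟩ := Finset.surjOn_of_injOn_of_card_le phi hmap hinj le_rfl (List.mem_toFinset.2 h)
    have := Ψ.phi_inj hx (lists_lt.2.1 r (List.mem_toFinset.1 hr)) (congrArg ψ e.symm)
    exact this ▸ List.mem_toFinset.1 hr
  · exact fun h => List.mem_toFinset.1 (hmap x (List.mem_toFinset.2 h))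

end MRep

end CfsgLib.InvChar.HSRec
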